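import Groth.Agent.GrSyz.Res

/-!
Hilbert functions from graded free resolutions.
-/

set_option autoImplicit false

universe u

namespace Groth.GrSyzLib

open MvPolynomial DirectSum

noncomputable section

theorem finrank_eq_map_add_inf_ker {k V W : Type*} [DivisionRing k] [AddCommGroup V] [Module k V]
    [AddCommGroup W] [Module k W] (f : V →ₗ[k] W) (p : Submodule k V) [Module.Finite k p] :
    Module.finrank k p = Module.finrank k (p.map f) + Module.finrank k ↥(p ⊓ LinearMap.ker f) := by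
  rw [← LinearMap.finrank_range_add_finrank_ker (f.domRestrict p), LinearMap.range_domRestrict,
    LinearMap.ker_domRestrict]
  congr 1
  rw [← Submodule.map_comap_subtype, Submodule.finrank_map_subtype_eq]

variable {k : Type u} [Field k] {r : ℕ}


/-- A piece of a free module is a product of pieces of the ring. -/
def frEquiv {n : ℕ} (deg : Fin n → ℤ) (g : ℤ) :
    fr (k := k) (σ := Fin (r + 1)) deg g ≃ₗ[k] ∀ b, GrSyz.stdGr k (Fin (r + 1)) (g - deg b) where
  toFun v b := ⟨v.1 b, mem_fr.1 v.2 b⟩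
  invFun v := ⟨fun b => (v b).1, mem_fr.2 fun b => (v b).2⟩
  map_add' _ _ := rfl
  map_smul' _ _ := rfl
  left_inv _ := rfl
  right_inv _ := rfl

instance finite_fr {n : ℕ} (deg : Fin n → ℤ) (g : ℤ) :
    Module.Finite k (fr (k := k) (σ := Fin (r + 1)) deg g) :=
  have : ∀ b, Module.Finite k (GrSyz.stdGr k (Fin (r + 1)) (g - deg b)) := fun _ =>
    (finite_and_finrank_stdGr r _).1
  Module.Finite.equiv (frEquiv deg g).symm

theorem finrank_fr {n : ℕ} (deg : Fin n → ℤ) (g : ℤ) :
    (Module.finrank k (fr (k := k) (σ := Fin (r + 1)) deg g) : ℤ) =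
      ∑ b, if deg b ≤ g then ((Nat.choose (r + (g - deg b).toNat) r : ℕ) : ℤ) else 0 := by
  have : ∀ b, Module.Finite k (GrSyz.stdGr k (Fin (r + 1)) (g - deg b)) := fun _ =>
    (finite_and_finrank_stdGr r _).1
  rw [(frEquiv deg g).finrank_eq, Module.finrank_pi_fintype, Nat.cast_sum]
  refine Finset.sum_congr rfl fun b _ => ?_
  simp only [(finite_and_finrank_stdGr r (g - deg b)).2, sub_nonneg]

variable {M : Type u} [AddCommGroup M] [Module k M] [Module (MvPolynomial (Fin (r + 1)) k) M] [IsScalarTower k (MvPolynomial (Fin (r + 1)) k) M]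
  {ℳ : ℤ → Submodule k M} [Decomposition ℳ] [SetLike.GradedSMul (GrSyz.stdGr k (Fin (r + 1))) ℳ]
  (F : GrSyz.FreeRes (GrSyz.stdGr k (Fin (r + 1))) ℳ) (d : ℤ)

/-- The degree-`d` part of the image of the differential into the `i`-th term. -/
def img (i : ℕ) : Submodule k (Fin (F.rk i) → (MvPolynomial (Fin (r + 1)) k)) :=
  (fr (F.deg (i + 1)) d).map ((F.d i).mulVecLin.restrictScalars k)

theorem map_aug : (fr (F.deg 0) d).map
    ((Fintype.linearCombination (MvPolynomial (Fin (r + 1)) k) F.aug).restrictScalars k) = ℳ d := by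
  refine le_antisymm ?_ fun y hy => ?_
  · rintro _ ⟨x, hx, rfl⟩
    exact linearCombination_mem ℳ F.aug_mem d x hx
  · obtain ⟨x, hx, hxy⟩ := exists_preimage (fr (F.deg 0)) ℳ (Fintype.linearCombination (MvPolynomial (Fin (r + 1)) k) F.aug)
      (linearCombination_mem ℳ F.aug_mem) hy (F.aug_surjective y)
    exact ⟨x, hx, hxy⟩

theorem inf_ker_aug : fr (F.deg 0) d ⊓
    LinearMap.ker ((Fintype.linearCombination (MvPolynomial (Fin (r + 1)) k) F.aug).restrictScalars k) = img F d 0 := by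
  refine le_antisymm ?_ ?_
  · rintro y ⟨hy, hy'⟩
    have hy'' : y ∈ LinearMap.ker (Fintype.linearCombination (MvPolynomial (Fin (r + 1)) k) F.aug) := hy'
    rw [F.exact_zero] at hy''
    obtain ⟨x, hx, hxy⟩ := exists_preimage (fr (F.deg (0 + 1))) (fr (F.deg 0)) _
      (mulVec_mem (isHomMat_d F 0)) hy hy''
    exact ⟨x, hx, hxy⟩
  · rintro _ ⟨x, hx, rfl⟩
    refine ⟨mulVec_mem (isHomMat_d F 0) d x hx, ?_⟩
    exact F.exact_zero.ge ⟨x, rfl⟩

theorem inf_ker_d (i : ℕ) : fr (F.deg (i + 1)) d ⊓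
    LinearMap.ker ((F.d i).mulVecLin.restrictScalars k) = img F d (i + 1) := by
  refine le_antisymm ?_ ?_
  · rintro y ⟨hy, hy'⟩
    have hy'' : y ∈ LinearMap.ker (F.d i).mulVecLin := hy'
    rw [F.exact_succ] at hy''
    obtain ⟨x, hx, hxy⟩ := exists_preimage (fr (F.deg (i + 1 + 1))) (fr (F.deg (i + 1))) _
      (mulVec_mem (isHomMat_d F (i + 1))) hy hy''
    exact ⟨x, hx, hxy⟩
  · rintro _ ⟨x, hx, rfl⟩
    refine ⟨mulVec_mem (isHomMat_d F (i + 1)) d x hx, ?_⟩
    exact (F.exact_succ i).ge ⟨x, rfl⟩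

instance finite_img (i : ℕ) : Module.Finite k (img F d i) := by
  unfold img; infer_instance

theorem alternating_sum (n : ℕ) :
    (∑ i ∈ Finset.range (n + 1), (-1 : ℤ) ^ i *
      (Module.finrank k (fr (k := k) (σ := Fin (r + 1)) (F.deg i) d) : ℤ)) =
      Module.finrank k (ℳ d) + (-1) ^ n * Module.finrank k (img F d n) := by
  induction n with
  | zero =>
    simp only [zero_add, Finset.sum_range_one, pow_zero, one_mul]
    rw [finrank_eq_map_add_inf_ker ((Fintype.linearCombination (MvPolynomial (Fin (r + 1)) k) F.aug).restrictScalars k),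
      map_aug, inf_ker_aug]
    simp
  | succ n ih =>
    have h : Module.finrank k (fr (k := k) (σ := Fin (r + 1)) (F.deg (n + 1)) d) =
        Module.finrank k (img F d n) + Module.finrank k (img F d (n + 1)) := by
      rw [finrank_eq_map_add_inf_ker ((F.d n).mulVecLin.restrictScalars k) (fr (F.deg (n + 1)) d),
        inf_ker_d]
      rfl
    rw [Finset.sum_range_succ, ih, h, pow_succ]
    push_cast
    ring

theorem img_eq_bot {n : ℕ} (h : F.rk (n + 1) = 0) : img F d n = ⊥ := by
  refine eq_bot_iff.2 ?_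
  rintro _ ⟨x, -, rfl⟩
  have : IsEmpty (Fin (F.rk (n + 1))) := by rw [h]; infer_instance
  simp [Subsingleton.elim x 0]

/-- The Hilbert function from a finite resolution. -/
theorem hilbert (m : ℕ) (hF : F.HasLengthLE m) :
    (Module.finrank k ↥(ℳ d) : ℤ) =
      ∑ i ∈ Finset.range (m + 1), (-1 : ℤ) ^ i * ∑ b : Fin (F.rk i),
        (if F.deg i b ≤ d then ((Nat.choose (r + (d - F.deg i b).toNat) r : ℕ) : ℤ) else 0) := by
  have := alternating_sum F d m
  rw [img_eq_bot F d (hF (m + 1) (Nat.lt_succ_self m)), finrank_bot] at this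
  simp only [finrank_fr] at this
  rw [this]
  simp

end

end Groth.GrSyzLib

namespace Groth.GrSyzLib

open MvPolynomial DirectSum

section regroup

variable {k : Type u} [Field k] {σ : Type} {M : Type u} [AddCommGroup M] [Module k M]
  [Module (MvPolynomial σ k) M] {ℳ : ℤ → Submodule k M} [Decomposition ℳ]
  [SetLike.GradedSMul (GrSyz.stdGr k σ) ℳ] (F : GrSyz.FreeRes (GrSyz.stdGr k σ) ℳ)

/-- The alternating Betti number of degree `j`. -/
noncomputable def altBetti (m : ℕ) (j : ℤ) : ℤ :=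
  ∑ i ∈ Finset.range (m + 1), (-1 : ℤ) ^ i * (F.betti i j : ℤ)

/-- All basis degrees up to the `m`-th term. -/
noncomputable def degs (m : ℕ) : Finset ℤ :=
  (Finset.range (m + 1)).biUnion fun i => Finset.univ.image (F.deg i)

theorem altBetti_eq_zero {m : ℕ} {j : ℤ} (hj : j ∉ degs F m) : altBetti F m j = 0 := by
  refine Finset.sum_eq_zero fun i hi => ?_
  have : F.betti i j = 0 := Finset.card_eq_zero.2 (Finset.filter_eq_empty_iff.2 fun b _ hb =>
    hj (Finset.mem_biUnion.2 ⟨i, hi, Finset.mem_image.2 ⟨b, Finset.mem_univ b, hb⟩⟩))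
  simp [this]

theorem sum_deg_eq (m : ℕ) (f : ℤ → ℤ) :
    ∑ i ∈ Finset.range (m + 1), (-1 : ℤ) ^ i * ∑ b : Fin (F.rk i), f (F.deg i b) =
      ∑ j ∈ degs F m, altBetti F m j * f j := by
  classical
  simp only [altBetti, Finset.sum_mul]
  rw [Finset.sum_comm]
  refine Finset.sum_congr rfl fun i hi => ?_
  rw [← Finset.sum_fiberwise_of_maps_to (t := degs F m) (g := F.deg i) (fun b _ =>
    Finset.mem_biUnion.2 ⟨i, hi, Finset.mem_image.2 ⟨b, Finset.mem_univ b, rfl⟩⟩), Finset.mul_sum]
  refine Finset.sum_congr rfl fun j _ => ?_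
  rw [Finset.sum_congr rfl fun b hb => by rw [(Finset.mem_filter.1 hb).2], Finset.sum_const,
    nsmul_eq_mul, mul_assoc]
  rfl

end regroup

end Groth.GrSyzLib
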