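import Groth.Prelude.Def_GrSyz
import Mathlib

/-! The standard ℤ-grading of a polynomial ring over a field and its irrelevant ideal. -/

set_option autoImplicit false

universe u

namespace Groth.GrSyzLib

open MvPolynomial

variable {k : Type u} [Field k] {σ : Type}

theorem weight_one (m : σ →₀ ℕ) : Finsupp.weight (fun _ : σ => (1 : ℤ)) m = (m.degree : ℤ) := by
  simp [Finsupp.weight_apply, Finsupp.sum, Finsupp.degree_apply, Nat.cast_sum]

theorem mem_stdGr_iff' {g : ℤ} {p : MvPolynomial σ k} :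
    p ∈ GrSyz.stdGr k σ g ↔ ∀ m, coeff m p ≠ 0 → (m.degree : ℤ) = g := by
  rw [GrSyz.mem_stdGr_iff]
  exact forall_congr' fun m => imp_congr_right fun _ => by rw [weight_one]

theorem eq_zero_of_neg {g : ℤ} (hg : g < 0) {p : MvPolynomial σ k}
    (hp : p ∈ GrSyz.stdGr k σ g) : p = 0 := by
  ext m
  by_contra h
  rw [coeff_zero] at h
  have := mem_stdGr_iff'.1 hp m h
  omega

theorem stdGr_natCast (n : ℕ) : GrSyz.stdGr k σ (n : ℤ) = homogeneousSubmodule σ k n := by
  ext p
  rw [mem_stdGr_iff', mem_homogeneousSubmodule, IsHomogeneous, IsWeightedHomogeneous]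
  refine forall_congr' fun m => imp_congr_right fun _ => ?_
  rw [Finsupp.degree_eq_weight_one, Nat.cast_inj]
  rfl

theorem C_mem (a : k) : (C a : MvPolynomial σ k) ∈ GrSyz.stdGr k σ 0 :=
  isWeightedHomogeneous_C _ a

theorem one_mem' : (1 : MvPolynomial σ k) ∈ GrSyz.stdGr k σ 0 := by
  simpa using C_mem (1 : k)

theorem X_mem (i : σ) : (X i : MvPolynomial σ k) ∈ GrSyz.stdGr k σ 1 :=
  isWeightedHomogeneous_X k _ i

theorem eq_C_of_mem_zero {p : MvPolynomial σ k} (hp : p ∈ GrSyz.stdGr k σ 0) :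
    p = C (constantCoeff p) := by
  classical
  ext m
  rw [coeff_C]
  split_ifs with h
  · subst h; rw [constantCoeff_eq]
  · by_contra hne
    have := mem_stdGr_iff'.1 hp m hne
    exact h (Finsupp.degree_eq_zero_iff m |>.1 (by exact_mod_cast this)).symm

theorem constantCoeff_eq_zero_of_ne {g : ℤ} (hg : g ≠ 0) {p : MvPolynomial σ k}
    (hp : p ∈ GrSyz.stdGr k σ g) : constantCoeff p = 0 := by
  by_contra h
  rw [constantCoeff_eq] at h
  have := mem_stdGr_iff'.1 hp 0 h
  simp at this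
  exact hg this.symm

theorem mem_irrel_iff {p : MvPolynomial σ k} :
    p ∈ (GrSyz.irrel (GrSyz.stdGr k σ)).toIdeal ↔ constantCoeff p = 0 := by
  classical
  constructor
  · intro hp
    suffices (GrSyz.irrel (GrSyz.stdGr k σ)).toIdeal ≤ RingHom.ker constantCoeff from this hp
    exact Ideal.span_le.2 fun r ⟨n, hn, hr⟩ => constantCoeff_eq_zero_of_ne hn.ne' hr
  · intro hp
    rw [p.as_sum]
    refine Ideal.sum_mem _ fun m hm => Ideal.subset_span ⟨(m.degree : ℤ), ?_, ?_⟩
    · refine Nat.cast_pos.2 (Nat.pos_of_ne_zero fun h => ?_)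
      rw [Finsupp.degree_eq_zero_iff] at h
      subst h
      exact (mem_support_iff.1 hm) (by rwa [← constantCoeff_eq])
    · rw [mem_stdGr_iff']
      intro m' hm'
      rw [coeff_monomial] at hm'
      split_ifs at hm' with e
      · rw [e]
      · exact absurd rfl hm'

theorem one_notMem_irrel : (1 : MvPolynomial σ k) ∉ (GrSyz.irrel (GrSyz.stdGr k σ)).toIdeal := fun h => by
  simpa using mem_irrel_iff.1 h

theorem irrel_ne_top : (GrSyz.irrel (GrSyz.stdGr k σ)).toIdeal ≠ ⊤ := fun h =>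
  one_notMem_irrel (h ▸ Submodule.mem_top)

/-- A nonzero homogeneous element of the irrelevant ideal has positive degree. -/
theorem pos_of_mem_irrel {g : ℤ} {p : MvPolynomial σ k} (hp : p ∈ GrSyz.stdGr k σ g)
    (hp' : p ∈ (GrSyz.irrel (GrSyz.stdGr k σ)).toIdeal) (hne : p ≠ 0) : 0 < g := by
  rcases lt_trichotomy g 0 with h | h | h
  · exact absurd (eq_zero_of_neg h hp) hne
  · subst h
    refine absurd ?_ hne
    rw [eq_C_of_mem_zero hp, mem_irrel_iff.1 hp', C_0]
  · exact h

theorem iInf_irrel_pow [Finite σ] :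
    ⨅ n : ℕ, (GrSyz.irrel (GrSyz.stdGr k σ)).toIdeal ^ n = ⊥ :=
  Ideal.iInf_pow_eq_bot_of_isDomain _ irrel_ne_top

/-- An idempotent matrix with entries in the irrelevant ideal is zero. -/
theorem eq_zero_of_idempotent [Finite σ] {n : ℕ} (E : Matrix (Fin n) (Fin n) (MvPolynomial σ k))
    (hE : E * E = E) (h : ∀ a b, E a b ∈ (GrSyz.irrel (GrSyz.stdGr k σ)).toIdeal) : E = 0 := by
  refine Matrix.ext fun a b => ?_
  have key : ∀ N : ℕ, ∀ a b, E a b ∈ (GrSyz.irrel (GrSyz.stdGr k σ)).toIdeal ^ (N + 1) := by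
    intro N
    induction N with
    | zero => simpa using h
    | succ N ih =>
      intro a b
      rw [← hE, Matrix.mul_apply, pow_succ]
      exact Ideal.sum_mem _ fun c _ => Ideal.mul_mem_mul (ih a c) (h c b)
  have : E a b ∈ ⨅ n : ℕ, (GrSyz.irrel (GrSyz.stdGr k σ)).toIdeal ^ n :=
    Submodule.mem_iInf _ |>.2 fun N => Ideal.pow_le_pow_right (Nat.le_succ N) (key N a b)
  rw [iInf_irrel_pow] at this
  simpa using this

theorem natCard_exps (r d : ℕ) :
    Nat.card {e : Fin (r + 1) →₀ ℕ | e.degree = d} = (r + d).choose d := by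
  classical
  have e : Sym (Fin (r + 1)) d ≃ {e : Fin (r + 1) →₀ ℕ | e.degree = d} :=
    (Sym.equivNatSum _ d).trans (Equiv.subtypeEquivRight fun P => by
      simp [Finsupp.sum, Finsupp.degree_apply])
  rw [← Nat.card_congr e, Nat.card_eq_fintype_card, Sym.card_sym_eq_choose, Fintype.card_fin]
  congr 1
  omega

/-- The dimension of a piece of the polynomial ring in `r + 1` variables. -/
theorem finite_and_finrank_stdGr (r : ℕ) (g : ℤ) :
    Module.Finite k (GrSyz.stdGr k (Fin (r + 1)) g) ∧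
    (Module.finrank k (GrSyz.stdGr k (Fin (r + 1)) g) : ℤ) =
      if 0 ≤ g then ((Nat.choose (r + g.toNat) r : ℕ) : ℤ) else 0 := by
  rcases lt_or_ge g 0 with hg | hg
  · have : GrSyz.stdGr k (Fin (r + 1)) g = ⊥ := eq_bot_iff.2 fun p hp => eq_zero_of_neg hg hp
    rw [this, if_neg (by omega)]
    exact ⟨inferInstance, by simp⟩
  · obtain ⟨d, rfl⟩ := Int.eq_ofNat_of_zero_le hg
    rw [stdGr_natCast, if_pos hg, Int.toNat_natCast]
    let b : Module.Basis {e : Fin (r + 1) →₀ ℕ | e.degree = d} k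
        (homogeneousSubmodule (Fin (r + 1)) k d) :=
      (basisRestrictSupport k _).map
        (LinearEquiv.ofEq _ _ (homogeneousSubmodule_eq_finsupp_supported _ _ d).symm)
    have hfin : Finite {e : Fin (r + 1) →₀ ℕ | e.degree = d} :=
      Nat.finite_of_card_ne_zero (by rw [natCard_exps]; exact (Nat.choose_pos (by omega)).ne')
    refine ⟨Module.Finite.of_basis b, ?_⟩
    rw [Module.finrank_eq_nat_card_basis b, natCard_exps, Nat.choose_symm_add]

end Groth.GrSyzLib
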