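import Groth.Agent.GrSyz.Cone

/-!
Resolutions of cokernels without naming the module, and cutting by a regular sequence of linear
forms.
-/

set_option autoImplicit false

universe u

namespace Groth.GrSyzLib

open MvPolynomial DirectSum Matrix

noncomputable section

variable {k : Type u} [Field k] {σ : Type} {n : ℕ}

/-- Ranks with a prescribed first term. -/
def extRk (n : ℕ) (rk : ℕ → ℕ) : ℕ → ℕ
  | 0 => n
  | i + 1 => rk i

/-- Degrees with a prescribed first term. -/
def extDeg {n : ℕ} {rk : ℕ → ℕ} (deg₀ : Fin n → ℤ) (deg : ∀ i, Fin (rk i) → ℤ) :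
    ∀ i, Fin (extRk n rk i) → ℤ
  | 0 => deg₀
  | i + 1 => deg i

/-- Differentials with a prescribed first one. -/
def extD {R : Type*} {n : ℕ} {rk : ℕ → ℕ} (d₀ : Matrix (Fin n) (Fin (rk 0)) R)
    (d : ∀ i, Matrix (Fin (rk i)) (Fin (rk (i + 1))) R) :
    ∀ i, Matrix (Fin (extRk n rk i)) (Fin (extRk n rk (i + 1))) R
  | 0 => d₀
  | i + 1 => d i

/-- `S^n ⧸ Z` has a free resolution starting with the given basis, generated in degrees `≤ r + i`. -/
def HasRes (deg₀ : Fin n → ℤ) (r : ℤ)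
    (Z : Submodule (MvPolynomial σ k) (Fin n → MvPolynomial σ k)) : Prop :=
  (∀ a, deg₀ a ≤ r) ∧ ∃ (rk : ℕ → ℕ) (deg : ∀ i, Fin (rk i) → ℤ)
    (d₀ : Matrix (Fin n) (Fin (rk 0)) (MvPolynomial σ k))
    (d : ∀ i, Matrix (Fin (rk i)) (Fin (rk (i + 1))) (MvPolynomial σ k)),
    IsHomMat deg₀ (deg 0) d₀ ∧ (∀ i, IsHomMat (deg i) (deg (i + 1)) (d i)) ∧
    LinearMap.range d₀.mulVecLin = Z ∧
    LinearMap.ker d₀.mulVecLin = LinearMap.range (d 0).mulVecLin ∧
    (∀ i, LinearMap.ker (d i).mulVecLin = LinearMap.range (d (i + 1)).mulVecLin) ∧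
    ∀ i b, deg i b ≤ r + (i + 1 : ℕ)

/-- The free module itself. -/
theorem hasRes_bot (deg₀ : Fin n → ℤ) {r : ℤ} (h : ∀ a, deg₀ a ≤ r) :
    HasRes (k := k) (σ := σ) deg₀ r ⊥ :=
  ⟨h, fun _ => 0, fun _ b => b.elim0, 0, fun _ => 0, fun _ b => b.elim0, fun _ a => a.elim0,
    LinearMap.range_eq_bot.2 (LinearMap.ext fun v => by simp),
    Subsingleton.elim _ _, fun _ => Subsingleton.elim _ _, fun _ b => b.elim0⟩

theorem hasRes_of_freeRes {M : Type u} [AddCommGroup M] [Module k M] [Module (MvPolynomial σ k) M]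
    {ℳ : ℤ → Submodule k M} [Decomposition ℳ] [SetLike.GradedSMul (GrSyz.stdGr k σ) ℳ]
    (F : GrSyz.FreeRes (GrSyz.stdGr k σ) ℳ) {r : ℤ} (hF : F.IsGenLE r) :
    HasRes (F.deg 0) r (LinearMap.range (F.d 0).mulVecLin) :=
  ⟨fun a => by simpa using hF 0 a, fun i => F.rk (i + 1), fun i => F.deg (i + 1), F.d 0,
    fun i => F.d (i + 1), isHomMat_d F 0, fun i => isHomMat_d F (i + 1), rfl, F.exact_succ 0,
    fun i => F.exact_succ (i + 1), fun i b => hF (i + 1) b⟩

theorem HasRes.of_fintype {deg₀ : Fin n → ℤ} {r : ℤ}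
    {Z : Submodule (MvPolynomial σ k) (Fin n → MvPolynomial σ k)} (h₀ : ∀ a, deg₀ a ≤ r)
    (T : ℕ → Type) [∀ i, Fintype (T i)] (deg : ∀ i, T i → ℤ)
    (d₀ : Matrix (Fin n) (T 0) (MvPolynomial σ k))
    (d : ∀ i, Matrix (T i) (T (i + 1)) (MvPolynomial σ k))
    (hd₀ : ∀ a b, d₀ a b ∈ GrSyz.stdGr k σ (deg 0 b - deg₀ a))
    (hd : ∀ i a b, d i a b ∈ GrSyz.stdGr k σ (deg (i + 1) b - deg i a))
    (hZ : ∀ u, u ∈ Z ↔ ∃ x, d₀.mulVecLin x = u)
    (h1 : LinearMap.ker d₀.mulVecLin = LinearMap.range (d 0).mulVecLin)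
    (hs : ∀ i, LinearMap.ker (d i).mulVecLin = LinearMap.range (d (i + 1)).mulVecLin)
    (hr : ∀ i b, deg i b ≤ r + (i + 1 : ℕ)) : HasRes deg₀ r Z := by
  classical
  let e : ∀ i, Fin (Fintype.card (T i)) ≃ T i := fun i => (Fintype.equivFin (T i)).symm
  refine ⟨h₀, fun i => Fintype.card (T i), fun i b => deg i (e i b),
    d₀.submatrix (Equiv.refl _) (e 0), fun i => (d i).submatrix (e i) (e (i + 1)),
    fun a b => hd₀ _ _, fun i a b => hd i _ _, Submodule.ext fun u => ?_, Submodule.ext fun u => ?_,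
    fun i => Submodule.ext fun u => ?_, fun i b => hr i _⟩
  · rw [range_mulVecLin_submatrix, hZ]
    rfl
  · rw [ker_mulVecLin_submatrix, range_mulVecLin_submatrix, h1]
  · rw [ker_mulVecLin_submatrix, range_mulVecLin_submatrix, hs]

/-- Cutting by a regular linear form. -/
theorem HasRes.step {deg₀ : Fin n → ℤ} {r : ℤ}
    {Z Z' : Submodule (MvPolynomial σ k) (Fin n → MvPolynomial σ k)} (h : HasRes deg₀ r Z)
    {y : MvPolynomial σ k} (hy : y ∈ GrSyz.stdGr k σ 1) (hreg : ∀ w, y • w ∈ Z → w ∈ Z)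
    (hZ' : ∀ u, u ∈ Z' ↔ ∃ z ∈ Z, ∃ w, z + y • w = u) : HasRes deg₀ r Z' := by
  classical
  obtain ⟨h₀, rk, deg, d₀, d, hd₀, hd, hrange, hk0, hks, hr⟩ := h
  let p : ℕ → Type := fun i => Fin (extRk n rk i)
  let degP : ∀ i, p i → ℤ := fun i b => extDeg deg₀ deg i b + 1
  let D : ∀ i, Matrix (p i) (p (i + 1)) (MvPolynomial σ k) := extD d₀ d
  let φ : ∀ i, Matrix (p i) (p i) (MvPolynomial σ k) := fun i => y • 1
  have hD : ∀ i a b, D i a b ∈ GrSyz.stdGr k σ (extDeg deg₀ deg (i + 1) b - extDeg deg₀ deg i a) :=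
    fun i => by cases i with
      | zero => exact hd₀
      | succ i => exact hd i
  have hex : ∀ i, LinearMap.ker (D i).mulVecLin = LinearMap.range (D (i + 1)).mulVecLin := fun i => by
    cases i with
    | zero => exact hk0
    | succ i => exact hks i
  have hc : ∀ i, D i * φ (i + 1) = φ i * D i := fun i => by
    simp [φ]
  have hφ0 : ∀ w, (φ 0).mulVec w = y • w := fun w => by
    simp [φ, Matrix.smul_mulVec]
  have hcone := coneD_mem (dP := D) (dQ := D) (φ := φ) (degP := degP) (degQ := extDeg deg₀ deg)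
    (fun i a b => by simpa [degP] using hD i a b) hD (fun i a b => by
      rcases eq_or_ne a b with rfl | hab
      · simpa [φ, degP] using hy
      · simp [φ, Matrix.one_apply_ne hab])
  refine HasRes.of_fintype h₀ (fun i => coneIdx p p (i + 1))
    (fun i => coneDeg degP (extDeg deg₀ deg) (i + 1)) (coneD D D φ 0) (fun i => coneD D D φ (i + 1))
    (hcone 0) (fun i => hcone (i + 1)) (fun u => ?_) (cone_exact_zero hex hc fun w hw => ?_)
    (fun i => cone_exact_succ hex hex hc i) (fun i b => ?_)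
  · rw [hZ']
    refine Iff.trans ?_ mem_range_coneD_zero.symm
    constructor
    · rintro ⟨z, hz, w, rfl⟩
      rw [← hrange] at hz
      obtain ⟨v, rfl⟩ := hz
      exact ⟨v, w, congrArg (fun z => (D 0).mulVec v + z) (hφ0 w)⟩
    · rintro ⟨v, w, rfl⟩
      exact ⟨_, hrange.le ⟨v, rfl⟩, w, (congrArg (fun z => (D 0).mulVec v + z) (hφ0 w)).symm⟩
  · have h1 : (φ 0).mulVec w ∈ Z := hrange.le hw
    rw [hφ0] at h1
    exact hrange.ge (hreg w h1)
  · rcases b with b | b
    · exact hr i b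
    · cases i with
      | zero =>
        have := h₀ b
        show deg₀ b + 1 ≤ r + ((0 + 1 : ℕ) : ℤ)
        push_cast
        omega
      | succ i =>
        have := hr i b
        show deg i b + 1 ≤ r + ((i + 1 + 1 : ℕ) : ℤ)
        push_cast at this ⊢
        omega

/-- Cutting by a regular sequence of linear forms. -/
theorem HasRes.list {deg₀ : Fin n → ℤ} {r : ℤ}
    {Z : Submodule (MvPolynomial σ k) (Fin n → MvPolynomial σ k)} (h : HasRes deg₀ r Z)
    (ys : List (MvPolynomial σ k)) (hys : ∀ y ∈ ys, y ∈ GrSyz.stdGr k σ 1)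
    (hreg : ∀ (j : ℕ) (hj : j < ys.length), ∀ w : Fin n → MvPolynomial σ k,
      ys[j] • w ∈ Z ⊔ Ideal.ofList (ys.take j) • ⊤ → w ∈ Z ⊔ Ideal.ofList (ys.take j) • ⊤) :
    HasRes deg₀ r (Z ⊔ Ideal.ofList ys • ⊤) := by
  suffices H : ∀ j ≤ ys.length, HasRes deg₀ r (Z ⊔ Ideal.ofList (ys.take j) • ⊤) by
    simpa using H ys.length le_rfl
  intro j hj
  induction j with
  | zero => simpa using h
  | succ j ih =>
    refine (ih (by omega)).step (hys _ (List.getElem_mem (by omega : j < ys.length)))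
      (hreg j (by omega)) fun u => ?_
    have he : Ideal.ofList (ys.take (j + 1)) =
        Ideal.ofList (ys.take j) ⊔ Ideal.span {ys[j]'(by omega)} := by
      rw [List.take_succ_eq_append_getElem (by omega), Ideal.ofList_append, Ideal.ofList_singleton]
    rw [he, Submodule.sup_smul, ← sup_assoc, Submodule.mem_sup,
      Submodule.ideal_span_singleton_smul]
    constructor
    · rintro ⟨z, hz, _, hw, rfl⟩
      obtain ⟨w, -, rfl⟩ := (Submodule.mem_smul_pointwise_iff_exists _ _ _).1 hw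
      exact ⟨z, hz, w, rfl⟩
    · rintro ⟨z, hz, w, rfl⟩
      exact ⟨z, hz, _, Submodule.smul_mem_pointwise_smul w _ ⊤ trivial, rfl⟩

/-- A module presented by `S^n ⧸ Z` gets a resolution. -/
theorem HasRes.exists_freeRes {deg₀ : Fin n → ℤ} {r : ℤ}
    {Z : Submodule (MvPolynomial σ k) (Fin n → MvPolynomial σ k)} (h : HasRes deg₀ r Z)
    {N : Type u} [AddCommGroup N] [Module k N] [Module (MvPolynomial σ k) N]
    (𝒩 : ℤ → Submodule k N) [Decomposition 𝒩] [SetLike.GradedSMul (GrSyz.stdGr k σ) 𝒩]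
    (L : (Fin n → MvPolynomial σ k) →ₗ[MvPolynomial σ k] N)
    (hL : ∀ g v, v ∈ fr deg₀ g → L v ∈ 𝒩 g) (hsurj : Function.Surjective L)
    (hker : LinearMap.ker L = Z) : ∃ G : GrSyz.FreeRes (GrSyz.stdGr k σ) 𝒩, G.IsGenLE r := by
  obtain ⟨h₀, rk, deg, d₀, d, hd₀, hd, hrange, hk0, hks, hr⟩ := h
  refine exists_freeRes_of_fintype 𝒩 (fun i => Fin (extRk n rk i)) (extDeg deg₀ deg) (extD d₀ d)
    (fun i => ?_) L (fun g v hv => hL g v (mem_fr.2 hv)) hsurj (fun v => ?_) (fun i => ?_)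
    (fun i b => ?_)
  · cases i with
    | zero => exact hd₀
    | succ i => exact hd i
  · exact (SetLike.ext_iff.1 (hker.trans hrange.symm) v :)
  · cases i with
    | zero => exact hk0
    | succ i => exact hks i
  · cases i with
    | zero => exact le_of_le_of_eq (h₀ b) (by simp)
    | succ i => exact hr i b

/-- The residue field: the Koszul resolution. -/
theorem hasRes_irrel {m : ℕ} (e r : ℤ) (her : e ≤ r) :
    HasRes (k := k) (σ := Fin m) (fun _ : Fin 1 => e) r
      ((GrSyz.irrel (GrSyz.stdGr k (Fin m))).toIdeal •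
        (⊤ : Submodule (MvPolynomial (Fin m) k) (Fin 1 → MvPolynomial (Fin m) k))) := by
  classical
  have hmem : ∀ (I : Ideal (MvPolynomial (Fin m) k)) (w : Fin 1 → MvPolynomial (Fin m) k),
      w ∈ I • (⊤ : Submodule (MvPolynomial (Fin m) k) (Fin 1 → MvPolynomial (Fin m) k)) ↔ w 0 ∈ I := by
    intro I w
    refine ⟨fun h => ?_, fun h => ?_⟩
    · refine Submodule.smul_induction_on h (fun a ha x _ => ?_) fun x y hx hy => I.add_mem hx hy
      exact I.mul_mem_right _ ha
    · rw [show w = w 0 • (fun _ => 1) from funext fun a => by rw [Subsingleton.elim a 0]; simp]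
      exact Submodule.smul_mem_smul h trivial
  let ys : List (MvPolynomial (Fin m) k) := (List.finRange m).map MvPolynomial.X
  have hset : ∀ j, Ideal.ofList (ys.take j) =
      Ideal.span (MvPolynomial.X '' {i : Fin m | i.val < j}) := by
    intro j
    refine congrArg Ideal.span (Set.ext fun x => ?_)
    simp only [ys, Set.mem_setOf_eq, List.mem_take_iff_getElem, List.getElem_map,
      List.getElem_finRange, Set.mem_image, List.length_map, List.length_finRange]
    constructor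
    · rintro ⟨i, hi, rfl⟩
      exact ⟨⟨i, by omega⟩, lt_of_lt_of_le hi (min_le_left _ _), rfl⟩
    · rintro ⟨i, hi, rfl⟩
      exact ⟨i, lt_min hi i.2, rfl⟩
  have hirrel : (GrSyz.irrel (GrSyz.stdGr k (Fin m))).toIdeal = Ideal.ofList ys := by
    rw [show ys = ys.take m by simp [ys], hset]
    ext f
    rw [mem_irrel_iff, mem_ideal_span_X_image, constantCoeff_eq]
    constructor
    · intro h mo hmo
      have hne : mo ≠ 0 := fun h0 => mem_support_iff.1 hmo (h0 ▸ h)
      obtain ⟨i, hi⟩ := Finsupp.ne_iff.1 hne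
      exact ⟨i, i.2, hi⟩
    · intro h
      by_contra h0
      obtain ⟨i, -, hi⟩ := h 0 (mem_support_iff.2 h0)
      exact hi rfl
  rw [hirrel, ← bot_sup_eq (Ideal.ofList ys • ⊤)]
  refine (hasRes_bot _ fun _ => her).list ys (fun y hy => ?_) fun j hj w hw => ?_
  · obtain ⟨i, -, rfl⟩ := List.mem_map.1 hy
    exact X_mem i
  · rw [bot_sup_eq, hmem, hset] at hw ⊢
    have hjm : j < m := by simpa [ys] using hj
    have hy : ys[j] = MvPolynomial.X ⟨j, hjm⟩ := by simp [ys]
    rw [hy, Pi.smul_apply, smul_eq_mul, mem_ideal_span_X_image] at hw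
    rw [mem_ideal_span_X_image]
    intro mo hmo
    have h1 : Finsupp.single (⟨j, hjm⟩ : Fin m) 1 + mo ∈ (MvPolynomial.X (⟨j, hjm⟩ : Fin m) * w 0).support := by
      rw [support_X_mul]
      exact Finset.mem_map.2 ⟨mo, hmo, rfl⟩
    obtain ⟨i, hi, hi'⟩ := hw _ h1
    refine ⟨i, hi, ?_⟩
    rwa [Finsupp.add_apply, Finsupp.single_eq_of_ne (by
      intro h; subst h; exact absurd (show j < j from hi) (lt_irrefl j)),
      zero_add] at hi'

end

end Groth.GrSyzLib
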