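import Groth.Agent.GrSyz.Length
import Groth.Agent.GrSyz.HasRes
import Groth.Agent.FrobLCI.AusBuch
import Mathlib.Algebra.Module.LocalizedModule.Exact
import Mathlib.RingTheory.Localization.Module

/-!
The graded Auslander–Buchsbaum formula: length of a minimal resolution plus depth.
-/

set_option autoImplicit false
set_option maxHeartbeats 1000000

universe u

namespace Groth.GrSyzLib

open Groth.Ega4Algebra1

noncomputable section

section loc

variable {R : Type u} [CommRing R] (S : Submonoid R)
variable {A B C : Type u} [AddCommGroup A] [Module R A] [AddCommGroup B] [Module R B]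
  [AddCommGroup C] [Module R C]

/-- The localised map. -/
abbrev locMap (f : A →ₗ[R] B) : LocalizedModule S A →ₗ[Localization S] LocalizedModule S B :=
  IsLocalizedModule.mapExtendScalars S (LocalizedModule.mkLinearMap S A)
    (LocalizedModule.mkLinearMap S B) (Localization S) f

theorem locMap_mkLinearMap (f : A →ₗ[R] B) (x : A) :
    locMap S f (LocalizedModule.mkLinearMap S A x) = LocalizedModule.mkLinearMap S B (f x) :=
  IsLocalizedModule.map_apply S _ _ f x

theorem locMap_exact (f : A →ₗ[R] B) (g : B →ₗ[R] C) (h : Function.Exact f g) :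
    Function.Exact (locMap S f) (locMap S g) :=
  LocalizedModule.map_exact S f g h

theorem locMap_injective (f : A →ₗ[R] B) (h : Function.Injective f) :
    Function.Injective (locMap S f) :=
  IsLocalizedModule.map_injective S (LocalizedModule.mkLinearMap S A)
    (LocalizedModule.mkLinearMap S B) f h

theorem locMap_surjective (f : A →ₗ[R] B) (h : Function.Surjective f) :
    Function.Surjective (locMap S f) :=
  IsLocalizedModule.map_surjective S (LocalizedModule.mkLinearMap S A)
    (LocalizedModule.mkLinearMap S B) f h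

theorem pdLT_localized_shift [Module.Projective R B] (f : A →ₗ[R] B) (g : B →ₗ[R] C)
    (hf : Function.Injective f) (hg : Function.Surjective g) (hex : Function.Exact f g) (n : ℕ) :
    PdLT (Localization S) (LocalizedModule S C) (n + 2) ↔
      PdLT (Localization S) (LocalizedModule S A) (n + 1) := by
  have : Module.Projective (Localization S) (LocalizedModule S B) :=
    Module.projective_of_isLocalizedModule S (LocalizedModule.mkLinearMap S B)
  rw [PdLT.ker_iff (locMap S g) (locMap_surjective S g hg)]
  let e : LocalizedModule S A ≃ₗ[Localization S] LinearMap.ker (locMap S g) :=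
    (LinearEquiv.ofInjective _ (locMap_injective S f hf)).trans
      (LinearEquiv.ofEq _ _ (LinearMap.exact_iff.1 (locMap_exact S f g hex)).symm)
  exact ⟨PdLT.of_equiv e.symm, PdLT.of_equiv e⟩

end loc

section minimal

variable {R : Type u} [CommRing R] (m : Ideal R) [m.IsMaximal]

/-- A minimal inclusion of a nonzero free module has nonprojective cokernel at `m`. -/
theorem not_projective_localized {a : ℕ} (ha : 0 < a) {B C : Type u} [AddCommGroup B] [Module R B]
    [AddCommGroup C] [Module R C] (f : (Fin a → R) →ₗ[R] B) (g : B →ₗ[R] C)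
    (hf : Function.Injective f) (hg : Function.Surjective g) (hex : Function.Exact f g)
    (hmin : ∀ v, f v ∈ m • (⊤ : Submodule R B)) :
    ¬ Module.Projective (Localization m.primeCompl) (LocalizedModule m.primeCompl C) := by
  classical
  intro hproj
  let S := m.primeCompl
  obtain ⟨sec, hsec⟩ := Module.projective_lifting_property (locMap S g) LinearMap.id
    (locMap_surjective S g hg)
  have hρ : ∀ y, y - sec (locMap S g y) ∈ LinearMap.range (locMap S f) := fun y => by
    rw [← LinearMap.exact_iff.1 (locMap_exact S f g hex), LinearMap.mem_ker, map_sub,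
      show locMap S g (sec (locMap S g y)) = locMap S g y from LinearMap.congr_fun hsec _, sub_self]
  choose ρ hρ' using hρ
  have hinj := locMap_injective S f hf
  let v : Fin a → R := Pi.single ⟨0, ha⟩ 1
  let mkA := LocalizedModule.mkLinearMap S (Fin a → R)
  let mkB := LocalizedModule.mkLinearMap S B
  -- `ρ` is linear and inverts `f`
  have hρf : ∀ z, ρ (locMap S f z) = z := fun z => hinj (by
    rw [hρ', (locMap_exact S f g hex).apply_apply_eq_zero, map_zero, sub_zero])
  have key : ∀ y ∈ m • (⊤ : Submodule R B),
      ρ (mkB y) ∈ m • (⊤ : Submodule R (LocalizedModule S (Fin a → R))) := fun y hy => by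
    refine Submodule.smul_induction_on hy (fun r hr b _ => ?_) fun x y hx hy => ?_
    · have h : ρ (mkB (r • b)) = r • ρ (mkB b) := hinj (by
        rw [LinearMap.map_smul_of_tower (locMap S f), hρ', hρ', map_smul mkB,
          LinearMap.map_smul_of_tower (locMap S g), LinearMap.map_smul_of_tower sec, smul_sub])
      rw [h]
      exact Submodule.smul_mem_smul hr trivial
    · have h : ρ (mkB (x + y)) = ρ (mkB x) + ρ (mkB y) := hinj (by
        rw [map_add (locMap S f), hρ', hρ', hρ', map_add, map_add, map_add]
        abel)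
      rw [h]
      exact add_mem hx hy
  have h1 := key (f v) (hmin v)
  rw [show ρ (mkB (f v)) = mkA v from (congrArg ρ (locMap_mkLinearMap S f v).symm).trans (hρf _)] at h1
  -- clear denominators
  have clear : ∀ z ∈ m • (⊤ : Submodule R (LocalizedModule S (Fin a → R))),
      ∃ w ∈ m • (⊤ : Submodule R (Fin a → R)), ∃ s : S, (s : R) • z = mkA w := fun z hz => by
    refine Submodule.smul_induction_on hz (fun r hr b _ => ?_) fun x y hx hy => ?_
    · obtain ⟨⟨w, s⟩, hw⟩ := IsLocalizedModule.surj S mkA b
      exact ⟨r • w, Submodule.smul_mem_smul hr trivial, s, by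
        rw [smul_comm, map_smul]; exact congrArg (r • ·) hw⟩
    · obtain ⟨w, hw, s, hs⟩ := hx
      obtain ⟨w', hw', s', hs'⟩ := hy
      refine ⟨(s' : R) • w + (s : R) • w', add_mem (Submodule.smul_mem _ _ hw) (Submodule.smul_mem _ _ hw'),
        s * s', ?_⟩
      rw [map_add, map_smul, map_smul, ← hs, ← hs', smul_smul, smul_smul, smul_add, Submonoid.coe_mul]
      ring_nf
  obtain ⟨w, hw, s, hs⟩ := clear _ h1
  rw [← map_smul, IsLocalizedModule.eq_iff_exists S] at hs
  obtain ⟨u, hu⟩ := hs
  have hcoord : ∀ x ∈ m • (⊤ : Submodule R (Fin a → R)), ∀ i, x i ∈ m := fun x hx i => by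
    refine Submodule.smul_induction_on hx (fun r hr b _ => ?_) fun x y hx hy => ?_
    · exact m.mul_mem_right _ hr
    · exact m.add_mem hx hy
  have h2 := congrFun hu ⟨0, ha⟩
  simp only [v, Submonoid.smul_def, Pi.smul_apply, Pi.single_eq_same, smul_eq_mul, mul_one] at h2
  have h3 : (u : R) * s ∈ m := by
    rw [h2]
    exact m.mul_mem_left _ (hcoord w hw _)
  exact (Ideal.IsPrime.mem_or_mem inferInstance h3).elim u.2 s.2

end minimal

section graded

open MvPolynomial DirectSum

variable {k : Type u} [Field k] {r : ℕ}
variable {M : Type u} [AddCommGroup M] [Module k M] [Module (MvPolynomial (Fin (r + 1)) k) M]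
  {ℳ : ℤ → Submodule k M} [Decomposition ℳ] [SetLike.GradedSMul (GrSyz.stdGr k (Fin (r + 1))) ℳ]
  (F : GrSyz.FreeRes (GrSyz.stdGr k (Fin (r + 1))) ℳ)

theorem isMaximal_irrel :
    (GrSyz.irrel (GrSyz.stdGr k (Fin (r + 1)))).toIdeal.IsMaximal := by
  have h : (GrSyz.irrel (GrSyz.stdGr k (Fin (r + 1)))).toIdeal =
      RingHom.ker (MvPolynomial.constantCoeff (σ := Fin (r + 1)) (R := k)) :=
    Ideal.ext fun p => mem_irrel_iff
  rw [h]
  exact RingHom.ker_isMaximal_of_surjective _ fun a => ⟨MvPolynomial.C a, by simp⟩

theorem mem_smul_top_of_forall {R : Type*} [CommRing R] (I : Ideal R) {n : ℕ} {x : Fin n → R}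
    (h : ∀ i, x i ∈ I) : x ∈ I • (⊤ : Submodule R (Fin n → R)) := by
  classical
  rw [show x = ∑ i, x i • Pi.single (M := fun _ => R) i 1 from pi_eq_sum_univ' x]
  exact sum_mem fun i _ => Submodule.smul_mem_smul (h i) trivial

/-- The projective dimension at the irrelevant ideal is the length of the minimal resolution. -/
theorem pdLT_localized (hF : F.IsMinimal (GrSyz.irrel (GrSyz.stdGr k (Fin (r + 1)))).toIdeal)
    {ℓ : ℕ} (hℓ : F.HasLengthLE ℓ) (hℓ' : F.rk ℓ ≠ 0)
    [hm : (GrSyz.irrel (GrSyz.stdGr k (Fin (r + 1)))).toIdeal.IsMaximal] :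
    ¬ PdLT (Localization (GrSyz.irrel (GrSyz.stdGr k (Fin (r + 1)))).toIdeal.primeCompl)
      (LocalizedModule (GrSyz.irrel (GrSyz.stdGr k (Fin (r + 1)))).toIdeal.primeCompl M) ℓ := by
  classical
  set m := (GrSyz.irrel (GrSyz.stdGr k (Fin (r + 1)))).toIdeal with hmdef
  let L := Fintype.linearCombination (MvPolynomial (Fin (r + 1)) k) F.aug
  have hmem : ∀ i (v : Fin (F.rk (i + 1)) → MvPolynomial (Fin (r + 1)) k),
      (F.d i).mulVecLin v ∈ m • (⊤ : Submodule (MvPolynomial (Fin (r + 1)) k) _) :=
    fun i v => mem_smul_top_of_forall _ fun a => mem_irrel_of_mem_range F hF i ⟨v, rfl⟩ a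
  cases ℓ with
  | zero =>
    rw [PdLT.zero_iff]
    intro hsub
    let b : Fin (F.rk 0) := ⟨0, Nat.pos_of_ne_zero hℓ'⟩
    have h0 : LocalizedModule.mkLinearMap m.primeCompl M (F.aug b) = 0 := Subsingleton.elim _ _
    obtain ⟨s, hs⟩ := (IsLocalizedModule.eq_zero_iff m.primeCompl _).1 h0
    have h1 : (s : MvPolynomial (Fin (r + 1)) k) • Pi.single b 1 ∈ Z F 0 := by
      refine F.exact_zero.le ?_
      rw [LinearMap.mem_ker, map_smul, Fintype.linearCombination_apply_single, one_smul]
      exact hs
    have h2 := mem_irrel_of_mem_range F hF 0 h1 b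
    rw [Pi.smul_apply, Pi.single_eq_same, smul_eq_mul, mul_one] at h2
    exact s.2 h2
  | succ j =>
    have hinj : Function.Injective (F.d j).mulVecLin := by
      rw [← LinearMap.ker_eq_bot, F.exact_succ, LinearMap.range_eq_bot]
      have : IsEmpty (Fin (F.rk (j + 1 + 1))) := by rw [hℓ _ (Nat.lt_succ_self _)]; infer_instance
      exact Subsingleton.elim _ _
    cases j with
    | zero =>
      rw [PdLT.one_iff]
      exact not_projective_localized m (Nat.pos_of_ne_zero hℓ') (F.d 0).mulVecLin L hinj
        F.aug_surjective (LinearMap.exact_iff.2 F.exact_zero) (hmem 0)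
    | succ j =>
      have hshift : ∀ i n, PdLT (Localization m.primeCompl) (LocalizedModule m.primeCompl (Z F i)) (n + 2) ↔
          PdLT (Localization m.primeCompl) (LocalizedModule m.primeCompl (Z F (i + 1))) (n + 1) :=
        fun i n => pdLT_localized_shift m.primeCompl (Z F (i + 1)).subtype
          (F.d i).mulVecLin.rangeRestrict Subtype.val_injective
          (LinearMap.surjective_rangeRestrict _) (LinearMap.exact_iff.2 (by
            rw [LinearMap.ker_rangeRestrict, Submodule.range_subtype, F.exact_succ])) n
      have hiter : ∀ n i, PdLT (Localization m.primeCompl) (LocalizedModule m.primeCompl (Z F i)) (n + 1) ↔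
          Module.Projective (Localization m.primeCompl) (LocalizedModule m.primeCompl (Z F (i + n))) := by
        intro n
        induction n with
        | zero => exact fun i => PdLT.one_iff
        | succ n ih =>
          intro i
          rw [show i + (n + 1) = i + 1 + n by omega, hshift, ih]
      rw [pdLT_localized_shift m.primeCompl (Z F 0).subtype L Subtype.val_injective F.aug_surjective
        (LinearMap.exact_iff.2 (by rw [Submodule.range_subtype]; exact F.exact_zero)) j,
        hiter j 0, Nat.zero_add]
      exact not_projective_localized m (Nat.pos_of_ne_zero hℓ') (F.d (j + 1)).mulVecLin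
        (F.d j).mulVecLin.rangeRestrict hinj (LinearMap.surjective_rangeRestrict _)
        (LinearMap.exact_iff.2 (by rw [LinearMap.ker_rangeRestrict, F.exact_succ])) (hmem (j + 1))

end graded

end

end Groth.GrSyzLib
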