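import Groth.Agent.GrSyz.Res
import Groth.Agent.Ega4Algebra1.GlobalDim
import Groth.Agent.Ega4Algebra1.PdBasic
import Mathlib.RingTheory.RegularLocalRing.Polynomial
import Mathlib.RingTheory.LocalProperties.ProjectiveDimension

/-!
The length of a minimal graded free resolution is the projective dimension.
-/

set_option autoImplicit false

universe u

namespace Groth.GrSyzLib

open MvPolynomial DirectSum CategoryTheory Groth.Ega4Algebra1

noncomputable section

variable {k : Type u} [Field k] {σ : Type} [Finite σ]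

/-- A surjection from a free module onto a projective module with kernel inside `𝔪 F` is
injective. -/
theorem ker_eq_bot_of_projective {n : ℕ} {Q : Type*} [AddCommGroup Q] [Module (MvPolynomial σ k) Q]
    [Module.Projective (MvPolynomial σ k) Q]
    (f : (Fin n → MvPolynomial σ k) →ₗ[MvPolynomial σ k] Q) (hf : Function.Surjective f)
    (hm : ∀ w ∈ LinearMap.ker f, ∀ a, w a ∈ (GrSyz.irrel (GrSyz.stdGr k σ)).toIdeal) :
    LinearMap.ker f = ⊥ := by
  classical
  obtain ⟨s, hs⟩ := Module.projective_lifting_property f LinearMap.id hf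
  set E : (Fin n → MvPolynomial σ k) →ₗ[MvPolynomial σ k] (Fin n → MvPolynomial σ k) :=
    LinearMap.id - s ∘ₗ f with hE
  have hfs : ∀ q, f (s q) = q := fun q => LinearMap.congr_fun hs q
  have hidem : E ∘ₗ E = E := LinearMap.ext fun x => by
    simp only [hE, LinearMap.comp_apply, LinearMap.sub_apply, LinearMap.id_apply, map_sub, hfs,
      sub_self, sub_zero]
  have h0 : LinearMap.toMatrix' E = 0 := by
    refine eq_zero_of_idempotent _ (by rw [← LinearMap.toMatrix'_comp, hidem]) fun a b => ?_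
    have h1 : LinearMap.toMatrix' E a b = E (Pi.single b 1) a := by
      simp [LinearMap.toMatrix'_apply, ← Pi.single_apply]
    rw [h1]
    exact hm _ (by simp [hE, hfs]) a
  have hE0 : E = 0 := LinearMap.toMatrix'.injective (by rw [h0, map_zero])
  refine (Submodule.eq_bot_iff _).2 fun w hw => ?_
  have := LinearMap.congr_fun hE0 w
  simpa [hE, LinearMap.mem_ker.1 hw] using this

variable {M : Type u} [AddCommGroup M] [Module k M] [Module (MvPolynomial σ k) M]
  {ℳ : ℤ → Submodule k M} [Decomposition ℳ] [SetLike.GradedSMul (GrSyz.stdGr k σ) ℳ]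
  (F : GrSyz.FreeRes (GrSyz.stdGr k σ) ℳ)

/-- The `i`-th syzygy module. -/
abbrev Z (i : ℕ) : Submodule (MvPolynomial σ k) (Fin (F.rk i) → MvPolynomial σ k) :=
  LinearMap.range (F.d i).mulVecLin

omit [Finite σ] in
theorem pdLT_Z_iff (n : ℕ) : ∀ i : ℕ,
    PdLT (MvPolynomial σ k) (Z F i) (n + 1) ↔ Module.Projective (MvPolynomial σ k) (Z F (i + n)) := by
  induction n with
  | zero => exact fun i => PdLT.one_iff
  | succ n ih =>
    intro i
    rw [show i + (n + 1) = i + 1 + n by omega, ← ih (i + 1),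
      PdLT.ker_iff (F.d i).mulVecLin.rangeRestrict (LinearMap.surjective_rangeRestrict _) n]
    let e := LinearEquiv.ofEq (LinearMap.ker (F.d i).mulVecLin.rangeRestrict) (Z F (i + 1))
      (by rw [LinearMap.ker_rangeRestrict, F.exact_succ])
    exact ⟨PdLT.of_equiv e, PdLT.of_equiv e.symm⟩

omit [Finite σ] in
theorem pdLT_iff_projective (n : ℕ) :
    PdLT (MvPolynomial σ k) M (n + 2) ↔ Module.Projective (MvPolynomial σ k) (Z F n) := by
  rw [PdLT.ker_iff (Fintype.linearCombination (MvPolynomial σ k) F.aug) F.aug_surjective n]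
  have h := pdLT_Z_iff F n 0
  rw [Nat.zero_add] at h
  rw [← h]
  let e := LinearEquiv.ofEq _ (Z F 0) F.exact_zero
  exact ⟨PdLT.of_equiv e, PdLT.of_equiv e.symm⟩

omit [Finite σ] in
theorem d_eq_zero_imp_rk (hF : F.IsMinimal (GrSyz.irrel (GrSyz.stdGr k σ)).toIdeal) (i : ℕ)
    (h : F.d i = 0) : F.rk (i + 1) = 0 := by
  by_contra hne
  let b : Fin (F.rk (i + 1)) := ⟨0, Nat.pos_of_ne_zero hne⟩
  have hk : Pi.single b 1 ∈ LinearMap.ker (F.d i).mulVecLin := by simp [h]
  rw [F.exact_succ] at hk
  obtain ⟨w, hw⟩ := hk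
  have h1 := congrFun hw b
  rw [Matrix.mulVecLin_apply, Matrix.mulVec, dotProduct, Pi.single_eq_same] at h1
  exact one_notMem_irrel (h1 ▸ Ideal.sum_mem _ fun c _ => Ideal.mul_mem_right _ _ (hF (i + 1) b c))

omit [Finite σ] in
theorem rk_eq_zero_of_d_eq_zero (hF : F.IsMinimal (GrSyz.irrel (GrSyz.stdGr k σ)).toIdeal) (i : ℕ)
    (h : F.d i = 0) : ∀ j, i < j → F.rk j = 0 := by
  intro j hj
  induction j with
  | zero => omega
  | succ j ih =>
    rcases Nat.lt_or_eq_of_le (Nat.le_of_lt_succ hj) with hij | rfl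
    · refine d_eq_zero_imp_rk F hF j (Matrix.ext fun a => ?_)
      have h0 := ih hij
      exact absurd a.2 (by omega)
    · exact d_eq_zero_imp_rk F hF i h

omit [Finite σ] in
theorem mem_irrel_of_mem_range (hF : F.IsMinimal (GrSyz.irrel (GrSyz.stdGr k σ)).toIdeal) (i : ℕ)
    {w : Fin (F.rk i) → MvPolynomial σ k} (hw : w ∈ Z F i) (a : Fin (F.rk i)) :
    w a ∈ (GrSyz.irrel (GrSyz.stdGr k σ)).toIdeal := by
  obtain ⟨v, rfl⟩ := hw
  rw [Matrix.mulVecLin_apply, Matrix.mulVec, dotProduct]
  exact Ideal.sum_mem _ fun b _ => Ideal.mul_mem_right _ _ (hF i a b)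

theorem hasLengthLE_iff (hF : F.IsMinimal (GrSyz.irrel (GrSyz.stdGr k σ)).toIdeal) (n : ℕ) :
    F.HasLengthLE n ↔ PdLT (MvPolynomial σ k) M (n + 1) := by
  have hd0 : ∀ i, LinearMap.range (F.d i).mulVecLin = ⊥ → F.d i = 0 := fun i h =>
    Matrix.mulVec_injective (funext fun v => by
      simpa using LinearMap.congr_fun (LinearMap.range_eq_bot.1 h) v)
  have hz : ∀ i, F.rk (i + 1) = 0 → LinearMap.range (F.d i).mulVecLin = ⊥ := fun i h => by
    have : IsEmpty (Fin (F.rk (i + 1))) := by rw [h]; infer_instance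
    rw [LinearMap.range_eq_bot]
    exact Subsingleton.elim _ _
  cases n with
  | zero =>
    rw [PdLT.one_iff]
    constructor
    · intro h
      have hk : LinearMap.ker (Fintype.linearCombination (MvPolynomial σ k) F.aug) = ⊥ :=
        F.exact_zero.trans (hz 0 (h 1 Nat.one_pos))
      exact Module.Projective.of_equiv
        (LinearEquiv.ofBijective _ ⟨LinearMap.ker_eq_bot.1 hk, F.aug_surjective⟩)
    · intro h j hj
      refine rk_eq_zero_of_d_eq_zero F hF 0 (hd0 0 ?_) j hj
      rw [← F.exact_zero]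
      refine ker_eq_bot_of_projective _ F.aug_surjective fun w hw a => ?_
      rw [F.exact_zero] at hw
      exact mem_irrel_of_mem_range F hF 0 hw a
  | succ n =>
    rw [pdLT_iff_projective F n]
    constructor
    · intro h
      have hk : LinearMap.ker (F.d n).mulVecLin = ⊥ :=
        (F.exact_succ n).trans (hz (n + 1) (h (n + 1 + 1) (Nat.lt_succ_self _)))
      exact Module.Projective.of_equiv
        (LinearEquiv.ofInjective _ (LinearMap.ker_eq_bot.1 hk))
    · intro h j hj
      refine rk_eq_zero_of_d_eq_zero F hF (n + 1) (hd0 _ ?_) j hj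
      rw [← F.exact_succ n, ← LinearMap.ker_rangeRestrict (F.d n).mulVecLin]
      refine ker_eq_bot_of_projective _ (LinearMap.surjective_rangeRestrict _) fun w hw a => ?_
      rw [LinearMap.ker_rangeRestrict, F.exact_succ] at hw
      exact mem_irrel_of_mem_range F hF (n + 1) hw a

/-- Hilbert's syzygy theorem, as projective dimension. -/
theorem pdLT_polynomial {n : ℕ} (N : Type u) [AddCommGroup N] [Module (MvPolynomial (Fin n) k) N]
    [Module.Finite (MvPolynomial (Fin n) k) N] : PdLT (MvPolynomial (Fin n) k) N (n + 1) := by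
  refine (ModuleCat.hasProjectiveDimensionLE_iff_forall_maximalSpectrum n
    (ModuleCat.of (MvPolynomial (Fin n) k) N)).2 fun m => ?_
  have hle : ringKrullDim (Localization.AtPrime m.asIdeal) ≤ (n : WithBot ℕ∞) := by
    rw [IsLocalization.AtPrime.ringKrullDim_eq_height m.asIdeal]
    refine Ideal.height_le_ringKrullDim_of_ne_top m.2.ne_top |>.trans ?_
    rw [MvPolynomial.ringKrullDim_of_isNoetherianRing, ringKrullDim_eq_zero_of_field]
    simp
  obtain ⟨d, hd⟩ : ∃ d : ℕ, ringKrullDim (Localization.AtPrime m.asIdeal) = d :=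
    ⟨_, (IsRegularLocalRing.spanFinrank_maximalIdeal
      (R := Localization.AtPrime m.asIdeal)).symm⟩
  rw [hd, Nat.cast_le] at hle
  have := pdLT_all_of_isRegularLocalRing (Localization.AtPrime m.asIdeal) d hd
    ((ModuleCat.of (MvPolynomial (Fin n) k) N).localizedModule m.1.primeCompl)
  exact hasProjectiveDimensionLT_of_ge _ (d + 1) (n + 1) (by omega)

end

end Groth.GrSyzLib
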