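import Groth.Agent.GrSyz.StarKoszul
import Groth.Agent.GrSyz.Length

/-!
Degrees of the generators of a minimal resolution through Koszul cohomology.
-/

set_option autoImplicit false

universe u

namespace Groth.GrSyzLib

open DirectSum MvPolynomial

noncomputable section

variable {k : Type u} [Field k] {n : ℕ}

local notation "S" => MvPolynomial (Fin n) k
local notation "𝔪" => GrSyz.irrel (GrSyz.stdGr k (Fin n))

/-- The pieces of a free module, as additive subgroups. -/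
abbrev frW {m : ℕ} (deg : Fin m → ℤ) : ℤ → AddSubgroup (Fin m → MvPolynomial (Fin n) k) :=
  fun g => (fr deg g).toAddSubgroup

theorem stable_frW {m : ℕ} (deg : Fin m → ℤ) :
    Kos.Stable (xs k n) (frW (k := k) (n := n) deg) := fun v g z hz => by
  rw [add_comm g]
  exact smul_mem' (fr deg) (xs_mem v) hz

theorem xs_image {v : ℕ} (hv : v ≤ n) :
    xs k n '' (Finset.range v : Set ℕ) = (MvPolynomial.X '' {i : Fin n | (i : ℕ) < v} : Set S) := by
  ext p
  constructor
  · rintro ⟨i, hi, rfl⟩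
    have hi' : i < v := Finset.mem_range.1 hi
    exact ⟨⟨i, hi'.trans_le hv⟩, hi', (xs_of_lt _).symm⟩
  · rintro ⟨i, hi, rfl⟩
    exact ⟨i, Finset.mem_range.2 hi, xs_of_lt i.2⟩

theorem irrel_eq_span_xs : (𝔪).toIdeal = Ideal.span (xs k n '' (Finset.range n : Set ℕ)) := by
  rw [irrel_eq_idealOfVars, xs_image le_rfl, idealOfVars, ← Set.image_univ]
  congr 2
  ext i
  simp

theorem sp_frW {m : ℕ} {deg : Fin m → ℤ} {v : ℕ} {D : ℤ} {z : Fin m → S}
    (hz : z ∈ fr deg D) (h : ∀ b, z b ∈ Ideal.span (xs k n '' (Finset.range v : Set ℕ))) :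
    Kos.Sp (xs k n) (frW deg) v D z := by
  classical
  choose c hc using fun b => (Submodule.mem_span_image_finset_iff_exists_fun' S).1 (h b)
  refine ⟨fun i => pr (fr deg) (D - 1) fun b => c b i, fun i => pr_mem _ _ _, ?_⟩
  conv_rhs => rw [← pr_of_mem (fr deg) hz,
    show z = ∑ i ∈ Finset.range v, xs k n i • fun b => c b i from funext fun b => by
      rw [Finset.sum_apply, ← hc b]
      exact Finset.sum_congr rfl fun i _ => mul_comm _ _]
  rw [map_sum]
  exact Finset.sum_congr rfl fun i _ => (pr_smul_left (fr deg) (xs_mem i) D _).symm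

theorem colon_frW {m : ℕ} (deg : Fin m → ℤ) {v : ℕ} (hv : v < n) :
    Kos.Colon (xs k n) (frW (k := k) (n := n) deg) v := by
  rintro g z hz ⟨w, -, hw⟩
  refine sp_frW hz fun b => ?_
  have h : xs k n v * z b ∈ Ideal.span (xs k n '' (Finset.range v : Set ℕ)) := by
    have := congrFun hw b
    rw [Finset.sum_apply] at this
    rw [show xs k n v * z b = (xs k n v • z) b from rfl, ← this]
    exact Ideal.sum_mem _ fun i hi => Ideal.mul_mem_right _ _ (Ideal.subset_span ⟨i, hi, rfl⟩)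
  rw [xs_image hv.le, mem_ideal_span_X_image] at h ⊢
  intro e he
  have he' : Finsupp.single (⟨v, hv⟩ : Fin n) 1 + e ∈ (xs k n v * z b).support := by
    rw [xs_of_lt hv, support_X_mul]
    exact Finset.mem_map.2 ⟨e, he, rfl⟩
  obtain ⟨i, hi, hne⟩ := h _ he'
  refine ⟨i, hi, ?_⟩
  have hvi : (⟨v, hv⟩ : Fin n) ≠ i := fun e => by simp [← e] at hi
  rwa [Finsupp.add_apply, Finsupp.single_eq_of_ne' hvi, zero_add] at hne

theorem ex_frW {m : ℕ} (deg : Fin m → ℤ) {p : ℕ} (hp : p < n) (g : ℤ) :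
    Kos.Ex (xs k n) (frW (k := k) (n := n) deg) n p g :=
  Kos.ex_of_colon (stable_frW deg) n (fun _ hv => colon_frW deg hv) p hp g

section cover

variable {m : ℕ} {deg : Fin m → ℤ} {Q : Type u} [AddCommGroup Q] [Module (MvPolynomial (Fin n) k) Q]
  {WQ : ℤ → AddSubgroup Q}
  {π : (Fin m → MvPolynomial (Fin n) k) →ₗ[MvPolynomial (Fin n) k] Q}
  (hπ : ∀ g b, b ∈ frW deg g → π b ∈ WQ g) (hsur : ∀ g c, c ∈ WQ g → ∃ b ∈ frW deg g, π b = c)
  (hmin : ∀ v : Fin m → MvPolynomial (Fin n) k, π v = 0 → ∀ b : Fin m,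
    v b ∈ (GrSyz.irrel (GrSyz.stdGr k (Fin n))).toIdeal)

include hπ hsur hmin in
/-- A minimal cover shifts Koszul cohomology. -/
theorem shift_iff {p : ℕ} (hp : p < n) (g : ℤ) :
    Kos.Ex (xs k n) WQ n p g ↔ Kos.Ex (xs k n) (Kos.kerP (frW deg) π) n (p + 1) g := by
  refine ⟨Kos.exA_of (stable_frW deg) hπ hsur fun f hf h0 => ?_,
    Kos.exQ_of (stable_frW deg) hπ hsur (ex_frW deg hp g)⟩
  rcases Nat.lt_or_eq_of_le (Nat.succ_le_of_lt hp) with h | rfl
  · exact ex_frW deg h g f hf.of_kerP h0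
  · refine Kos.bd_top (stable_frW deg) _ hf.of_kerP (sp_frW (hf.mem _).1 fun b => ?_)
    rw [← irrel_eq_span_xs]
    exact hmin _ (hf.mem _).2 b

include hπ hsur hmin in
/-- Minimal generators are seen in the top Koszul cohomology. -/
theorem top_iff (hWQ : Kos.Stable (xs k n) WQ) (g : ℤ) :
    Kos.Ex (xs k n) WQ n n g ↔ ∀ b, deg b ≠ g + n := by
  rw [Kos.ex_top_iff hWQ]
  constructor
  · intro h b hb
    classical
    have he : (Pi.single b 1 : Fin m → S) ∈ frW deg (g + n) :=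
      single_mem_fr deg b (by rw [hb, sub_self]; exact one_mem')
    obtain ⟨w, hw, hwe⟩ := h _ (hπ _ _ he)
    choose u hu huw using fun i => hsur _ _ (hw i)
    have hk : π (Pi.single b 1 - ∑ i ∈ Finset.range n, xs k n i • u i) = 0 := by
      rw [map_sub, map_sum, ← hwe, sub_eq_zero]
      exact Finset.sum_congr rfl fun i _ => by rw [map_smul, huw]
    have h1 := hmin _ hk b
    rw [Pi.sub_apply, Pi.single_eq_same, Finset.sum_apply] at h1
    refine one_notMem_irrel (k := k) (σ := Fin n) ?_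
    have h2 : ∑ i ∈ Finset.range n, (xs k n i • u i) b ∈ (𝔪).toIdeal :=
      Ideal.sum_mem _ fun i _ => Ideal.mul_mem_right _ _ (xs_mem_irrel i)
    simpa using Ideal.add_mem _ h1 h2
  · intro h z hz
    obtain ⟨v, hv, rfl⟩ := hsur _ z hz
    obtain ⟨w, hw, hwv⟩ := sp_frW (v := n) hv fun b => by
      rw [← irrel_eq_span_xs, mem_irrel_iff]
      exact constantCoeff_eq_zero_of_ne (sub_ne_zero.2 (Ne.symm (h b))) (mem_fr.1 hv b)
    exact ⟨fun i => π (w i), fun i => hπ _ _ (hw i), by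
      rw [← hwv, map_sum]
      exact Finset.sum_congr rfl fun i _ => (map_smul π _ _).symm⟩

end cover

variable {M : Type u} [AddCommGroup M] [Module k M] [Module (MvPolynomial (Fin n) k) M]
  {ℳ : ℤ → Submodule k M} [Decomposition ℳ] [SetLike.GradedSMul (GrSyz.stdGr k (Fin n)) ℳ]
  (F : GrSyz.FreeRes (GrSyz.stdGr k (Fin n)) ℳ)

/-- The pieces of the syzygy modules. -/
def syzP : (i : ℕ) → ℤ → AddSubgroup (Fin (F.rk i) → MvPolynomial (Fin n) k)
  | 0 => Kos.kerP (frW (F.deg 0)) F.augLin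
  | i + 1 => Kos.kerP (frW (F.deg (i + 1))) (F.dLin i)

theorem mem_syzP : ∀ (i : ℕ) {g : ℤ} {v : Fin (F.rk i) → S},
    v ∈ syzP F i g ↔ v ∈ fr (F.deg i) g ∧ v ∈ Z F i
  | 0, _, v => and_congr_right fun _ => by
      rw [Z, ← F.exact_zero]
      exact Iff.rfl
  | i + 1, _, v => and_congr_right fun _ => by
      rw [Z, ← F.exact_succ]
      exact Iff.rfl

theorem stable_syzP (i : ℕ) : Kos.Stable (xs k n) (syzP F i) := by
  cases i <;> exact Kos.Stable.kerP (stable_frW _)

theorem d_mem_syzP (i : ℕ) (g : ℤ) (v : Fin (F.rk (i + 1)) → S) (hv : v ∈ frW (F.deg (i + 1)) g) :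
    F.dLin i v ∈ syzP F i g :=
  (mem_syzP F i).2 ⟨mulVec_mem (F.d_mem i) g v hv, ⟨v, rfl⟩⟩

theorem exists_of_syzP (i : ℕ) (g : ℤ) (c : Fin (F.rk i) → S) (hc : c ∈ syzP F i g) :
    ∃ b ∈ frW (F.deg (i + 1)) g, F.dLin i b = c :=
  exists_preimage (fr (F.deg (i + 1))) (fr (F.deg i)) (F.dLin i) (mulVec_mem (F.d_mem i))
    ((mem_syzP F i).1 hc).1 ((mem_syzP F i).1 hc).2

theorem aug_mem' (g : ℤ) (v : Fin (F.rk 0) → S) (hv : v ∈ frW (F.deg 0) g) :
    F.augLin v ∈ (ℳ g).toAddSubgroup :=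
  linearCombination_mem ℳ F.aug_mem g v hv

theorem exists_of_aug (g : ℤ) (c : M) (hc : c ∈ (ℳ g).toAddSubgroup) :
    ∃ b ∈ frW (F.deg 0) g, F.augLin b = c :=
  exists_preimage (fr (F.deg 0)) ℳ F.augLin (linearCombination_mem ℳ F.aug_mem) hc
    (F.aug_surjective c)

variable (hF : F.IsMinimal (GrSyz.irrel (GrSyz.stdGr k (Fin n))).toIdeal)

include hF in
theorem ker_aug_le (v : Fin (F.rk 0) → S) (hv : F.augLin v = 0) (b : Fin (F.rk 0)) :
    v b ∈ (𝔪).toIdeal :=
  mem_irrel_of_mem_range F hF 0 (by rw [Z, ← F.exact_zero]; exact hv) b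

include hF in
theorem ker_d_le (i : ℕ) (v : Fin (F.rk (i + 1)) → S) (hv : F.dLin i v = 0)
    (b : Fin (F.rk (i + 1))) : v b ∈ (𝔪).toIdeal :=
  mem_irrel_of_mem_range F hF (i + 1) (by rw [Z, ← F.exact_succ]; exact hv) b

include hF in
theorem ex_syzP_iff : ∀ (i p : ℕ), p + i + 1 ≤ n → ∀ g,
    (Kos.Ex (xs k n) (fun g => (ℳ g).toAddSubgroup) n p g ↔
      Kos.Ex (xs k n) (syzP F i) n (p + i + 1) g)
  | 0, p, hp, g => shift_iff (aug_mem' F) (exists_of_aug F) (ker_aug_le F hF) (by omega) g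
  | i + 1, p, hp, g => (ex_syzP_iff i p (by omega) g).trans
      (shift_iff (d_mem_syzP F i) (exists_of_syzP F i) (ker_d_le F hF i) (by omega) g)

include hF in
/-- Generator degrees of a minimal resolution are Koszul cohomology. -/
theorem ex_iff_deg {p i : ℕ} (h : p + i = n) (g : ℤ) :
    Kos.Ex (xs k n) (fun g => (ℳ g).toAddSubgroup) n p g ↔ ∀ b, F.deg i b ≠ g + n := by
  cases i with
  | zero =>
    obtain rfl : p = n := by omega
    refine top_iff (aug_mem' F) (exists_of_aug F) (ker_aug_le F hF) (fun v e z hz => ?_) g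
    rw [add_comm e]
    exact smul_mem' ℳ (xs_mem v) hz
  | succ i =>
    rw [ex_syzP_iff F hF i p (by omega) g, show p + i + 1 = n by omega]
    exact top_iff (d_mem_syzP F i) (exists_of_syzP F i) (ker_d_le F hF i) (stable_syzP F i) g

include hF in
theorem isGenLE_iff_ex [Module.Finite (MvPolynomial (Fin n) k) M] (d : ℤ) :
    F.IsGenLE d ↔ ∀ (p : ℕ) (g : ℤ), d - p < g →
      Kos.Ex (xs k n) (fun g => (ℳ g).toAddSubgroup) n p g := by
  constructor
  · intro h p g hg
    rcases Nat.lt_or_ge n p with hp | hp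
    · intro f hf _
      rw [hf.eq_zero_of_lt hp]
      exact Kos.Bd.zero p
    · obtain ⟨i, hi⟩ := Nat.exists_eq_add_of_le hp
      refine (ex_iff_deg F hF hi.symm g).2 fun b hb => ?_
      have := h i b
      omega
  · intro h i b
    have hin : i ≤ n := not_lt.1 fun hi =>
      absurd b.2 (by have := (hasLengthLE_iff F hF n).2 (pdLT_polynomial M) i hi; omega)
    by_contra hd
    exact (ex_iff_deg F hF (p := n - i) (by omega) (F.deg i b - n)).1 (h _ _ (by omega)) b (by ring)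

end

end Groth.GrSyzLib
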