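import Groth.Agent.GrSyz.Res
import Mathlib.Data.Matrix.Block
import Mathlib.Data.Fintype.EquivFin
import Mathlib.Data.Matrix.Mul

/-!
Resolutions indexed by finite types, mapping cones, and liftings from arbitrary complexes.
-/

set_option autoImplicit false

universe u

namespace Groth.GrSyzLib

open MvPolynomial DirectSum Matrix

noncomputable section

variable {k : Type u} [Field k] {σ : Type}

theorem range_mulVecLin_submatrix {R : Type*} [CommRing R] {a b a' b' : Type*} [Fintype b]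
    [Fintype b'] (A : Matrix a b R) (ea : a' ≃ a) (eb : b' ≃ b) (v : a' → R) :
    v ∈ LinearMap.range (A.submatrix ea eb).mulVecLin ↔
      v ∘ ea.symm ∈ LinearMap.range A.mulVecLin := by
  constructor
  · rintro ⟨w, rfl⟩
    exact ⟨w ∘ eb.symm, by simp [Matrix.submatrix_mulVec_equiv, Function.comp_assoc]⟩
  · rintro ⟨w, hw⟩
    refine ⟨w ∘ eb, ?_⟩
    rw [Matrix.mulVecLin_apply, Matrix.submatrix_mulVec_equiv, Function.comp_assoc,
      eb.self_comp_symm, Function.comp_id]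
    rw [Matrix.mulVecLin_apply] at hw
    rw [hw, Function.comp_assoc, ea.symm_comp_self, Function.comp_id]

theorem ker_mulVecLin_submatrix {R : Type*} [CommRing R] {a b a' b' : Type*} [Fintype b]
    [Fintype b'] (A : Matrix a b R) (ea : a' ≃ a) (eb : b' ≃ b) (v : b' → R) :
    v ∈ LinearMap.ker (A.submatrix ea eb).mulVecLin ↔
      v ∘ eb.symm ∈ LinearMap.ker A.mulVecLin := by
  simp only [LinearMap.mem_ker, Matrix.mulVecLin_apply, Matrix.submatrix_mulVec_equiv]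
  exact ea.surjective.injective_comp_right.eq_iff' rfl

/-- A resolution with terms indexed by finite types gives a resolution in the standard form. -/
theorem exists_freeRes_of_fintype {N : Type u} [AddCommGroup N] [Module k N]
    [Module (MvPolynomial σ k) N] (𝒩 : ℤ → Submodule k N) [Decomposition 𝒩]
    [SetLike.GradedSMul (GrSyz.stdGr k σ) 𝒩]
    (ι : ℕ → Type) [∀ i, Fintype (ι i)] (deg : ∀ i, ι i → ℤ)
    (d : ∀ i, Matrix (ι i) (ι (i + 1)) (MvPolynomial σ k))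
    (hd : ∀ i a b, d i a b ∈ GrSyz.stdGr k σ (deg (i + 1) b - deg i a))
    (L : (ι 0 → MvPolynomial σ k) →ₗ[MvPolynomial σ k] N)
    (hL : ∀ g v, (∀ b, v b ∈ GrSyz.stdGr k σ (g - deg 0 b)) → L v ∈ 𝒩 g)
    (hsurj : Function.Surjective L)
    (h0 : ∀ v, L v = 0 ↔ v ∈ LinearMap.range (d 0).mulVecLin)
    (hs : ∀ i, LinearMap.ker (d i).mulVecLin = LinearMap.range (d (i + 1)).mulVecLin)
    {r : ℤ} (hr : ∀ i (b : ι i), deg i b ≤ r + i) :
    ∃ G : GrSyz.FreeRes (GrSyz.stdGr k σ) 𝒩, G.IsGenLE r := by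
  classical
  let e : ∀ i, Fin (Fintype.card (ι i)) ≃ ι i := fun i => (Fintype.equivFin (ι i)).symm
  have hlc : ∀ v, Fintype.linearCombination (MvPolynomial σ k)
      (fun b => L (Pi.single (e 0 b) 1)) v = L (v ∘ (e 0).symm) := fun v => by
    rw [Fintype.linearCombination_apply, ← Finset.univ_sum_single (v ∘ (e 0).symm), map_sum]
    refine Fintype.sum_equiv (e 0) _ _ fun b => ?_
    rw [← map_smul, ← Pi.single_smul, smul_eq_mul, mul_one, Function.comp_apply,
      Equiv.symm_apply_apply]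
  refine ⟨⟨fun i => Fintype.card (ι i), fun i b => deg i (e i b),
    fun i => (d i).submatrix (e i) (e (i + 1)), fun b => L (Pi.single (e 0 b) 1),
    fun i a b => hd i _ _, fun b => hL _ _ fun a => ?_, fun y => ?_, ?_, fun i => ?_⟩, fun i b => hr i _⟩
  · rcases eq_or_ne a (e 0 b) with rfl | h
    · rw [Pi.single_eq_same, sub_self]; exact one_mem'
    · rw [Pi.single_eq_of_ne h]; exact zero_mem _
  · obtain ⟨v, rfl⟩ := hsurj y
    exact ⟨v ∘ e 0, by rw [hlc, Function.comp_assoc, (e 0).self_comp_symm, Function.comp_id]⟩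
  · refine Submodule.ext fun v => ?_
    rw [LinearMap.mem_ker, hlc, h0, range_mulVecLin_submatrix]
  · refine Submodule.ext fun v => ?_
    rw [ker_mulVecLin_submatrix, range_mulVecLin_submatrix, hs]

/-- Liftings from an arbitrary complex into an exact one. -/
theorem exists_lifts {N : Type u} [AddCommGroup N] [Module k N] [Module (MvPolynomial σ k) N]
    {𝒩 : ℤ → Submodule k N} [Decomposition 𝒩] [SetLike.GradedSMul (GrSyz.stdGr k σ) 𝒩]
    (G : GrSyz.FreeRes (GrSyz.stdGr k σ) 𝒩) (rk : ℕ → ℕ) (deg : ∀ i, Fin (rk i) → ℤ)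
    (d : ∀ i, Matrix (Fin (rk i)) (Fin (rk (i + 1))) (MvPolynomial σ k))
    (hd : ∀ i, IsHomMat (deg i) (deg (i + 1)) (d i)) (hdd : ∀ i, d i * d (i + 1) = 0)
    (y : Fin (rk 0) → N) (hy : ∀ b, y b ∈ 𝒩 (deg 0 b))
    (hy0 : ∀ b, Fintype.linearCombination (MvPolynomial σ k) y ((d 0).col b) = 0) :
    ∃ φ : ∀ i, Matrix (Fin (G.rk i)) (Fin (rk i)) (MvPolynomial σ k),
      (∀ i, IsHomMat (G.deg i) (deg i) (φ i)) ∧
      (∀ v, Fintype.linearCombination (MvPolynomial σ k) G.aug ((φ 0).mulVecLin v) =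
        Fintype.linearCombination (MvPolynomial σ k) y v) ∧
      ∀ i, G.d i * φ (i + 1) = φ i * d i := by
  classical
  choose x hx hx' using fun b => exists_preimage (fr (G.deg 0)) 𝒩
    (Fintype.linearCombination (MvPolynomial σ k) G.aug) (linearCombination_mem 𝒩 G.aug_mem)
    (hy b) (by rw [LinearMap.range_eq_top.2 G.aug_surjective]; trivial)
  have hlin : Fintype.linearCombination (MvPolynomial σ k) G.aug ∘ₗ
      (Matrix.of fun a b => x b a).mulVecLin = Fintype.linearCombination (MvPolynomial σ k) y := by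
    refine LinearMap.pi_ext' fun b => LinearMap.ext_ring ?_
    simp only [LinearMap.comp_apply, LinearMap.single_apply, Matrix.mulVecLin_apply,
      Matrix.mulVec_single_one, Fintype.linearCombination_apply_single, one_smul]
    exact hx' b
  let T : ℕ → Type u := fun i =>
    {φ : Matrix (Fin (G.rk i)) (Fin (rk i)) (MvPolynomial σ k) //
      IsHomMat (G.deg i) (deg i) φ ∧ ∀ b, (φ * d i).col b ∈ LinearMap.range (G.d i).mulVecLin}
  let p0 : T 0 := ⟨Matrix.of fun a b => x b a, fun a b => mem_fr.1 (hx b) a, fun b => by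
    rw [← G.exact_zero, LinearMap.mem_ker, col_mul, ← LinearMap.comp_apply, hlin]
    exact hy0 b⟩
  have step : ∀ i (p : T i), ∃ q : T (i + 1), G.d i * q.1 = p.1 * d i := by
    intro i p
    obtain ⟨X, hX, hXeq⟩ := exists_lift (isHomMat_d G i) (p.2.1.mul (hd i)) p.2.2
    refine ⟨⟨X, hX, fun b => ?_⟩, hXeq⟩
    rw [← G.exact_succ, LinearMap.mem_ker, ← col_mul, ← Matrix.mul_assoc, hXeq, Matrix.mul_assoc,
      hdd, Matrix.mul_zero]
    rfl
  choose q hq using step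
  let P : ∀ i, T i := fun i => Nat.rec (motive := T) p0 q i
  exact ⟨fun i => (P i).1, fun i => (P i).2.1, fun v => LinearMap.congr_fun hlin v,
    fun i => hq i (P i)⟩

section cone

variable {R : Type*} [CommRing R] {p q : ℕ → Type} [∀ i, Fintype (p i)] [∀ i, Fintype (q i)]

/-- Index types of the mapping cone. -/
def coneIdx (p q : ℕ → Type) : ℕ → Type
  | 0 => q 0
  | (i + 1) => q (i + 1) ⊕ p i

instance fintypeConeIdx : ∀ i, Fintype (coneIdx p q i)
  | 0 => inferInstanceAs (Fintype (q 0))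
  | (i + 1) => inferInstanceAs (Fintype (q (i + 1) ⊕ p i))

/-- Degrees of the mapping cone. -/
def coneDeg (degP : ∀ i, p i → ℤ) (degQ : ∀ i, q i → ℤ) : ∀ i, coneIdx p q i → ℤ
  | 0 => degQ 0
  | (i + 1) => Sum.elim (degQ (i + 1)) (degP i)

variable (dP : ∀ i, Matrix (p i) (p (i + 1)) R) (dQ : ∀ i, Matrix (q i) (q (i + 1)) R)
  (φ : ∀ i, Matrix (q i) (p i) R)

/-- Differentials of the mapping cone. -/
def coneD : ∀ i, Matrix (coneIdx p q i) (coneIdx p q (i + 1)) R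
  | 0 => Matrix.fromCols (dQ 0) (φ 0)
  | (i + 1) => Matrix.fromBlocks (dQ (i + 1)) (φ (i + 1)) 0 (-dP i)

theorem coneD_mulVec_zero (v : q 1 → R) (w : p 0 → R) :
    (coneD dP dQ φ 0).mulVecLin (Sum.elim v w) = (dQ 0).mulVec v + (φ 0).mulVec w :=
  Matrix.fromCols_mulVec_sumElim _ _ _ _

theorem coneD_mulVec_succ (i : ℕ) (v : q (i + 2) → R) (w : p (i + 1) → R) :
    (coneD dP dQ φ (i + 1)).mulVecLin (Sum.elim v w) =
      Sum.elim ((dQ (i + 1)).mulVec v + (φ (i + 1)).mulVec w) (-(dP i).mulVec w) := by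
  show (Matrix.fromBlocks (dQ (i + 1)) (φ (i + 1)) 0 (-dP i)).mulVec (Sum.elim v w) = _
  rw [Matrix.fromBlocks_mulVec]
  simp [Sum.elim_comp_inl, Sum.elim_comp_inr, Matrix.neg_mulVec]

variable {dP dQ φ}

theorem cone_exact_succ (hP : ∀ i, LinearMap.ker (dP i).mulVecLin = LinearMap.range (dP (i + 1)).mulVecLin)
    (hQ : ∀ i, LinearMap.ker (dQ i).mulVecLin = LinearMap.range (dQ (i + 1)).mulVecLin)
    (hc : ∀ i, dQ i * φ (i + 1) = φ i * dP i) (i : ℕ) :
    LinearMap.ker (coneD dP dQ φ (i + 1)).mulVecLin =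
      LinearMap.range (coneD dP dQ φ (i + 2)).mulVecLin := by
  refine le_antisymm (fun u hu => ?_) ?_
  · obtain ⟨v, w, rfl⟩ : ∃ v w, u = Sum.elim v w :=
      ⟨u ∘ Sum.inl, u ∘ Sum.inr, (Sum.elim_comp_inl_inr u).symm⟩
    replace hu : (coneD dP dQ φ (i + 1)).mulVecLin (Sum.elim v w) = (Sum.elim 0 0 : _ ⊕ _ → R) :=
      (LinearMap.mem_ker.1 hu).trans Sum.elim_zero_zero.symm
    rw [coneD_mulVec_succ] at hu
    have h1 := congrArg (fun f => f ∘ Sum.inl) hu
    have h2 := congrArg (fun f => f ∘ Sum.inr) hu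
    simp only [Sum.elim_comp_inl, Sum.elim_comp_inr, neg_eq_zero] at h1 h2
    obtain ⟨w', hw'⟩ : w ∈ LinearMap.range (dP (i + 1)).mulVecLin := (hP i).le h2
    rw [Matrix.mulVecLin_apply] at hw'
    have h3 : v + (φ (i + 2)).mulVec w' ∈ LinearMap.ker (dQ (i + 1)).mulVecLin := by
      rw [LinearMap.mem_ker, Matrix.mulVecLin_apply, Matrix.mulVec_add, Matrix.mulVec_mulVec,
        hc (i + 1), ← Matrix.mulVec_mulVec, hw']
      exact h1
    rw [hQ (i + 1)] at h3
    obtain ⟨v', hv'⟩ := h3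
    rw [Matrix.mulVecLin_apply] at hv'
    refine ⟨Sum.elim v' (-w'), ?_⟩
    rw [coneD_mulVec_succ]
    simp only [Matrix.mulVec_neg, hw', hv', neg_neg]
    congr 1
    abel
  · rintro _ ⟨u, rfl⟩
    obtain ⟨v, w, rfl⟩ : ∃ v w, u = Sum.elim v w :=
      ⟨u ∘ Sum.inl, u ∘ Sum.inr, (Sum.elim_comp_inl_inr u).symm⟩
    have e1 : (dQ (i + 1)).mulVec ((dQ (i + 2)).mulVec v) = 0 :=
      (hQ (i + 1)).ge ⟨v, rfl⟩
    have e2 : (dP i).mulVec ((dP (i + 1)).mulVec w) = 0 := (hP i).ge ⟨w, rfl⟩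
    rw [LinearMap.mem_ker, coneD_mulVec_succ, coneD_mulVec_succ, Matrix.mulVec_add, e1,
      Matrix.mulVec_neg, Matrix.mulVec_neg, Matrix.mulVec_mulVec w (dQ (i + 1)), hc (i + 1),
      ← Matrix.mulVec_mulVec, e2]
    simp
    rfl

theorem cone_exact_zero (hQ : ∀ i, LinearMap.ker (dQ i).mulVecLin = LinearMap.range (dQ (i + 1)).mulVecLin)
    (hc : ∀ i, dQ i * φ (i + 1) = φ i * dP i)
    (h0 : ∀ w, (φ 0).mulVec w ∈ LinearMap.range (dQ 0).mulVecLin →
      w ∈ LinearMap.range (dP 0).mulVecLin) :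
    LinearMap.ker (coneD dP dQ φ 0).mulVecLin = LinearMap.range (coneD dP dQ φ 1).mulVecLin := by
  refine le_antisymm (fun u hu => ?_) ?_
  · obtain ⟨v, w, rfl⟩ : ∃ v w, u = Sum.elim v w :=
      ⟨u ∘ Sum.inl, u ∘ Sum.inr, (Sum.elim_comp_inl_inr u).symm⟩
    replace hu : (coneD dP dQ φ 0).mulVecLin (Sum.elim v w) = 0 := hu
    rw [coneD_mulVec_zero] at hu
    obtain ⟨w', hw'⟩ := h0 w ⟨-v, by
      rw [Matrix.mulVecLin_apply, Matrix.mulVec_neg]
      exact neg_eq_of_add_eq_zero_right hu⟩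
    rw [Matrix.mulVecLin_apply] at hw'
    have h3 : v + (φ 1).mulVec w' ∈ LinearMap.ker (dQ 0).mulVecLin := by
      rw [LinearMap.mem_ker, Matrix.mulVecLin_apply, Matrix.mulVec_add, Matrix.mulVec_mulVec,
        hc 0, ← Matrix.mulVec_mulVec, hw']
      exact hu
    rw [hQ 0] at h3
    obtain ⟨v', hv'⟩ := h3
    rw [Matrix.mulVecLin_apply] at hv'
    refine ⟨Sum.elim v' (-w'), ?_⟩
    rw [coneD_mulVec_succ]
    simp only [Matrix.mulVec_neg, hw', hv', neg_neg]
    congr 1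
    abel
  · rintro _ ⟨u, rfl⟩
    obtain ⟨v, w, rfl⟩ : ∃ v w, u = Sum.elim v w :=
      ⟨u ∘ Sum.inl, u ∘ Sum.inr, (Sum.elim_comp_inl_inr u).symm⟩
    have e1 : (dQ 0).mulVec ((dQ 1).mulVec v) = 0 := (hQ 0).ge ⟨v, rfl⟩
    rw [LinearMap.mem_ker, coneD_mulVec_succ, coneD_mulVec_zero, Matrix.mulVec_add, e1,
      Matrix.mulVec_neg, Matrix.mulVec_mulVec w (dQ 0), hc 0, ← Matrix.mulVec_mulVec]
    simp
    rfl

theorem mem_range_coneD_zero {u : q 0 → R} :
    (∃ x, (coneD dP dQ φ 0).mulVecLin x = u) ↔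
      ∃ v w, (dQ 0).mulVec v + (φ 0).mulVec w = u := by
  constructor
  · rintro ⟨x, rfl⟩
    obtain ⟨v, w, rfl⟩ : ∃ v w, x = Sum.elim v w :=
      ⟨x ∘ Sum.inl, x ∘ Sum.inr, (Sum.elim_comp_inl_inr x).symm⟩
    exact ⟨v, w, (coneD_mulVec_zero _ _ _ v w).symm⟩
  · rintro ⟨v, w, rfl⟩
    exact ⟨Sum.elim v w, coneD_mulVec_zero _ _ _ v w⟩

end cone

theorem coneD_mem {p q : ℕ → Type} [∀ i, Fintype (p i)] [∀ i, Fintype (q i)]
    {dP : ∀ i, Matrix (p i) (p (i + 1)) (MvPolynomial σ k)}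
    {dQ : ∀ i, Matrix (q i) (q (i + 1)) (MvPolynomial σ k)}
    {φ : ∀ i, Matrix (q i) (p i) (MvPolynomial σ k)} {degP : ∀ i, p i → ℤ} {degQ : ∀ i, q i → ℤ}
    (hP : ∀ i a b, dP i a b ∈ GrSyz.stdGr k σ (degP (i + 1) b - degP i a))
    (hQ : ∀ i a b, dQ i a b ∈ GrSyz.stdGr k σ (degQ (i + 1) b - degQ i a))
    (hφ : ∀ i a b, φ i a b ∈ GrSyz.stdGr k σ (degP i b - degQ i a)) :
    ∀ i a b, coneD dP dQ φ i a b ∈
      GrSyz.stdGr k σ (coneDeg degP degQ (i + 1) b - coneDeg degP degQ i a) := by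
  intro i
  cases i with
  | zero =>
    intro a b
    rcases b with b | b
    · exact hQ 0 a b
    · exact hφ 0 a b
  | succ i =>
    intro a b
    rcases a with a | a <;> rcases b with b | b
    · exact hQ (i + 1) a b
    · exact hφ (i + 1) a b
    · exact zero_mem _
    · exact neg_mem (hP i a b)

end

end Groth.GrSyzLib
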