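import Groth.Agent.GrSyz.AusBuch
import Groth.Agent.LocCohBase.CM

/-!
The depth of the polynomial ring at the irrelevant ideal.
-/

set_option autoImplicit false
set_option maxHeartbeats 1000000

universe u

namespace Groth.GrSyzLib

open MvPolynomial RingTheory.Sequence Groth.LocCohBase

noncomputable section

theorem take_ofList_eq {k : Type u} [Field k] {m : ℕ} (j : ℕ) :
    Ideal.ofList (((List.finRange m).map (MvPolynomial.X (R := k))).take j) =
      Ideal.span (MvPolynomial.X '' {i : Fin m | i.val < j}) := by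
  refine congrArg Ideal.span (Set.ext fun x => ?_)
  simp only [Set.mem_setOf_eq, List.mem_take_iff_getElem, List.getElem_map,
    List.getElem_finRange, Set.mem_image, List.length_map, List.length_finRange]
  constructor
  · rintro ⟨i, hi, rfl⟩
    exact ⟨⟨i, by omega⟩, lt_of_lt_of_le hi (min_le_left _ _), rfl⟩
  · rintro ⟨i, hi, rfl⟩
    exact ⟨i, lt_min hi i.2, rfl⟩

theorem isWeaklyRegular_vars (k : Type u) [Field k] (m : ℕ) :
    IsWeaklyRegular (MvPolynomial (Fin m) k) ((List.finRange m).map (MvPolynomial.X (R := k))) := by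
  classical
  refine ⟨fun j hj => ?_⟩
  rw [isSMulRegular_quotient_iff_mem_of_smul_mem]
  intro f hf
  rw [smul_eq_mul, smul_eq_mul, Ideal.mul_top, take_ofList_eq, mem_ideal_span_X_image] at hf
  rw [smul_eq_mul, Ideal.mul_top, take_ofList_eq, mem_ideal_span_X_image]
  have hjm : j < m := by simpa using hj
  simp only [List.getElem_map, List.getElem_finRange, Fin.cast_mk] at hf
  intro mo hmo
  have h1 : Finsupp.single (⟨j, hjm⟩ : Fin m) 1 + mo ∈ (MvPolynomial.X (⟨j, hjm⟩ : Fin m) * f).support := by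
    rw [support_X_mul]
    exact Finset.mem_map.2 ⟨mo, hmo, rfl⟩
  obtain ⟨i, hi, hi'⟩ := hf _ h1
  refine ⟨i, hi, ?_⟩
  rwa [Finsupp.add_apply, Finsupp.single_eq_of_ne (by
    intro h; subst h; exact absurd (show j < j from hi) (lt_irrefl j)), zero_add] at hi'

variable {k : Type u} [Field k] {r : ℕ}

theorem idealDepth_irrel_eq (M : Type u) [AddCommGroup M] [Module (MvPolynomial (Fin (r + 1)) k) M]
    [Module.Finite (MvPolynomial (Fin (r + 1)) k) M]
    [hm : (GrSyz.irrel (GrSyz.stdGr k (Fin (r + 1)))).toIdeal.IsMaximal] :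
    LocCoh.idealDepth (GrSyz.irrel (GrSyz.stdGr k (Fin (r + 1)))).toIdeal M =
      LocCoh.depth (Localization.AtPrime (GrSyz.irrel (GrSyz.stdGr k (Fin (r + 1)))).toIdeal)
        (LocalizedModule (GrSyz.irrel (GrSyz.stdGr k (Fin (r + 1)))).toIdeal.primeCompl M) := by
  rw [idealDepth_eq_iInf_depth]
  refine le_antisymm (iInf₂_le (⟨_, hm.isPrime⟩ : PrimeSpectrum _) le_rfl) (le_iInf₂ fun p hp => ?_)
  obtain ⟨q, hq⟩ := p
  obtain rfl := hm.eq_of_le hq.ne_top hp
  exact le_rfl

theorem depth_localization_irrel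
    [hm : (GrSyz.irrel (GrSyz.stdGr k (Fin (r + 1)))).toIdeal.IsMaximal] :
    LocCoh.depth (Localization.AtPrime (GrSyz.irrel (GrSyz.stdGr k (Fin (r + 1)))).toIdeal)
      (Localization.AtPrime (GrSyz.irrel (GrSyz.stdGr k (Fin (r + 1)))).toIdeal) = ((r + 1 : ℕ) : ℕ∞) := by
  set m := (GrSyz.irrel (GrSyz.stdGr k (Fin (r + 1)))).toIdeal with hmdef
  let e : LocalizedModule m.primeCompl (MvPolynomial (Fin (r + 1)) k) ≃ₗ[Localization.AtPrime m]
      Localization.AtPrime m :=
    LinearEquiv.extendScalarsOfIsLocalization m.primeCompl (Localization.AtPrime m)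
      (IsLocalizedModule.linearEquiv m.primeCompl
        (LocalizedModule.mkLinearMap m.primeCompl (MvPolynomial (Fin (r + 1)) k))
        (Algebra.linearMap (MvPolynomial (Fin (r + 1)) k) (Localization.AtPrime m)))
  refine le_antisymm ?_ ?_
  · have h1 := depth_le_supportDim (R := Localization.AtPrime m) (Localization.AtPrime m)
    rw [Module.supportDim_self_eq_ringKrullDim, IsLocalization.AtPrime.ringKrullDim_eq_height m] at h1
    have h2 := h1.trans (Ideal.height_le_ringKrullDim_of_ne_top hm.ne_top)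
    rw [MvPolynomial.ringKrullDim_of_isNoetherianRing, ringKrullDim_eq_zero_of_field, Nat.card_fin,
      zero_add] at h2
    exact WithBot.coe_le_coe.1 h2
  · rw [LocCoh.depth, ← idealDepth_congr e]
    refine le_of_le_of_eq ?_ (idealDepth_irrel_eq (r := r) (k := k) (MvPolynomial (Fin (r + 1)) k))
    have hne : m • (⊤ : Submodule (MvPolynomial (Fin (r + 1)) k) (MvPolynomial (Fin (r + 1)) k)) ≠ ⊤ := by
      rw [smul_eq_mul, Ideal.mul_top]; exact hm.ne_top
    refine (le_idealDepth_iff_exists (I := m) hne (r + 1)).2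
      ⟨(List.finRange (r + 1)).map (MvPolynomial.X (R := k)), by simp, isWeaklyRegular_vars k (r + 1),
        fun y hy => ?_⟩
    obtain ⟨i, -, rfl⟩ := List.mem_map.1 hy
    exact mem_irrel_iff.2 (MvPolynomial.constantCoeff_X (R := k) i)

end

end Groth.GrSyzLib
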