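import Groth.Agent.GrSyz.Res
import Mathlib.LinearAlgebra.Isomorphisms

/-!
Homogeneous submodules and their quotients as graded modules over the polynomial ring.
-/

set_option autoImplicit false

universe u

namespace Groth.GrSyzLib

open MvPolynomial DirectSum

noncomputable section

/-- A family with projections is a grading. -/
theorem isInternal_of_proj {k : Type*} [Field k] {V : Type*} [AddCommGroup V] [Module k V]
    (P : ℤ → Submodule k V) (q : ℤ → V →ₗ[k] V) (h1 : ∀ g, ∀ x ∈ P g, q g x = x)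
    (h2 : ∀ g j, g ≠ j → ∀ x ∈ P j, q g x = 0) (hmem : ∀ g x, q g x ∈ P g)
    (hsum : ∀ x, ∃ s : Finset ℤ, ∑ g ∈ s, q g x = x) : DirectSum.IsInternal P := by
  refine isInternal_submodule_of_iSupIndep_of_iSup_eq_top ?_ ?_
  · refine iSupIndep_def.2 fun g => Submodule.disjoint_def.2 fun x hx hx' => ?_
    have : (⨆ (j : ℤ) (_ : j ≠ g), P j) ≤ LinearMap.ker (q g) :=
      iSup₂_le fun j hj v hv => h2 g j (Ne.symm hj) v hv
    rw [← h1 g x hx]
    exact this hx'
  · refine eq_top_iff.2 fun x _ => ?_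
    obtain ⟨s, hs⟩ := hsum x
    rw [← hs]
    exact sum_mem fun g _ => Submodule.mem_iSup_of_mem g (hmem g x)

variable {k : Type u} [Field k] {σ : Type}
variable {M : Type u} [AddCommGroup M] [Module k M] [Module (MvPolynomial σ k) M]
  [IsScalarTower k (MvPolynomial σ k) M] (ℳ : ℤ → Submodule k M) [Decomposition ℳ]
  (K : Submodule (MvPolynomial σ k) M)

/-- The pieces of a submodule. -/
def subP (g : ℤ) : Submodule k K := (ℳ g).comap (K.subtype.restrictScalars k)

/-- The pieces of a quotient. -/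
def quotP (g : ℤ) : Submodule k (M ⧸ K) := (ℳ g).map (K.mkQ.restrictScalars k)

variable [SetLike.GradedSMul (GrSyz.stdGr k σ) ℳ]

instance subP_gradedSMul : SetLike.GradedSMul (GrSyz.stdGr k σ) (subP ℳ K) where
  smul_mem := fun {_ _ _ _} hp hx => smul_mem' ℳ hp hx

instance quotP_gradedSMul : SetLike.GradedSMul (GrSyz.stdGr k σ) (quotP ℳ K) where
  smul_mem := fun {_ _ p _} hp hx => by
    obtain ⟨m, hm, rfl⟩ := hx
    exact ⟨p • m, smul_mem' ℳ hp hm, rfl⟩

omit [SetLike.GradedSMul (GrSyz.stdGr k σ) ℳ]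

theorem subP_isInternal (hK : IsHom ℳ K) : DirectSum.IsInternal (subP ℳ K) := by
  let q : ℤ → K →ₗ[k] K := fun g =>
    { toFun := fun x => ⟨pr ℳ g x.1, hK g x.1 x.2⟩
      map_add' := fun x y => Subtype.ext (map_add (pr ℳ g) x.1 y.1)
      map_smul' := fun c x => Subtype.ext (map_smul (pr ℳ g) c x.1) }
  refine isInternal_of_proj _ q (fun g x hx => Subtype.ext (pr_of_mem ℳ hx))
    (fun g j hne x hx => Subtype.ext (pr_of_mem_ne ℳ hx hne.symm)) (fun g x => pr_mem ℳ g x.1)
    fun x => ?_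
  obtain ⟨s, -, hs⟩ := exists_sum_pr ℳ x.1
  exact ⟨s, Subtype.ext ((AddSubmonoidClass.coe_finsetSum _ _).trans hs)⟩

theorem quotP_isInternal (hK : IsHom ℳ K) : DirectSum.IsInternal (quotP ℳ K) := by
  let q : ℤ → (M ⧸ K) →ₗ[k] (M ⧸ K) := fun g =>
    { toFun := Quotient.lift (fun m => K.mkQ (pr ℳ g m)) fun a b h => by
        rw [← sub_eq_zero, ← map_sub, ← map_sub]
        exact (Submodule.Quotient.mk_eq_zero K).2 (hK g _ ((Submodule.quotientRel_def K).1 h))
      map_add' := fun x y => by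
        obtain ⟨a, rfl⟩ := Submodule.Quotient.mk_surjective K x
        obtain ⟨b, rfl⟩ := Submodule.Quotient.mk_surjective K y
        exact (congrArg K.mkQ (map_add (pr ℳ g) a b)).trans (map_add K.mkQ _ _)
      map_smul' := fun c x => by
        obtain ⟨a, rfl⟩ := Submodule.Quotient.mk_surjective K x
        exact (congrArg K.mkQ (map_smul (pr ℳ g) c a)).trans (LinearMap.map_smul_of_tower K.mkQ _ _) }
  refine isInternal_of_proj _ q ?_ ?_ (fun g x => ?_) fun x => ?_
  · rintro g _ ⟨m, hm, rfl⟩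
    exact congrArg K.mkQ (pr_of_mem ℳ hm)
  · rintro g j hne _ ⟨m, hm, rfl⟩
    exact (congrArg K.mkQ (pr_of_mem_ne ℳ hm hne.symm)).trans (map_zero _)
  · obtain ⟨a, rfl⟩ := Submodule.Quotient.mk_surjective K x
    exact ⟨pr ℳ g a, pr_mem ℳ g a, rfl⟩
  · obtain ⟨a, rfl⟩ := Submodule.Quotient.mk_surjective K x
    obtain ⟨s, -, hs⟩ := exists_sum_pr ℳ a
    exact ⟨s, (map_sum K.mkQ _ s).symm.trans (congrArg K.mkQ hs)⟩

end

end Groth.GrSyzLib
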