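import Groth.Agent.GrSyz.Cone

/-!
Castelnuovo–Mumford regularity in short exact sequences.
-/

set_option autoImplicit false
set_option maxHeartbeats 2000000

universe u

namespace Groth.GrSyzLib

open MvPolynomial DirectSum Matrix

noncomputable section

variable {R : Type*} [CommRing R]

theorem map_linearCombination {M N : Type*} [AddCommGroup M] [Module R M] [AddCommGroup N]
    [Module R N] {ι : Type*} [Fintype ι] (f : M →ₗ[R] N) (v : ι → M) (w : ι → R) :
    f (Fintype.linearCombination R v w) = Fintype.linearCombination R (fun b => f (v b)) w := by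
  simp [Fintype.linearCombination_apply, map_sum]

theorem linearCombination_sumElim {M : Type*} [AddCommGroup M] [Module R M] {α β : Type*}
    [Fintype α] [Fintype β] (x : α → M) (y : β → M) (a : α → R) (b : β → R) :
    Fintype.linearCombination R (Sum.elim x y) (Sum.elim a b) =
      Fintype.linearCombination R x a + Fintype.linearCombination R y b := by
  simp [Fintype.linearCombination_apply, Fintype.sum_sum_type]

theorem block_exact {p q : ℕ → Type} [∀ i, Fintype (p i)] [∀ i, Fintype (q i)]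
    {dP : ∀ i, Matrix (p i) (p (i + 1)) R} {dQ : ∀ i, Matrix (q i) (q (i + 1)) R}
    {ψ : ∀ i, Matrix (q i) (p (i + 1)) R}
    (hP : ∀ i, LinearMap.ker (dP i).mulVecLin = LinearMap.range (dP (i + 1)).mulVecLin)
    (hQ : ∀ i, LinearMap.ker (dQ i).mulVecLin = LinearMap.range (dQ (i + 1)).mulVecLin)
    (hc : ∀ i, dQ i * ψ (i + 1) + ψ i * dP (i + 1) = 0) (i : ℕ) :
    LinearMap.ker (Matrix.fromBlocks (dQ i) (ψ i) 0 (dP i)).mulVecLin =
      LinearMap.range (Matrix.fromBlocks (dQ (i + 1)) (ψ (i + 1)) 0 (dP (i + 1))).mulVecLin := by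
  refine le_antisymm (fun u hu => ?_) ?_
  · rw [LinearMap.mem_ker, Matrix.mulVecLin_apply, Matrix.fromBlocks_mulVec,
      ← Sum.elim_zero_zero] at hu
    have h1 := congrArg (fun f => f ∘ Sum.inl) hu
    have h2 := congrArg (fun f => f ∘ Sum.inr) hu
    simp only [Sum.elim_comp_inl, Sum.elim_comp_inr, Matrix.zero_mulVec, zero_add] at h1 h2
    obtain ⟨w', hw'⟩ : u ∘ Sum.inr ∈ LinearMap.range (dP (i + 1)).mulVecLin := (hP i).le h2
    rw [Matrix.mulVecLin_apply] at hw'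
    have h3 : u ∘ Sum.inl - (ψ (i + 1)).mulVec w' ∈ LinearMap.ker (dQ i).mulVecLin := by
      rw [LinearMap.mem_ker, Matrix.mulVecLin_apply, Matrix.mulVec_sub, Matrix.mulVec_mulVec,
        eq_neg_of_add_eq_zero_left (hc i), Matrix.neg_mulVec, ← Matrix.mulVec_mulVec, hw',
        sub_neg_eq_add]
      exact h1
    rw [hQ i] at h3
    obtain ⟨v', hv'⟩ := h3
    rw [Matrix.mulVecLin_apply] at hv'
    refine ⟨Sum.elim v' w', ?_⟩
    rw [Matrix.mulVecLin_apply, Matrix.fromBlocks_mulVec, Sum.elim_comp_inl, Sum.elim_comp_inr,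
      Matrix.zero_mulVec, zero_add, hw', hv', sub_add_cancel, Sum.elim_comp_inl_inr]
  · rintro _ ⟨u, rfl⟩
    rw [LinearMap.mem_ker, Matrix.mulVecLin_apply, Matrix.mulVecLin_apply, Matrix.mulVec_mulVec,
      Matrix.fromBlocks_multiply]
    have e1 : dQ i * dQ (i + 1) = 0 := Matrix.mulVec_injective (funext fun v => by
      rw [← Matrix.mulVec_mulVec, Matrix.zero_mulVec]; exact (hQ i).ge ⟨v, rfl⟩)
    have e2 : dP i * dP (i + 1) = 0 := Matrix.mulVec_injective (funext fun v => by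
      rw [← Matrix.mulVec_mulVec, Matrix.zero_mulVec]; exact (hP i).ge ⟨v, rfl⟩)
    simp [e1, e2, hc i]

variable {k : Type u} [Field k] {σ : Type}
variable {M₁ : Type u} [AddCommGroup M₁] [Module k M₁] [Module (MvPolynomial σ k) M₁]
  {ℳ₁ : ℤ → Submodule k M₁} [Decomposition ℳ₁] [SetLike.GradedSMul (GrSyz.stdGr k σ) ℳ₁]
  {M₂ : Type u} [AddCommGroup M₂] [Module k M₂] [Module (MvPolynomial σ k) M₂]
  {ℳ₂ : ℤ → Submodule k M₂} [Decomposition ℳ₂] [SetLike.GradedSMul (GrSyz.stdGr k σ) ℳ₂]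
  {M₃ : Type u} [AddCommGroup M₃] [Module k M₃] [Module (MvPolynomial σ k) M₃]
  {ℳ₃ : ℤ → Submodule k M₃} [Decomposition ℳ₃] [SetLike.GradedSMul (GrSyz.stdGr k σ) ℳ₃]
  {f : M₁ →ₗ[MvPolynomial σ k] M₂} {g : M₂ →ₗ[MvPolynomial σ k] M₃}

theorem fr_single {n : ℕ} (deg : Fin n → ℤ) (b : Fin n) :
    (Pi.single b 1 : Fin n → MvPolynomial σ k) ∈ fr deg (deg b) :=
  single_mem_fr deg b (by rw [sub_self]; exact one_mem')

/-- Resolution of a cokernel: the mapping cone. -/
theorem exists_res_X₃ (hf : Function.Injective f) (hg : Function.Surjective g)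
    (hfg : LinearMap.range f = LinearMap.ker g) (hfgr : ∀ d x, x ∈ ℳ₁ d → f x ∈ ℳ₂ d)
    (hggr : ∀ d x, x ∈ ℳ₂ d → g x ∈ ℳ₃ d) {r : ℤ}
    (F₁ : GrSyz.FreeRes (GrSyz.stdGr k σ) ℳ₁) (F₂ : GrSyz.FreeRes (GrSyz.stdGr k σ) ℳ₂)
    (h₁ : F₁.IsGenLE (r + 1)) (h₂ : F₂.IsGenLE r) :
    ∃ G : GrSyz.FreeRes (GrSyz.stdGr k σ) ℳ₃, G.IsGenLE r := by
  classical
  obtain ⟨φ, hφ, hφ0, hφs⟩ := exists_lifts F₂ F₁.rk F₁.deg F₁.d (fun i => isHomMat_d F₁ i)
    (fun i => d_mul_d F₁ i) (fun b => f (F₁.aug b)) (fun b => hfgr _ _ (F₁.aug_mem b))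
    (fun b => by rw [← map_linearCombination, aug_comp_d_col, map_zero])
  have hgf : ∀ x, g (f x) = 0 := fun x => hfg.le ⟨x, rfl⟩
  let p : ℕ → Type := fun i => Fin (F₁.rk i)
  let q : ℕ → Type := fun i => Fin (F₂.rk i)
  have hker : ∀ v : Fin (F₂.rk 0) → MvPolynomial σ k,
      g (Fintype.linearCombination (MvPolynomial σ k) F₂.aug v) = 0 ↔
        ∃ x, (coneD (p := p) (q := q) F₁.d F₂.d φ 0).mulVecLin x = v := by
    intro v
    rw [mem_range_coneD_zero]
    constructor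
    · intro hv
      obtain ⟨m, hm⟩ := hfg.ge (show _ ∈ LinearMap.ker g from hv)
      obtain ⟨w, rfl⟩ := F₁.aug_surjective m
      rw [map_linearCombination, ← hφ0 w] at hm
      have hz : v - (φ 0).mulVec w ∈ LinearMap.ker (Fintype.linearCombination (MvPolynomial σ k) F₂.aug) := by
        rw [LinearMap.mem_ker, map_sub, sub_eq_zero]
        exact hm.symm
      rw [F₂.exact_zero] at hz
      obtain ⟨u, hu⟩ := hz
      rw [Matrix.mulVecLin_apply] at hu
      exact ⟨u, w, by rw [hu, sub_add_cancel]⟩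
    · rintro ⟨u, w, rfl⟩
      have hu : Fintype.linearCombination (MvPolynomial σ k) F₂.aug ((F₂.d 0).mulVec u) = 0 :=
        F₂.exact_zero.ge ⟨u, rfl⟩
      rw [map_add, hu, zero_add, ← Matrix.mulVecLin_apply, hφ0, ← map_linearCombination, hgf]
  refine exists_freeRes_of_fintype ℳ₃ (coneIdx p q) (coneDeg (p := p) (q := q) F₁.deg F₂.deg)
    (coneD (p := p) (q := q) F₁.d F₂.d φ) (coneD_mem F₁.d_mem F₂.d_mem hφ)
    (g ∘ₗ Fintype.linearCombination (MvPolynomial σ k) F₂.aug)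
    (fun d v hv => hggr _ _ (linearCombination_mem ℳ₂ F₂.aug_mem d v (mem_fr.2 hv)))
    (hg.comp F₂.aug_surjective) (fun v => hker v)
    (fun i => by
      cases i with
      | zero =>
        refine cone_exact_zero F₂.exact_succ hφs fun w hw => ?_
        rw [← F₁.exact_zero, LinearMap.mem_ker]
        have h : Fintype.linearCombination (MvPolynomial σ k) F₂.aug ((φ 0).mulVec w) = 0 :=
          F₂.exact_zero.ge hw
        rw [← Matrix.mulVecLin_apply, hφ0, ← map_linearCombination] at h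
        exact hf (h.trans (map_zero f).symm)
      | succ i => exact cone_exact_succ F₁.exact_succ F₂.exact_succ hφs i)
    (fun i b => ?_)
  cases i with
  | zero => exact h₂ 0 b
  | succ i =>
    rcases b with b | b
    · exact h₂ (i + 1) b
    · have := h₁ i b
      show F₁.deg i b ≤ r + ((i + 1 : ℕ) : ℤ)
      push_cast
      omega

/-- Resolution of an extension: the horseshoe. -/
theorem exists_res_X₂ (hf : Function.Injective f) (hg : Function.Surjective g)
    (hfg : LinearMap.range f = LinearMap.ker g) (hfgr : ∀ d x, x ∈ ℳ₁ d → f x ∈ ℳ₂ d)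
    (hggr : ∀ d x, x ∈ ℳ₂ d → g x ∈ ℳ₃ d) {r : ℤ}
    (F₁ : GrSyz.FreeRes (GrSyz.stdGr k σ) ℳ₁) (F₃ : GrSyz.FreeRes (GrSyz.stdGr k σ) ℳ₃)
    (h₁ : F₁.IsGenLE r) (h₃ : F₃.IsGenLE r) :
    ∃ G : GrSyz.FreeRes (GrSyz.stdGr k σ) ℳ₂, G.IsGenLE r := by
  classical
  choose x hx hx' using fun b => exists_preimage ℳ₂ ℳ₃ g hggr (F₃.aug_mem b) (hg (F₃.aug b))
  have hgx : ∀ w, g (Fintype.linearCombination (MvPolynomial σ k) x w) =
      Fintype.linearCombination (MvPolynomial σ k) F₃.aug w := fun w => by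
    rw [map_linearCombination]; exact congrArg (fun v => Fintype.linearCombination _ v w) (funext hx')
  choose y hy hy' using fun b => exists_preimage ℳ₁ ℳ₂ f hfgr
    (linearCombination_mem ℳ₂ hx _ _ ((isHomMat_d F₃ 0).col_mem b))
    (hfg.ge (show _ ∈ LinearMap.ker g by rw [LinearMap.mem_ker, hgx, aug_comp_d_col]))
  have hfy : ∀ w, f (Fintype.linearCombination (MvPolynomial σ k) (fun b => -y b) w) =
      -Fintype.linearCombination (MvPolynomial σ k) x ((F₃.d 0).mulVec w) := by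
    intro w
    have : f ∘ₗ Fintype.linearCombination (MvPolynomial σ k) (fun b => -y b) =
        -(Fintype.linearCombination (MvPolynomial σ k) x ∘ₗ (F₃.d 0).mulVecLin) := by
      refine LinearMap.pi_ext' fun b => LinearMap.ext_ring ?_
      simp only [LinearMap.comp_apply, LinearMap.neg_apply, LinearMap.single_apply,
        Matrix.mulVecLin_apply, Matrix.mulVec_single_one, Fintype.linearCombination_apply_single,
        one_smul, map_neg, hy']
    exact LinearMap.congr_fun this w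
  obtain ⟨τ, hτ, hτ0, hτs⟩ := exists_lifts F₁ (fun i => F₃.rk (i + 1)) (fun i => F₃.deg (i + 1))
    (fun i => -F₃.d (i + 1)) (fun i a b => neg_mem (F₃.d_mem (i + 1) a b))
    (fun i => by rw [Matrix.neg_mul, Matrix.mul_neg, neg_neg, d_mul_d])
    (fun b => -y b) (fun b => neg_mem (hy b))
    (fun b => hf (by
      rw [hfy, map_zero, show (F₃.d 0).mulVec ((-F₃.d (0 + 1)).col b) =
        (F₃.d 0 * -F₃.d (0 + 1)).col b from rfl, Matrix.mul_neg, d_mul_d, neg_zero,
        show ((0 : Matrix (Fin (F₃.rk 0)) (Fin (F₃.rk (0 + 1 + 1))) (MvPolynomial σ k)).col b) = 0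
          from rfl, map_zero, neg_zero]))
  have hc : ∀ i, F₁.d i * τ (i + 1) + τ i * F₃.d (i + 1) = 0 := fun i => by
    rw [hτs, Matrix.mul_neg, neg_add_cancel]
  let L : (Fin (F₁.rk 0) ⊕ Fin (F₃.rk 0) → MvPolynomial σ k) →ₗ[MvPolynomial σ k] M₂ :=
    Fintype.linearCombination (MvPolynomial σ k) (Sum.elim (fun b => f (F₁.aug b)) x)
  have hL : ∀ a c, L (Sum.elim a c) =
      f (Fintype.linearCombination (MvPolynomial σ k) F₁.aug a) +
        Fintype.linearCombination (MvPolynomial σ k) x c := fun a c => by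
    rw [map_linearCombination]; exact linearCombination_sumElim _ _ _ _
  refine exists_freeRes_of_fintype ℳ₂ (fun i => Fin (F₁.rk i) ⊕ Fin (F₃.rk i))
    (fun i => Sum.elim (F₁.deg i) (F₃.deg i))
    (fun i => Matrix.fromBlocks (F₁.d i) (τ i) 0 (F₃.d i)) (fun i a b => ?_) L (fun d u hu => ?_)
    (fun m => ?_) (fun u => ?_) (fun i => block_exact F₃.exact_succ F₁.exact_succ hc i)
    (fun i b => ?_)
  · rcases a with a | a <;> rcases b with b | b
    · exact F₁.d_mem i a b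
    · exact hτ i a b
    · exact zero_mem _
    · exact F₃.d_mem i a b
  · rw [← Sum.elim_comp_inl_inr u, hL]
    exact add_mem
      (hfgr _ _ (linearCombination_mem ℳ₁ F₁.aug_mem d _ (mem_fr.2 fun b => hu (Sum.inl b))))
      (linearCombination_mem ℳ₂ hx d _ (mem_fr.2 fun b => hu (Sum.inr b)))
  · obtain ⟨c, hc'⟩ := F₃.aug_surjective (g m)
    obtain ⟨m₁, hm₁⟩ := hfg.ge (show m - Fintype.linearCombination (MvPolynomial σ k) x c ∈
      LinearMap.ker g by rw [LinearMap.mem_ker, map_sub, hgx, hc', sub_self])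
    obtain ⟨a, rfl⟩ := F₁.aug_surjective m₁
    exact ⟨Sum.elim a c, by rw [hL, hm₁, sub_add_cancel]⟩
  · obtain ⟨a, c, rfl⟩ : ∃ a c, u = Sum.elim a c :=
      ⟨u ∘ Sum.inl, u ∘ Sum.inr, (Sum.elim_comp_inl_inr u).symm⟩
    constructor
    · intro h
      rw [hL] at h
      have h3 : Fintype.linearCombination (MvPolynomial σ k) F₃.aug c = 0 := by
        have := congrArg g h
        rwa [map_add, hgx, map_zero, show g (f _) = 0 from hfg.le ⟨_, rfl⟩, zero_add] at this
      obtain ⟨w, hw⟩ : c ∈ LinearMap.range (F₃.d 0).mulVecLin := F₃.exact_zero.le h3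
      rw [Matrix.mulVecLin_apply] at hw
      have h1 : Fintype.linearCombination (MvPolynomial σ k) F₁.aug (a - (τ 0).mulVec w) = 0 := by
        refine hf ?_
        rw [map_sub, map_sub, map_zero, ← Matrix.mulVecLin_apply, hτ0, hfy, hw, sub_neg_eq_add]
        exact h
      obtain ⟨v, hv⟩ : a - (τ 0).mulVec w ∈ LinearMap.range (F₁.d 0).mulVecLin :=
        F₁.exact_zero.le h1
      rw [Matrix.mulVecLin_apply] at hv
      refine ⟨Sum.elim v w, ?_⟩
      rw [Matrix.mulVecLin_apply, Matrix.fromBlocks_mulVec, Sum.elim_comp_inl, Sum.elim_comp_inr,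
        Matrix.zero_mulVec, hw, hv, sub_add_cancel, zero_add c]
    · rintro ⟨v, hv⟩
      rw [← hv, Matrix.mulVecLin_apply, Matrix.fromBlocks_mulVec, Matrix.zero_mulVec,
        zero_add ((F₃.d 0).mulVec (v ∘ Sum.inr)), hL,
        map_add, map_add, ← Matrix.mulVecLin_apply (τ 0), hτ0, hfy,
        show Fintype.linearCombination (MvPolynomial σ k) F₁.aug
          ((F₁.d 0).mulVec (v ∘ Sum.inl)) = 0 from F₁.exact_zero.ge ⟨_, rfl⟩]
      simp
  · rcases b with b | b
    · exact h₁ i b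
    · exact h₃ i b

/-- A free module in degree `0`. -/
def ptRk (n : ℕ) : ℕ → ℕ
  | 0 => n
  | _ + 1 => 0

/-- Degrees of a free module in degree `0`. -/
def ptDeg {n : ℕ} (deg : Fin n → ℤ) : ∀ i, Fin (ptRk n i) → ℤ
  | 0 => deg
  | _ + 1 => fun _ => 0

/-- Resolution of a kernel. -/
theorem exists_res_X₁ (hf : Function.Injective f) (hg : Function.Surjective g)
    (hfg : LinearMap.range f = LinearMap.ker g) (hfgr : ∀ d x, x ∈ ℳ₁ d → f x ∈ ℳ₂ d)
    (hggr : ∀ d x, x ∈ ℳ₂ d → g x ∈ ℳ₃ d) {r : ℤ}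
    (F₂ : GrSyz.FreeRes (GrSyz.stdGr k σ) ℳ₂) (F₃ : GrSyz.FreeRes (GrSyz.stdGr k σ) ℳ₃)
    (h₂ : F₂.IsGenLE r) (h₃ : F₃.IsGenLE (r - 1)) :
    ∃ G : GrSyz.FreeRes (GrSyz.stdGr k σ) ℳ₁, G.IsGenLE r := by
  classical
  obtain ⟨φ, hφ, hφ0, hφs⟩ := exists_lifts F₃ F₂.rk F₂.deg F₂.d (fun i => isHomMat_d F₂ i)
    (fun i => d_mul_d F₂ i) (fun b => g (F₂.aug b)) (fun b => hggr _ _ (F₂.aug_mem b))
    (fun b => by rw [← map_linearCombination, aug_comp_d_col, map_zero])
  let L2 := Fintype.linearCombination (MvPolynomial σ k) F₂.aug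
  let L3 := Fintype.linearCombination (MvPolynomial σ k) F₃.aug
  have hL32 : ∀ v, L3 ((φ 0).mulVec v) = g (L2 v) := fun v => by
    rw [map_linearCombination]; exact hφ0 v
  let D0 : Matrix (Fin (F₃.rk 0)) (Fin (F₃.rk 1) ⊕ Fin (F₂.rk 0)) (MvPolynomial σ k) :=
    Matrix.fromCols (F₃.d 0) (φ 0)
  let D1 : Matrix (Fin (F₃.rk 1) ⊕ Fin (F₂.rk 0)) (Fin (F₃.rk 2) ⊕ Fin (F₂.rk 1))
      (MvPolynomial σ k) := Matrix.fromBlocks (F₃.d 1) (φ 1) 0 (-F₂.d 0)
  have hd3 : ∀ a, L3 ((F₃.d 0).mulVec a) = 0 := fun a => F₃.exact_zero.ge ⟨a, rfl⟩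
  have hd2 : ∀ a, L2 ((F₂.d 0).mulVec a) = 0 := fun a => F₂.exact_zero.ge ⟨a, rfl⟩
  have hgL : ∀ d v, v ∈ fr (F₂.deg 0) d → g (L2 v) ∈ ℳ₃ d := fun d v hv =>
    hggr _ _ (linearCombination_mem ℳ₂ F₂.aug_mem d v hv)
  choose v hv hv' using fun b => exists_preimage (fr (F₂.deg 0)) ℳ₃ (g ∘ₗ L2) hgL
    (F₃.aug_mem b) ((hg.comp F₂.aug_surjective) (F₃.aug b))
  choose u hu hu' using fun b => exists_preimage (fr (F₃.deg (0 + 1))) (fr (F₃.deg 0))
    (F₃.d 0).mulVecLin (mulVec_mem (isHomMat_d F₃ 0))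
    (sub_mem (fr_single (F₃.deg 0) b) (mulVec_mem (hφ 0) _ _ (hv b)))
    (F₃.exact_zero.le (show Pi.single b 1 - (φ 0).mulVecLin (v b) ∈ LinearMap.ker L3 by
      rw [LinearMap.mem_ker, map_sub, Matrix.mulVecLin_apply, hL32,
        show g (L2 (v b)) = F₃.aug b from hv' b]
      simp [L3, Fintype.linearCombination_apply_single]))
  let s : Matrix (Fin (F₃.rk 1) ⊕ Fin (F₂.rk 0)) (Fin (F₃.rk 0)) (MvPolynomial σ k) :=
    Matrix.of fun a b => Sum.elim (u b) (v b) a
  have hDs : ∀ w, D0.mulVec (s.mulVec w) = w := by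
    have h : D0 * s = 1 := Matrix.ext fun a b => by
      have h1 : D0.mulVec (Sum.elim (u b) (v b)) = Pi.single b 1 := by
        rw [Matrix.fromCols_mulVec_sumElim, ← Matrix.mulVecLin_apply, ← Matrix.mulVecLin_apply]
        rw [hu' b]
        exact sub_add_cancel _ _
      have h2 := congrFun h1 a
      rw [Pi.single_apply] at h2
      rw [Matrix.one_apply]
      exact h2
    exact fun w => by rw [Matrix.mulVec_mulVec, h, Matrix.one_mulVec]
  have hD1 : ∀ a c, D1.mulVec (Sum.elim a c) =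
      Sum.elim ((F₃.d 1).mulVec a + (φ 1).mulVec c) (-(F₂.d 0).mulVec c) := fun a c => by
    simp [D1, Matrix.fromBlocks_mulVec, Matrix.neg_mulVec]
  have hDD : ∀ x, D0.mulVec (D1.mulVec x) = 0 := by
    intro x
    have e1 : (F₃.d 0).mulVec ((F₃.d (0 + 1)).mulVec (x ∘ Sum.inl)) = 0 :=
      (F₃.exact_succ 0).ge ⟨_, rfl⟩
    rw [← Sum.elim_comp_inl_inr x, hD1, Matrix.fromCols_mulVec_sumElim, Matrix.mulVec_add]
    erw [e1]
    rw [Matrix.mulVec_neg, Matrix.mulVec_mulVec]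
    erw [hφs 0]
    rw [← Matrix.mulVec_mulVec, zero_add, add_neg_cancel]
  let prj : (Fin (F₃.rk 1) ⊕ Fin (F₂.rk 0) → MvPolynomial σ k) →ₗ[MvPolynomial σ k]
      (Fin (F₃.rk 1) ⊕ Fin (F₂.rk 0) → MvPolynomial σ k) :=
    LinearMap.id - s.mulVecLin ∘ₗ D0.mulVecLin
  have prj_apply : ∀ c, prj c = c - s.mulVec (D0.mulVec c) := fun _ => rfl
  have hprj : ∀ c, D0.mulVec (prj c) = 0 := fun c => by
    rw [prj_apply, Matrix.mulVec_sub, hDs, sub_self]
  have hcomp : ∀ c, (F₃.d 0).mulVec (prj c ∘ Sum.inl) + (φ 0).mulVec (prj c ∘ Sum.inr) = 0 :=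
    fun c => by
      have h := hprj c
      rwa [← Sum.elim_comp_inl_inr (prj c), Matrix.fromCols_mulVec_sumElim] at h
  let Ψ : (Fin (F₃.rk 1) ⊕ Fin (F₂.rk 0) → MvPolynomial σ k) →ₗ[MvPolynomial σ k] M₂ :=
    L2 ∘ₗ LinearMap.funLeft (MvPolynomial σ k) (MvPolynomial σ k) Sum.inr ∘ₗ prj
  have Ψ_apply : ∀ c, Ψ c = L2 (prj c ∘ Sum.inr) := fun _ => rfl
  have hΨ : ∀ c, Ψ c ∈ LinearMap.range f := fun c => by
    rw [hfg, LinearMap.mem_ker, Ψ_apply, ← hL32, ← neg_eq_of_add_eq_zero_right (hcomp c), map_neg,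
      hd3, neg_zero]
  let L := (LinearEquiv.ofInjective f hf).symm.toLinearMap ∘ₗ LinearMap.codRestrict _ Ψ hΨ
  have hfL : ∀ c, f (L c) = L2 (prj c ∘ Sum.inr) := fun c =>
    congrArg Subtype.val ((LinearEquiv.ofInjective f hf).apply_symm_apply ⟨Ψ c, hΨ c⟩)
  -- the complexes of the second cone
  let p : ℕ → Type := fun i => Fin (F₂.rk i)
  let q : ℕ → Type := fun i => Fin (F₃.rk i)
  let p' : ℕ → Type := fun i => Fin (ptRk (F₃.rk 0) i)
  let q' : ℕ → Type := fun i => coneIdx p q (i + 1)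
  let φ' : ∀ i, Matrix (q' i) (p' i) (MvPolynomial σ k) := fun i =>
    match i with
    | 0 => s
    | _ + 1 => 0
  let dP' : ∀ i, Matrix (p' i) (p' (i + 1)) (MvPolynomial σ k) := fun _ => 0
  let dQ' : ∀ i, Matrix (q' i) (q' (i + 1)) (MvPolynomial σ k) := fun i =>
    coneD (p := p) (q := q) F₂.d F₃.d φ (i + 1)
  have hQ' : ∀ i, LinearMap.ker (dQ' i).mulVecLin = LinearMap.range (dQ' (i + 1)).mulVecLin :=
    fun i => cone_exact_succ F₂.exact_succ F₃.exact_succ hφs i
  have hP' : ∀ i, LinearMap.ker (dP' i).mulVecLin = LinearMap.range (dP' (i + 1)).mulVecLin :=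
    fun i => by
      have : IsEmpty (p' (i + 1)) := inferInstanceAs (IsEmpty (Fin 0))
      exact Subsingleton.elim _ _
  have hc' : ∀ i, dQ' i * φ' (i + 1) = φ' i * dP' i := fun i => by
    simp [φ', dP']
  have hker : ∀ c, L c = 0 ↔ ∃ x w, D1.mulVec x + s.mulVec w = c := by
    intro c
    constructor
    · intro hc0
      have h : L2 (prj c ∘ Sum.inr) = 0 := by rw [← hfL, hc0, map_zero]
      obtain ⟨w, hw⟩ : prj c ∘ Sum.inr ∈ LinearMap.range (F₂.d 0).mulVecLin := F₂.exact_zero.le h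
      rw [Matrix.mulVecLin_apply] at hw
      have hk : (F₃.d 0).mulVecLin (prj c ∘ Sum.inl + (φ (0 + 1)).mulVec w) = 0 := by
        rw [Matrix.mulVecLin_apply, Matrix.mulVec_add, Matrix.mulVec_mulVec w (F₃.d 0), hφs 0,
          ← Matrix.mulVec_mulVec]
        erw [hw]
        exact hcomp c
      obtain ⟨t, ht⟩ : prj c ∘ Sum.inl + (φ (0 + 1)).mulVec w ∈
          LinearMap.range (F₃.d (0 + 1)).mulVecLin := (F₃.exact_succ 0).le hk
      rw [Matrix.mulVecLin_apply] at ht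
      refine ⟨Sum.elim t (-w), D0.mulVec c, ?_⟩
      have hp : D1.mulVec (Sum.elim t (-w)) = prj c := by
        rw [hD1, Matrix.mulVec_neg, Matrix.mulVec_neg, neg_neg]
        erw [ht, hw]
        rw [add_neg_cancel_right, Sum.elim_comp_inl_inr]
      rw [hp, prj_apply, sub_add_cancel]
    · rintro ⟨x, w, rfl⟩
      refine hf ?_
      rw [hfL, map_zero, prj_apply, Matrix.mulVec_add, hDD, hDs, zero_add, add_sub_cancel_right,
        ← Sum.elim_comp_inl_inr x, hD1, Sum.elim_comp_inr, map_neg]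
      erw [hd2]
      exact neg_zero
  refine exists_freeRes_of_fintype ℳ₁ (coneIdx p' q')
    (coneDeg (p := p') (q := q') (ptDeg (F₃.deg 0)) fun i => coneDeg (p := p) (q := q) F₂.deg F₃.deg (i + 1))
    (coneD (p := p') (q := q') dP' dQ' φ')
    (coneD_mem (fun i a b => zero_mem _) (fun i => coneD_mem F₂.d_mem F₃.d_mem hφ (i + 1))
      (fun i => ?_)) L (fun d c hc => ?_) (fun m => ?_) (fun c => ?_) (fun i => ?_) (fun i b => ?_)
  · intro a b
    cases i with
    | zero =>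
      rcases a with a | a
      · exact mem_fr.1 (hu b) a
      · exact mem_fr.1 (hv b) a
    | succ i => exact b.elim0
  · -- degree preserving
    let e : Fin (F₃.rk 1) ⊕ Fin (F₂.rk 0) → ℤ := Sum.elim (F₃.deg 1) (F₂.deg 0)
    have hc2 : ∀ b, c b ∈ GrSyz.stdGr k σ (d - e b) := fun b => by
      rcases b with b | b
      · exact hc (Sum.inl b)
      · exact hc (Sum.inr b)
    have hD : D0.mulVec c ∈ fr (F₃.deg 0) d := by
      rw [← Sum.elim_comp_inl_inr c, Matrix.fromCols_mulVec_sumElim, ← Matrix.mulVecLin_apply,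
        ← Matrix.mulVecLin_apply]
      exact add_mem (mulVec_mem (isHomMat_d F₃ 0) d _ (mem_fr.2 fun b => hc2 (Sum.inl b)))
        (mulVec_mem (hφ 0) d _ (mem_fr.2 fun b => hc2 (Sum.inr b)))
    have hs : s.mulVec (D0.mulVec c) ∘ Sum.inr ∈ fr (F₂.deg 0) d :=
      mulVec_mem (A := Matrix.of fun a b => v b a) (fun a b => mem_fr.1 (hv b) a) d _ hD
    have hmem : L2 (prj c ∘ Sum.inr) ∈ ℳ₂ d := by
      refine linearCombination_mem ℳ₂ F₂.aug_mem d _ ?_
      exact sub_mem (mem_fr.2 fun b => hc2 (Sum.inr b)) hs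
    obtain ⟨m, hm, hm'⟩ := exists_preimage ℳ₁ ℳ₂ f hfgr hmem ⟨_, hfL c⟩
    exact hf (hm'.trans (hfL c).symm) ▸ hm
  · obtain ⟨a, ha⟩ := F₂.aug_surjective (f m)
    obtain ⟨w, hw⟩ : (φ 0).mulVec a ∈ LinearMap.range (F₃.d 0).mulVecLin := F₃.exact_zero.le (by
      show L3 _ = 0
      rw [hL32, show L2 a = f m from ha, ← LinearMap.mem_ker, ← hfg]
      exact ⟨m, rfl⟩)
    rw [Matrix.mulVecLin_apply] at hw
    refine ⟨Sum.elim (-w) a, hf ((hfL _).trans ?_)⟩
    have hz : D0.mulVec (Sum.elim (-w) a) = 0 := by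
      rw [Matrix.fromCols_mulVec_sumElim, Matrix.mulVec_neg]
      erw [hw]
      exact neg_add_cancel _
    rw [prj_apply, hz, Matrix.mulVec_zero, sub_zero, Sum.elim_comp_inr]
    exact ha
  · exact (hker c).trans (mem_range_coneD_zero (p := p') (q := q') (dP := dP') (dQ := dQ') (φ := φ')).symm
  · cases i with
    | zero =>
      refine cone_exact_zero hQ' hc' fun w hw => ?_
      obtain ⟨x, hx⟩ := hw
      have h1 : D1.mulVec x = s.mulVec w := hx
      have h2 := hDD x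
      have h3 : D0.mulVec (s.mulVec w) = 0 := (congrArg D0.mulVec h1).symm.trans h2
      have h4 : D0.mulVec (s.mulVec w) = w := hDs w
      rw [show w = 0 from h4.symm.trans h3]
      exact zero_mem _
    | succ i => exact cone_exact_succ hP' hQ' hc' i
  · cases i with
    | zero =>
      rcases b with b | b
      · have := h₃ (0 + 1) b
        show F₃.deg (0 + 1) b ≤ r + ((0 : ℕ) : ℤ)
        push_cast at this ⊢
        omega
      · exact h₂ 0 b
    | succ i =>
      rcases b with (b | b) | b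
      · have := h₃ (i + 1 + 1) b
        show F₃.deg (i + 1 + 1) b ≤ r + ((i + 1 : ℕ) : ℤ)
        push_cast at this ⊢
        omega
      · exact h₂ (i + 1) b
      · cases i with
        | zero =>
          have := h₃ 0 b
          show F₃.deg 0 b ≤ r + ((0 + 1 : ℕ) : ℤ)
          push_cast at this ⊢
          omega
        | succ i => exact b.elim0

end

end Groth.GrSyzLib
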