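import Groth.Agent.GrSyz.HasRes
import Groth.Agent.GrSyz.SubQuot
import Groth.Agent.GrSyz.Triangle
import Groth.Agent.GrSyz.Length
import Groth.Agent.GrSyz.Hilbert
import Groth.Agent.S15429
import Mathlib.RingTheory.Length
import Mathlib.RingTheory.FiniteLength

/-!
The regularity of a graded module of finite length is its end.
-/

set_option autoImplicit false
set_option maxHeartbeats 1000000

universe u

namespace Groth.GrSyzLib

open MvPolynomial DirectSum

noncomputable section

variable {k : Type u} [Field k] {m : ℕ}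

theorem exists_res_of_subsingleton {M : Type u} [AddCommGroup M] [Module k M]
    [Module (MvPolynomial (Fin m) k) M] (ℳ : ℤ → Submodule k M) [Decomposition ℳ]
    [SetLike.GradedSMul (GrSyz.stdGr k (Fin m)) ℳ] [Subsingleton M] (s : ℤ) :
    ∃ G : GrSyz.FreeRes (GrSyz.stdGr k (Fin m)) ℳ, G.IsGenLE s :=
  exists_freeRes_of_fintype ℳ (fun _ => Fin 0) (fun _ b => b.elim0) (fun _ => 0)
    (fun _ a => a.elim0) 0 (fun _ v _ => zero_mem _) (fun y => ⟨0, Subsingleton.elim _ _⟩)
    (fun v => ⟨fun _ => ⟨0, Subsingleton.elim _ _⟩, fun _ => Subsingleton.elim _ _⟩)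
    (fun _ => Subsingleton.elim _ _) (fun _ b => b.elim0)

variable {M : Type u} [AddCommGroup M] [Module k M] [Module (MvPolynomial (Fin m) k) M]
  [IsScalarTower k (MvPolynomial (Fin m) k) M]
  (ℳ : ℤ → Submodule k M) [Decomposition ℳ] [SetLike.GradedSMul (GrSyz.stdGr k (Fin m)) ℳ]

theorem smul_eq_zero_iff_of_top {e : ℤ} (hvan : ∀ d, e < d → ℳ d = ⊥) {x : M} (hx : x ∈ ℳ e)
    (hne : x ≠ 0) (p : MvPolynomial (Fin m) k) :
    p • x = 0 ↔ p ∈ (GrSyz.irrel (GrSyz.stdGr k (Fin m))).toIdeal := by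
  have hle : (GrSyz.irrel (GrSyz.stdGr k (Fin m))).toIdeal ≤
      Ideal.comap (RingHom.id _) (LinearMap.ker (LinearMap.toSpanSingleton (MvPolynomial (Fin m) k) M x)) :=
    Ideal.span_le.2 fun q ⟨n, hn, hq⟩ => by
      have := smul_mem' ℳ hq hx
      rw [hvan _ (by omega), Submodule.mem_bot] at this
      exact this
  refine ⟨fun h => ?_, fun h => hle h⟩
  rw [mem_irrel_iff]
  by_contra hc
  have h0 : constantCoeff (p - C (constantCoeff p)) = (0 : k) := by
    rw [RingHom.map_sub, constantCoeff_C, sub_self]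
  have h2 : p - C (constantCoeff p) ∈ (GrSyz.irrel (GrSyz.stdGr k (Fin m))).toIdeal :=
    (mem_irrel_iff (p := p - C (constantCoeff p))).2 h0
  have h1 : (p - C (constantCoeff p)) • x = 0 := hle h2
  rw [sub_smul, h, zero_sub, neg_eq_zero, ← MvPolynomial.algebraMap_eq, algebraMap_smul] at h1
  exact hne ((smul_eq_zero.1 h1).resolve_left hc)

omit ℳ in
/-- A graded module of finite length concentrated in degrees `≤ s` has regularity at most `s`. -/
theorem exists_res_of_finiteLength (s : ℤ) : ∀ (N : ℕ) (M : Type u) [AddCommGroup M] [Module k M]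
    [Module (MvPolynomial (Fin m) k) M] [IsScalarTower k (MvPolynomial (Fin m) k) M]
    (ℳ : ℤ → Submodule k M) [Decomposition ℳ] [SetLike.GradedSMul (GrSyz.stdGr k (Fin m)) ℳ],
    Module.length (MvPolynomial (Fin m) k) M ≤ N → (∀ d, s < d → ℳ d = ⊥) →
    ∃ G : GrSyz.FreeRes (GrSyz.stdGr k (Fin m)) ℳ, G.IsGenLE s := by
  classical
  intro N
  induction N with
  | zero =>
    intro M _ _ _ _ ℳ _ _ hlen _
    have : Subsingleton M := Module.length_eq_zero_iff.1 (le_antisymm hlen zero_le)
    exact exists_res_of_subsingleton ℳ s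
  | succ N ih =>
    intro M _ _ _ _ ℳ _ _ hlen hvan
    by_cases hall : ∀ d, ℳ d = ⊥
    · have : Subsingleton M := subsingleton_of_forall_eq 0 fun y => eq_zero_of_pr ℳ fun g => by
        have := pr_mem ℳ g y
        rwa [hall g, Submodule.mem_bot] at this
      exact exists_res_of_subsingleton ℳ s
    push Not at hall
    obtain ⟨e, he, hemax⟩ := Int.exists_greatest_of_bdd (P := fun d => ℳ d ≠ ⊥)
      ⟨s, fun d hd => not_lt.1 fun h => hd (hvan d h)⟩ hall
    have hes : e ≤ s := not_lt.1 fun h => he (hvan e h)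
    have hvan' : ∀ d, e < d → ℳ d = ⊥ := fun d hd =>
      not_not.1 fun h => absurd (hemax d h) (not_le.2 hd)
    obtain ⟨x, hx, hxne⟩ := (Submodule.ne_bot_iff _).1 he
    let K : Submodule (MvPolynomial (Fin m) k) M := MvPolynomial (Fin m) k ∙ x
    have hK : IsHom ℳ K := fun g y hy => by
      obtain ⟨c, rfl⟩ := Submodule.mem_span_singleton.1 hy
      rw [pr_smul_right ℳ hx]
      exact Submodule.smul_mem _ _ (Submodule.mem_span_singleton_self x)
    letI : Decomposition (subP ℳ K) := (subP_isInternal ℳ K hK).chooseDecomposition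
    letI : Decomposition (quotP ℳ K) := (quotP_isInternal ℳ K hK).chooseDecomposition
    -- the sub
    let L : (Fin 1 → MvPolynomial (Fin m) k) →ₗ[MvPolynomial (Fin m) k] K :=
      LinearMap.codRestrict K
        (LinearMap.toSpanSingleton (MvPolynomial (Fin m) k) M x ∘ₗ LinearMap.proj 0)
        fun w => Submodule.smul_mem _ _ (Submodule.mem_span_singleton_self x)
    obtain ⟨F₁, hF₁⟩ := (hasRes_irrel (k := k) (m := m) e s hes).exists_freeRes (subP ℳ K) L
      (fun g v hv => by
        have := smul_mem' ℳ (mem_fr.1 hv 0) hx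
        rwa [sub_add_cancel] at this)
      (fun y => by
        obtain ⟨c, hc⟩ := Submodule.mem_span_singleton.1 y.2
        exact ⟨fun _ => c, Subtype.ext hc⟩)
      (Submodule.ext fun w => by
        rw [LinearMap.mem_ker]
        refine Iff.trans ⟨fun h => congrArg Subtype.val h, fun h => Subtype.ext h⟩
          ((smul_eq_zero_iff_of_top ℳ hvan' hx hxne (w 0)).trans ⟨fun h => ?_, fun h => ?_⟩)
        · rw [show w = w 0 • (fun _ => 1) from funext fun a => by rw [Subsingleton.elim a 0]; simp]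
          exact Submodule.smul_mem_smul h trivial
        · refine Submodule.smul_induction_on h (fun a ha v _ => ?_) fun a b ha hb => Ideal.add_mem _ ha hb
          exact Ideal.mul_mem_right _ _ ha)
    -- the quotient
    have hfl : IsFiniteLength (MvPolynomial (Fin m) k) M :=
      Module.length_ne_top_iff.1 (ne_top_of_le_ne_top (ENat.coe_ne_top _) hlen)
    obtain ⟨_, _⟩ := isFiniteLength_iff_isNoetherian_isArtinian.1 hfl
    have hlt : Module.length (MvPolynomial (Fin m) k) (M ⧸ K) <
        Module.length (MvPolynomial (Fin m) k) M :=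
      Submodule.length_quotient_lt K fun h => hxne (by
        simpa [K, Submodule.span_singleton_eq_bot] using h)
    obtain ⟨F₃, hF₃⟩ := ih (M ⧸ K) (quotP ℳ K) (by
        have := hlt.trans_le hlen
        rw [Nat.cast_succ] at this
        exact Order.le_of_lt_add_one this)
      (fun d hd => by rw [quotP, hvan d hd, Submodule.map_bot])
    exact exists_res_X₂ (ℳ₁ := subP ℳ K) (ℳ₂ := ℳ) (ℳ₃ := quotP ℳ K) (f := K.subtype) (g := K.mkQ) Subtype.val_injective K.mkQ_surjective
      (by rw [Submodule.range_subtype, Submodule.ker_mkQ]) (fun d y hy => hy)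
      (fun d y hy => Submodule.mem_map_of_mem hy) F₁ F₃ hF₁ hF₃

/-- Artinian graded modules vanish in large degrees. -/
theorem exists_bound_of_isArtinian [IsArtinian (MvPolynomial (Fin m) k) M] :
    ∃ D : ℤ, ∀ d, D < d → ℳ d = ⊥ := by
  classical
  let G : ℕ →o (Submodule (MvPolynomial (Fin m) k) M)ᵒᵈ :=
    { toFun := fun i => OrderDual.toDual
        (Submodule.span (MvPolynomial (Fin m) k) {y : M | ∃ g : ℤ, (i : ℤ) ≤ g ∧ y ∈ ℳ g})
      monotone' := fun i j hij => Submodule.span_mono fun y ⟨g, hg, hy⟩ =>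
        ⟨g, le_trans (by exact_mod_cast hij) hg, hy⟩ }
  obtain ⟨N, hN⟩ := IsArtinian.monotone_stabilizes G
  refine ⟨N, fun d hd => eq_bot_iff.2 fun y hy => ?_⟩
  have hy' : y ∈ Submodule.span (MvPolynomial (Fin m) k) {y : M | ∃ g : ℤ, (N : ℤ) ≤ g ∧ y ∈ ℳ g} :=
    Submodule.subset_span ⟨d, hd.le, hy⟩
  have hstab : Submodule.span (MvPolynomial (Fin m) k) {y : M | ∃ g : ℤ, (N : ℤ) ≤ g ∧ y ∈ ℳ g} =
      Submodule.span (MvPolynomial (Fin m) k)
        {y : M | ∃ g : ℤ, ((d.toNat + 1 : ℕ) : ℤ) ≤ g ∧ y ∈ ℳ g} :=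
    congrArg OrderDual.ofDual (hN (d.toNat + 1) (by omega))
  rw [hstab] at hy'
  have hz : ∀ c : Submodule.span (MvPolynomial (Fin m) k)
      {y : M | ∃ g : ℤ, ((d.toNat + 1 : ℕ) : ℤ) ≤ g ∧ y ∈ ℳ g}, pr ℳ d c.1 = 0 := by
    rintro ⟨c, hc⟩
    induction hc using Submodule.span_induction with
    | mem z hz =>
      obtain ⟨g, hg, hzg⟩ := hz
      exact pr_of_mem_ne ℳ hzg (by omega)
    | zero => exact map_zero _
    | add a b _ _ ha hb => exact (map_add (pr ℳ d) a b).trans (by simp only at ha hb; rw [ha, hb, add_zero])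
    | smul p z hzmem ih =>
      clear ih
      show pr ℳ d (p • z) = 0
      induction hzmem using Submodule.span_induction generalizing p with
      | mem z hz =>
        obtain ⟨g, hg, hzg⟩ := hz
        rw [pr_smul_right ℳ hzg,
          eq_zero_of_neg (show d - g < 0 by omega) (pr_mem (GrSyz.stdGr k (Fin m)) (d - g) p), zero_smul]
      | zero => rw [smul_zero, map_zero]
      | add a b _ _ ha hb => rw [smul_add, map_add, ha, hb, add_zero]
      | smul q z _ ih => rw [smul_smul]; exact ih _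
  have := hz ⟨y, hy'⟩
  rw [pr_of_mem ℳ hy] at this
  exact (Submodule.mem_bot k).2 this

end

end Groth.GrSyzLib

namespace Groth.GrSyzLib

open MvPolynomial DirectSum

theorem iInf_coe_eq (x : WithBot (WithTop ℤ)) :
    (⨅ (r : ℤ) (_ : x ≤ ((r : WithTop ℤ) : WithBot (WithTop ℤ))),
      ((r : WithTop ℤ) : WithBot (WithTop ℤ))) = x := by
  refine le_antisymm ?_ (le_iInf₂ fun _ h => h)
  induction x using WithBot.recBotCoe with
  | bot =>
    simp only [bot_le, iInf_pos]
    refine le_of_eq (iInf_eq_bot.2 fun b hb => ?_)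
    induction b using WithBot.recBotCoe with
    | bot => exact absurd hb (lt_irrefl _)
    | coe b =>
      induction b using WithTop.recTopCoe with
      | top => exact ⟨0, WithBot.coe_lt_coe.2 (WithTop.coe_lt_top _)⟩
      | coe n => exact ⟨n - 1, WithBot.coe_lt_coe.2 (WithTop.coe_lt_coe.2 (by omega))⟩
  | coe x =>
    induction x using WithTop.recTopCoe with
    | top => exact le_top
    | coe n => exact iInf₂_le (f := fun (r : ℤ) _ => ((r : WithTop ℤ) : WithBot (WithTop ℤ))) n le_rfl

variable {k : Type u} [Field k] {r : ℕ} {M : Type u} [AddCommGroup M] [Module k M]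
  [Module (MvPolynomial (Fin (r + 1)) k) M] [IsScalarTower k (MvPolynomial (Fin (r + 1)) k) M]
  [Module.Finite (MvPolynomial (Fin (r + 1)) k) M]
  (ℳ : ℤ → Submodule k M) [Decomposition ℳ] [SetLike.GradedSMul (GrSyz.stdGr k (Fin (r + 1))) ℳ]

theorem isRegLE_iff_of_finiteLength (hM : IsFiniteLength (MvPolynomial (Fin (r + 1)) k) M) (s : ℤ) :
    GrSyz.IsRegLE (GrSyz.stdGr k (Fin (r + 1))) ℳ
      (GrSyz.irrel (GrSyz.stdGr k (Fin (r + 1)))).toIdeal s ↔ ∀ d, s < d → ℳ d = ⊥ := by
  obtain ⟨_, _⟩ := isFiniteLength_iff_isNoetherian_isArtinian.1 hM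
  constructor
  · rintro ⟨F, hF, hs⟩ d hd
    have hlen : F.HasLengthLE (r + 1) :=
      (hasLengthLE_iff F hF (r + 1)).2 (pdLT_polynomial M)
    obtain ⟨P, hP⟩ := Groth.Agent.S15429.result k r M ℳ F (r + 1) hlen
    have hP' : ∀ d, s + 1 ≤ d → ((Module.finrank k ↥(ℳ d) : ℤ) : ℚ) = P.eval (d : ℚ) :=
      fun d hd => hP d fun i b => by
        have hi : i ≤ r + 1 := not_lt.1 fun h => absurd b.2 (by have := hlen i h; omega)
        have := hs i b
        omega
    obtain ⟨D, hD⟩ := exists_bound_of_isArtinian (k := k) (m := r + 1) ℳ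
    have hzero : P = 0 := by
      refine Polynomial.eq_zero_of_infinite_isRoot P (Set.infinite_of_injective_forall_mem
        (f := fun j : ℕ => ((max D s + 1 + j : ℤ) : ℚ)) (fun a b h => ?_) fun j => ?_)
      · simpa using h
      · show P.eval _ = 0
        rw [← hP' _ (by omega), hD _ (by omega), finrank_bot]
        simp
    have h0 := hP' d (by omega)
    rw [hzero, Polynomial.eval_zero] at h0
    have : Module.Finite k ↥(ℳ d) := by
      rw [← map_aug F d]; infer_instance
    exact Submodule.finrank_eq_zero.1 (by exact_mod_cast h0)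
  · intro h
    obtain ⟨N, hN⟩ := ENat.ne_top_iff_exists.1 (Module.length_ne_top_iff.2 hM)
    obtain ⟨G, hG⟩ := exists_res_of_finiteLength s N M ℳ hN.ge h
    exact isRegLE_of_isGenLE G hG

end Groth.GrSyzLib
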