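import Groth.Agent.GrSyz.SubQuot
import Groth.Agent.GrSyz.Triangle
import Groth.Agent.GrSyz.Length
import Groth.Agent.GrSyz.HasRes
import Mathlib.RingTheory.Regular.RegularSequence

/-!
Regularity does not change modulo a regular sequence of linear forms.
-/

set_option autoImplicit false
set_option maxHeartbeats 1000000

universe u

namespace Groth.GrSyzLib

open MvPolynomial DirectSum
open scoped Pointwise

noncomputable section

variable {k : Type u} [Field k] {σ : Type}
variable {M : Type u} [AddCommGroup M] [Module k M] [Module (MvPolynomial σ k) M]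

/-- The pieces of `M(-1)`. -/
def shiftOne (ℳ : ℤ → Submodule k M) (g : ℤ) : Submodule k M := ℳ (g - 1)

theorem shiftOne_isInternal (ℳ : ℤ → Submodule k M) [Decomposition ℳ] :
    DirectSum.IsInternal (shiftOne ℳ) := by
  refine isInternal_of_proj _ (fun g => pr ℳ (g - 1)) (fun g x hx => pr_of_mem ℳ hx)
    (fun g j hne x hx => pr_of_mem_ne ℳ hx (by omega)) (fun g x => pr_mem ℳ _ x) fun x => ?_
  classical
  obtain ⟨s, -, hs⟩ := exists_sum_pr ℳ x
  refine ⟨s.map (addRightEmbedding (1 : ℤ)), ?_⟩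
  rw [Finset.sum_map]
  simpa using hs

instance decompositionShiftOne (ℳ : ℤ → Submodule k M) [Decomposition ℳ] :
    Decomposition (shiftOne ℳ) :=
  (shiftOne_isInternal ℳ).chooseDecomposition

instance shiftOne_gradedSMul (ℳ : ℤ → Submodule k M) [Decomposition ℳ]
    [SetLike.GradedSMul (GrSyz.stdGr k σ) ℳ] :
    SetLike.GradedSMul (GrSyz.stdGr k σ) (shiftOne ℳ) where
  smul_mem := fun {a g p x} hp hx => by
    show p • x ∈ ℳ (a + g - 1)
    rw [show a + g - 1 = a + (g - 1) by ring]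
    exact smul_mem' ℳ hp hx

variable {ℳ : ℤ → Submodule k M} [Decomposition ℳ] [SetLike.GradedSMul (GrSyz.stdGr k σ) ℳ]

theorem exists_res_shift (F : GrSyz.FreeRes (GrSyz.stdGr k σ) ℳ) {r : ℤ} (hF : F.IsGenLE r) :
    ∃ G : GrSyz.FreeRes (GrSyz.stdGr k σ) (shiftOne ℳ), G.IsGenLE (r + 1) :=
  ⟨⟨F.rk, fun i b => F.deg i b + 1, F.d, F.aug, fun i a b => by simpa using F.d_mem i a b,
    fun b => by show F.aug b ∈ ℳ (F.deg 0 b + 1 - 1); simpa using F.aug_mem b,
    F.aug_surjective, F.exact_zero, F.exact_succ⟩,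
    fun i b => by have := hF i b; show F.deg i b + 1 ≤ r + 1 + i; omega⟩

theorem exists_res_unshift (F : GrSyz.FreeRes (GrSyz.stdGr k σ) (shiftOne ℳ)) {r : ℤ}
    (hF : F.IsGenLE r) : ∃ G : GrSyz.FreeRes (GrSyz.stdGr k σ) ℳ, G.IsGenLE (r - 1) :=
  ⟨⟨F.rk, fun i b => F.deg i b - 1, F.d, F.aug, fun i a b => by simpa using F.d_mem i a b,
    F.aug_mem, F.aug_surjective, F.exact_zero, F.exact_succ⟩,
    fun i b => by have := hF i b; show F.deg i b - 1 ≤ r - 1 + i; omega⟩

theorem exists_res_of_iso {N : Type u} [AddCommGroup N] [Module k N] [Module (MvPolynomial σ k) N]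
    {𝒩 : ℤ → Submodule k N} [Decomposition 𝒩] [SetLike.GradedSMul (GrSyz.stdGr k σ) 𝒩]
    (π : M →ₗ[MvPolynomial σ k] N) (hπ : Function.Bijective π)
    (hπg : ∀ g x, x ∈ ℳ g → π x ∈ 𝒩 g) (G : GrSyz.FreeRes (GrSyz.stdGr k σ) 𝒩) {r : ℤ}
    (hG : G.IsGenLE r) : ∃ F : GrSyz.FreeRes (GrSyz.stdGr k σ) ℳ, F.IsGenLE r := by
  let e := LinearEquiv.ofBijective π hπ
  let L := e.symm.toLinearMap ∘ₗ Fintype.linearCombination (MvPolynomial σ k) G.aug
  refine exists_freeRes_of_fintype ℳ (fun i => Fin (G.rk i)) G.deg G.d G.d_mem L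
    (fun g v hv => ?_) (e.symm.surjective.comp G.aug_surjective) (fun v => ?_) G.exact_succ hG
  · obtain ⟨x, hx, hxy⟩ := exists_preimage ℳ 𝒩 π hπg
      (linearCombination_mem 𝒩 G.aug_mem g v (mem_fr.2 hv)) (hπ.2 _)
    rw [show L v = x from e.injective ((e.apply_symm_apply _).trans hxy.symm)]
    exact hx
  · rw [show L v = e.symm (Fintype.linearCombination (MvPolynomial σ k) G.aug v) from rfl,
      LinearEquiv.map_eq_zero_iff, ← LinearMap.mem_ker, G.exact_zero]

variable [IsScalarTower k (MvPolynomial σ k) M] {N : Type u} [AddCommGroup N] [Module k N]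
  [Module (MvPolynomial σ k) N] {𝒩 : ℤ → Submodule k N} [Decomposition 𝒩]
  [SetLike.GradedSMul (GrSyz.stdGr k σ) 𝒩]

omit [IsScalarTower k (MvPolynomial σ k) M] in
/-- Cutting by a regular sequence does not increase the regularity. -/
theorem exists_res_quotient (ys : List (MvPolynomial σ k))
    (hys : ∀ y ∈ ys, y ∈ GrSyz.stdGr k σ 1) (hreg : RingTheory.Sequence.IsWeaklyRegular M ys)
    (π : M →ₗ[MvPolynomial σ k] N) (hπ : Function.Surjective π)
    (hπg : ∀ g x, x ∈ ℳ g → π x ∈ 𝒩 g)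
    (hker : LinearMap.ker π = Ideal.ofList ys • (⊤ : Submodule (MvPolynomial σ k) M))
    (F : GrSyz.FreeRes (GrSyz.stdGr k σ) ℳ) {r : ℤ} (hF : F.IsGenLE r) :
    ∃ G : GrSyz.FreeRes (GrSyz.stdGr k σ) 𝒩, G.IsGenLE r := by
  let L := Fintype.linearCombination (MvPolynomial σ k) F.aug
  have htop : Submodule.map L ⊤ = ⊤ := by
    rw [Submodule.map_top, LinearMap.range_eq_top.2 F.aug_surjective]
  have hcomap : ∀ I : Ideal (MvPolynomial σ k), Submodule.comap L (I • ⊤) =
      LinearMap.range (F.d 0).mulVecLin ⊔ I • ⊤ := fun I => by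
    have h1 : I • (⊤ : Submodule (MvPolynomial σ k) M) = Submodule.map L (I • ⊤) := by
      rw [Submodule.map_smul'', htop]
    rw [h1, Submodule.comap_map_eq, F.exact_zero, sup_comm]
  refine ((hasRes_of_freeRes F hF).list ys hys fun j hj w hw => ?_).exists_freeRes 𝒩 (π ∘ₗ L)
    (fun g v hv => hπg _ _ (linearCombination_mem ℳ F.aug_mem g v hv)) (hπ.comp F.aug_surjective) ?_
  · rw [← hcomap, Submodule.mem_comap] at hw ⊢
    rw [map_smul] at hw
    exact (isSMulRegular_quotient_iff_mem_of_smul_mem _ _).1 (hreg.regular_mod_prev j hj) _ hw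
  · rw [LinearMap.ker_comp, hker, hcomap]

variable [Finite σ]

/-- One step of lifting the regularity bound. -/
theorem exists_res_lift_step [Module.Finite (MvPolynomial σ k) M] {y : MvPolynomial σ k}
    (hy : y ∈ GrSyz.stdGr k σ 1) (hreg : IsSMulRegular M y) [Decomposition (quotP ℳ (y • (⊤ : Submodule (MvPolynomial σ k) M)))]
    (F : GrSyz.FreeRes (GrSyz.stdGr k σ) ℳ) {r : ℤ} (hF : F.IsGenLE r)
    (G : GrSyz.FreeRes (GrSyz.stdGr k σ) (quotP ℳ (y • (⊤ : Submodule (MvPolynomial σ k) M))))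
    {s : ℤ} (hG : G.IsGenLE s) : ∃ F' : GrSyz.FreeRes (GrSyz.stdGr k σ) ℳ, F'.IsGenLE s := by
  suffices H : ∀ (j : ℕ) (r : ℤ) (F : GrSyz.FreeRes (GrSyz.stdGr k σ) ℳ), F.IsGenLE r →
      r - s ≤ j → ∃ F' : GrSyz.FreeRes (GrSyz.stdGr k σ) ℳ, F'.IsGenLE s from
    H (r - s).toNat r F hF (Int.self_le_toNat _)
  intro j
  induction j with
  | zero =>
    intro r F hF hrs
    exact ⟨F, fun i b => by have := hF i b; omega⟩
  | succ j ih =>
    intro r F hF hrs
    rcases le_or_gt r s with h | h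
    · exact ⟨F, fun i b => by have := hF i b; omega⟩
    obtain ⟨F₁, hF₁⟩ := exists_res_X₁ (ℳ₁ := shiftOne ℳ) (ℳ₂ := ℳ)
      (ℳ₃ := quotP ℳ (y • (⊤ : Submodule (MvPolynomial σ k) M)))
      (f := LinearMap.lsmul (MvPolynomial σ k) M y) (g := Submodule.mkQ _)
      hreg (Submodule.mkQ_surjective _)
      (by
        rw [Submodule.ker_mkQ]
        exact (Submodule.map_top _).symm)
      (fun d x hx => by
        have := smul_mem' ℳ hy hx
        rwa [show 1 + (d - 1) = d by ring] at this)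
      (fun d x hx => Submodule.mem_map_of_mem hx) F G hF (fun i b => by have := hG i b; omega)
    obtain ⟨F', hF'⟩ := exists_res_unshift F₁ hF₁
    exact ih (r - 1) F' hF' (by omega)

theorem exists_bound (F : GrSyz.FreeRes (GrSyz.stdGr k σ) ℳ) {l : ℕ} (hl : F.HasLengthLE l) :
    ∃ r : ℤ, F.IsGenLE r := by
  obtain ⟨D, hD⟩ := Finite.exists_le fun b : Σ i : Fin (l + 1), Fin (F.rk i) => F.deg b.1 b.2
  refine ⟨D, fun i b => ?_⟩
  have hi : i < l + 1 := by
    by_contra h
    exact absurd b.2 (by have := hl i (by omega); omega)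
  have := hD ⟨⟨i, hi⟩, b⟩
  simp only at this
  omega

end

section lift

variable {k : Type u} [Field k] {m : ℕ}

/-- Lifting the regularity bound along a regular sequence of linear forms. -/
theorem exists_res_lift : ∀ (ys : List (MvPolynomial (Fin m) k)),
    (∀ y ∈ ys, y ∈ GrSyz.stdGr k (Fin m) 1) → ∀ (M : Type u) [AddCommGroup M] [Module k M]
    [Module (MvPolynomial (Fin m) k) M] [IsScalarTower k (MvPolynomial (Fin m) k) M]
    [Module.Finite (MvPolynomial (Fin m) k) M] (ℳ : ℤ → Submodule k M) [Decomposition ℳ]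
    [SetLike.GradedSMul (GrSyz.stdGr k (Fin m)) ℳ],
    RingTheory.Sequence.IsWeaklyRegular M ys → ∀ (N : Type u) [AddCommGroup N] [Module k N]
    [Module (MvPolynomial (Fin m) k) N] (𝒩 : ℤ → Submodule k N) [Decomposition 𝒩]
    [SetLike.GradedSMul (GrSyz.stdGr k (Fin m)) 𝒩] (π : M →ₗ[MvPolynomial (Fin m) k] N),
    Function.Surjective π → (∀ g x, x ∈ ℳ g → π x ∈ 𝒩 g) →
    LinearMap.ker π = Ideal.ofList ys • (⊤ : Submodule (MvPolynomial (Fin m) k) M) →
    ∀ (s : ℤ) (G : GrSyz.FreeRes (GrSyz.stdGr k (Fin m)) 𝒩), G.IsGenLE s →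
    ∃ F : GrSyz.FreeRes (GrSyz.stdGr k (Fin m)) ℳ, F.IsGenLE s := by
  intro ys
  induction ys with
  | nil =>
    intro _ M _ _ _ _ _ ℳ _ _ _ N _ _ _ 𝒩 _ _ π hπ hπg hker s G hG
    rw [Ideal.ofList_nil, Submodule.bot_smul, LinearMap.ker_eq_bot] at hker
    exact exists_res_of_iso π ⟨hker, hπ⟩ hπg G hG
  | cons y ys ih =>
    intro hys M _ _ _ _ _ ℳ _ _ hreg N _ _ _ 𝒩 _ _ π hπ hπg hker s G hG
    have hy : y ∈ GrSyz.stdGr k (Fin m) 1 := hys y (List.mem_cons_self ..)
    obtain ⟨hy', hreg'⟩ := (RingTheory.Sequence.isWeaklyRegular_cons_iff M y ys).1 hreg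
    let K : Submodule (MvPolynomial (Fin m) k) M := y • ⊤
    have hK : IsHom ℳ K := fun g x hx => by
      obtain ⟨z, -, rfl⟩ := (Submodule.mem_smul_pointwise_iff_exists _ _ _).1 hx
      rw [pr_smul_left ℳ hy]
      exact Submodule.smul_mem_pointwise_smul _ _ _ trivial
    letI : Decomposition (quotP ℳ K) := (quotP_isInternal ℳ K hK).chooseDecomposition
    have hKle : K ≤ LinearMap.ker π := fun x hx => by
      obtain ⟨z, -, rfl⟩ := (Submodule.mem_smul_pointwise_iff_exists _ _ _).1 hx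
      rw [hker]
      exact Submodule.smul_mem_smul (Ideal.subset_span List.mem_cons_self) trivial
    have hker' : LinearMap.ker (K.liftQ π hKle) =
        Ideal.ofList ys • (⊤ : Submodule (MvPolynomial (Fin m) k) (M ⧸ K)) := by
      rw [Submodule.ker_liftQ, hker, Ideal.ofList_cons, Submodule.sup_smul, Submodule.map_sup,
        Submodule.map_smul'', Submodule.map_smul'', Submodule.map_top, Submodule.range_mkQ]
      refine sup_eq_right.2 ?_
      rw [Submodule.ideal_span_singleton_smul]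
      intro x hx
      obtain ⟨z, -, rfl⟩ := (Submodule.mem_smul_pointwise_iff_exists _ _ _).1 hx
      obtain ⟨z, rfl⟩ := Submodule.Quotient.mk_surjective K z
      rw [← Submodule.Quotient.mk_smul,
        (Submodule.Quotient.mk_eq_zero K).2 (Submodule.smul_mem_pointwise_smul z y ⊤ trivial)]
      exact zero_mem _
    obtain ⟨G', hG'⟩ := ih (fun z hz => hys z (List.mem_cons_of_mem _ hz)) (M ⧸ K) (quotP ℳ K)
      hreg' N 𝒩 (K.liftQ π hKle) (fun z => (hπ z).elim fun x hx => ⟨Submodule.Quotient.mk x, hx⟩)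
      (fun g x hx => by obtain ⟨z, hz, rfl⟩ := hx; exact hπg g z hz) hker' s G hG
    obtain ⟨F, hF⟩ := exists_minimal (k := k) (σ := Fin m) M ℳ
    obtain ⟨r, hr⟩ := exists_bound F ((hasLengthLE_iff F hF m).2 (pdLT_polynomial M))
    exact exists_res_lift_step hy hy' F hr G' hG'

end lift

end Groth.GrSyzLib
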