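import Groth.Agent.GrSyz.LocalReg
import Groth.Agent.GrSyz.RegularCut
import Mathlib.RingTheory.Artinian.Module

/-!
The torsion submodule of a finitely generated graded module over the polynomial ring, and the
regularity modulo a quasi-regular linear form.
-/

set_option autoImplicit false
set_option maxHeartbeats 1000000

universe u

namespace Groth.GrSyzLib

open DirectSum GrLC MvPolynomial
open scoped Pointwise

noncomputable section

variable {k : Type u} [Field k] {n : ℕ}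

local notation "S" => MvPolynomial (Fin n) k
local notation "𝔪" => GrSyz.irrel (GrSyz.stdGr k (Fin n))

theorem monomial_mem_stdGr (m : Fin n →₀ ℕ) :
    monomial m (1 : k) ∈ GrSyz.stdGr k (Fin n) (m.degree : ℤ) := by
  classical
  refine mem_stdGr_iff'.2 fun m' hm' => ?_
  rw [coeff_monomial] at hm'
  split_ifs at hm' with e
  · rw [e]
  · exact absurd rfl hm'

theorem monomial_mem_pow {m : Fin n →₀ ℕ} {N : ℕ} (h : N ≤ m.degree) :
    monomial m (1 : k) ∈ (𝔪).toIdeal ^ N := by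
  rwa [irrel_eq_idealOfVars, monomial_mem_pow_idealOfVars_iff N m one_ne_zero]

theorem pow_kills {V : Type u} [AddCommGroup V] [Module (MvPolynomial (Fin n) k) V] {y : V} {N : ℕ}
    (h : ∀ m : Fin n →₀ ℕ, N ≤ m.degree → monomial m (1 : k) • y = 0) :
    ∀ r ∈ (𝔪).toIdeal ^ N, r • y = 0 := by
  intro r hr
  rw [irrel_eq_idealOfVars, mem_pow_idealOfVars_iff] at hr
  rw [r.as_sum, Finset.sum_smul]
  refine Finset.sum_eq_zero fun m hm => ?_
  rw [← mul_one (coeff m r), ← C_mul_monomial, mul_smul, h m (hr m hm), smul_zero]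

variable {M : Type u} [AddCommGroup M] [Module k M] [Module (MvPolynomial (Fin n) k) M]
  (ℳ : ℤ → Submodule k M) [Decomposition ℳ] [SetLike.GradedSMul (GrSyz.stdGr k (Fin n)) ℳ]

theorem isHom_gam : IsHom ℳ (gam (𝔪).toIdeal M) := by
  rintro g y ⟨N, hN⟩
  refine ⟨N, pow_kills fun m hm => ?_⟩
  have := pr_smul_left ℳ (monomial_mem_stdGr (k := k) m) ((m.degree : ℤ) + g) y
  rw [add_sub_cancel_left, hN _ (monomial_mem_pow hm), map_zero] at this
  exact this.symm

omit [Module k M] in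
theorem exists_pow_gam [IsNoetherian (MvPolynomial (Fin n) k) M] :
    ∃ N : ℕ, ∀ y ∈ gam (𝔪).toIdeal M, ∀ r ∈ (𝔪).toIdeal ^ N, r • y = 0 := by
  classical
  obtain ⟨G, hG⟩ := (IsNoetherian.noetherian (gam (𝔪).toIdeal M))
  have hmem : ∀ y ∈ G, y ∈ gam (𝔪).toIdeal M := fun y hy => hG ▸ Submodule.subset_span hy
  choose! N hN using hmem
  refine ⟨G.sup N, fun y hy r hr => ?_⟩
  rw [← hG] at hy
  suffices Submodule.span S (G : Set M) ≤ LinearMap.ker (r • LinearMap.id : M →ₗ[S] M) from this hy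
  exact Submodule.span_le.2 fun z hz =>
    hN z hz r (Ideal.pow_le_pow_right (Finset.le_sup hz) hr)

theorem finite_gam [IsScalarTower k (MvPolynomial (Fin n) k) M]
    [IsNoetherian (MvPolynomial (Fin n) k) M] : Module.Finite k (gam (𝔪).toIdeal M) := by
  classical
  obtain ⟨N, hN⟩ := exists_pow_gam (k := k) (n := n) (M := M)
  obtain ⟨G, hG⟩ := (Module.finite_def.1 (inferInstance : Module.Finite S (gam (𝔪).toIdeal M)))
  let I := (Finsupp.finite_of_degree_lt (σ := Fin n) N).toFinset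
  let T : Finset (gam (𝔪).toIdeal M) :=
    (I ×ˢ G).image fun p => monomial p.1 (1 : k) • p.2
  refine ⟨⟨T, eq_top_iff.2 fun y _ => ?_⟩⟩
  have hy : y ∈ Submodule.span S (G : Set (gam (𝔪).toIdeal M)) := hG ▸ Submodule.mem_top
  have hmon : ∀ z ∈ G, ∀ c : S, c • z ∈ Submodule.span k (T : Set (gam (𝔪).toIdeal M)) := by
    intro z hz c
    rw [c.as_sum, Finset.sum_smul]
    refine sum_mem fun m _ => ?_
    rw [← mul_one (coeff m c), ← C_mul_monomial, mul_smul, ← MvPolynomial.algebraMap_eq,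
      algebraMap_smul]
    refine Submodule.smul_mem _ _ ?_
    rcases lt_or_ge m.degree N with h | h
    · exact Submodule.subset_span (Finset.mem_image.2
        ⟨(m, z), Finset.mem_product.2 ⟨Set.Finite.mem_toFinset _ |>.2 h, hz⟩, rfl⟩)
    · rw [show monomial m (1 : k) • z = 0 from Subtype.ext (hN z.1 z.2 _ (monomial_mem_pow h))]
      exact zero_mem _
  obtain ⟨c, -, hc⟩ := Submodule.mem_span_finset.1 hy
  rw [← hc]
  exact sum_mem fun z hz => hmon z hz (c z)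

theorem van_zero_zero_iff (E : StarInjRes (GrSyz.stdGr k (Fin n)) ℳ) (g : ℤ) :
    Van E 0 0 g ↔ ∀ y ∈ ℳ g, y ∈ gam (𝔪).toIdeal M → y = 0 := by
  constructor
  · rintro h y hy ⟨N, hN⟩
    refine E.ε_injective ?_
    rw [map_zero]
    refine h (E.ε y) ⟨E.ε_grHom g y hy, ⟨N, fun r hr => by rw [← map_smul, hN r hr, map_zero]⟩,
      fun i hi => absurd hi i.not_lt_zero⟩ ?_
    rw [← LinearMap.mem_ker, E.exact_zero]
    exact ⟨y, rfl⟩
  · rintro h z ⟨hz, ⟨N, hN⟩, -⟩ hdz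
    obtain ⟨y, rfl⟩ : z ∈ LinearMap.range E.ε := by rw [← E.exact_zero]; exact hdz
    have hpr : ∀ m, E.ε (pr ℳ g m) = GrothGr.pr (E.X 0).gr g (E.ε m) := by
      intro m
      induction m using Decomposition.inductionOn ℳ with
      | zero => simp
      | @homogeneous a m =>
        by_cases h : a = g
        · subst h
          rw [pr_of_mem ℳ m.2, GrothGr.pr_of_mem _ (E.ε_grHom a _ m.2)]
        · rw [pr_of_mem_ne ℳ m.2 h, GrothGr.pr_of_mem_ne _ (E.ε_grHom a _ m.2) h, map_zero]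
      | add a b ha hb => simp [ha, hb]
    have hy : pr ℳ g y = y := E.ε_injective (by rw [hpr, GrothGr.pr_of_mem _ hz])
    show E.ε y = 0
    rw [h y (hy ▸ pr_mem ℳ g y) ⟨N, fun r hr => E.ε_injective
      (by rw [map_smul, hN r hr, map_zero])⟩, map_zero]

include ℳ in
theorem torsionBy_le_gam [IsScalarTower k (MvPolynomial (Fin n) k) M] {x : MvPolynomial (Fin n) k}
    (hx : x ∈ GrSyz.stdGr k (Fin n) 1)
    (hq : IsFiniteLength (MvPolynomial (Fin n) k) ↥(Submodule.torsionBy (MvPolynomial (Fin n) k) M x)) :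
    Submodule.torsionBy S M x ≤ gam (𝔪).toIdeal M := by
  have hT : IsHom ℳ (Submodule.torsionBy S M x) := fun g y hy => by
    rw [Submodule.mem_torsionBy_iff] at hy ⊢
    have := pr_smul_left ℳ hx (g + 1) y
    rw [add_sub_cancel_right, hy, map_zero] at this
    exact this.symm
  letI : Decomposition (subP ℳ (Submodule.torsionBy S M x)) :=
    (subP_isInternal ℳ _ hT).chooseDecomposition
  obtain ⟨_, _⟩ := isFiniteLength_iff_isNoetherian_isArtinian.1 hq
  obtain ⟨D, hD⟩ := exists_bound_of_isArtinian (m := n) (subP ℳ (Submodule.torsionBy S M x))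
  intro y hy
  obtain ⟨s, -, hs⟩ := exists_sum_pr ℳ y
  rw [← hs]
  refine sum_mem fun g _ => ⟨(D + 1 - g).toNat, pow_kills fun m hm => ?_⟩
  have hmem : monomial m (1 : k) • pr ℳ g y ∈ Submodule.torsionBy S M x :=
    Submodule.smul_mem _ _ (hT g y hy)
  have h0 : (⟨_, hmem⟩ : Submodule.torsionBy S M x) ∈
      subP ℳ (Submodule.torsionBy S M x) ((m.degree : ℤ) + g) :=
    smul_mem' ℳ (monomial_mem_stdGr m) (pr_mem ℳ g y)
  rw [hD _ (by omega), Submodule.mem_bot] at h0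
  exact congrArg Subtype.val h0

include ℳ in
theorem mem_gam_of_smul_mem [IsScalarTower k (MvPolynomial (Fin n) k) M]
    [IsNoetherian (MvPolynomial (Fin n) k) M] {x : MvPolynomial (Fin n) k}
    (hx : x ∈ GrSyz.stdGr k (Fin n) 1)
    (hq : IsFiniteLength (MvPolynomial (Fin n) k) ↥(Submodule.torsionBy (MvPolynomial (Fin n) k) M x))
    {y : M} (hy : x • y ∈ gam (𝔪).toIdeal M) : y ∈ gam (𝔪).toIdeal M := by
  obtain ⟨a, ha⟩ := hy
  obtain ⟨N, hN⟩ := exists_pow_gam (k := k) (n := n) (M := M)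
  refine ⟨N + a, fun r hr => ?_⟩
  rw [pow_add] at hr
  refine Submodule.mul_induction_on hr (fun b hb c hc => ?_) fun b c hb hc => by
    rw [add_smul, hb, hc, add_zero]
  rw [mul_smul]
  refine hN _ (torsionBy_le_gam ℳ hx hq ?_) b hb
  rw [Submodule.mem_torsionBy_iff, smul_comm, ha c hc]

/-- Regularity modulo a quasi-regular linear form. -/
theorem isRegLE_iff_quotient {r : ℕ} {M : Type u} [AddCommGroup M] [Module k M]
    [Module (MvPolynomial (Fin (r + 1)) k) M] [IsScalarTower k (MvPolynomial (Fin (r + 1)) k) M]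
    [Module.Finite (MvPolynomial (Fin (r + 1)) k) M] (ℳ : ℤ → Submodule k M) [Decomposition ℳ]
    [SetLike.GradedSMul (GrSyz.stdGr k (Fin (r + 1))) ℳ]
    {x : MvPolynomial (Fin (r + 1)) k} (hx : x ∈ GrSyz.stdGr k (Fin (r + 1)) 1)
    (hq : IsFiniteLength (MvPolynomial (Fin (r + 1)) k)
      ↥(Submodule.torsionBy (MvPolynomial (Fin (r + 1)) k) M x))
    {N : Type u} [AddCommGroup N] [Module k N] [Module (MvPolynomial (Fin (r + 1)) k) N]
    [IsScalarTower k (MvPolynomial (Fin (r + 1)) k) N]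
    [Module.Finite (MvPolynomial (Fin (r + 1)) k) N]
    (𝒩 : ℤ → Submodule k N) [Decomposition 𝒩] [SetLike.GradedSMul (GrSyz.stdGr k (Fin (r + 1))) 𝒩]
    (π : M →ₗ[MvPolynomial (Fin (r + 1)) k] N) (hπ : Function.Surjective π)
    (hπg : ∀ g m, m ∈ ℳ g → π m ∈ 𝒩 g)
    (hker : LinearMap.ker π = LinearMap.range (x • LinearMap.id :
      M →ₗ[MvPolynomial (Fin (r + 1)) k] M))
    (E : StarInjRes (GrSyz.stdGr k (Fin (r + 1))) ℳ) (s : ℤ) :
    GrSyz.IsRegLE (GrSyz.stdGr k (Fin (r + 1))) ℳ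
        (GrSyz.irrel (GrSyz.stdGr k (Fin (r + 1)))).toIdeal s ↔
      (∀ g, s < g → Van E 0 0 g) ∧ GrSyz.IsRegLE (GrSyz.stdGr k (Fin (r + 1))) 𝒩
        (GrSyz.irrel (GrSyz.stdGr k (Fin (r + 1)))).toIdeal s := by
  classical
  -- the torsion
  let Γ : Submodule (MvPolynomial (Fin (r + 1)) k) M :=
    gam (GrSyz.irrel (GrSyz.stdGr k (Fin (r + 1)))).toIdeal M
  have hΓ : IsHom ℳ Γ := isHom_gam ℳ
  letI : Decomposition (subP ℳ Γ) := (subP_isInternal ℳ Γ hΓ).chooseDecomposition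
  letI : Decomposition (quotP ℳ Γ) := (quotP_isInternal ℳ Γ hΓ).chooseDecomposition
  -- its image
  let K : Submodule (MvPolynomial (Fin (r + 1)) k) N := Γ.map π
  have hprπ : ∀ g m, π (pr ℳ g m) = pr 𝒩 g (π m) := fun g m =>
    map_pr ℳ 𝒩 π.toAddMonoidHom hπg g m
  have hK : IsHom 𝒩 K := by
    rintro g _ ⟨m, hm, rfl⟩
    exact ⟨pr ℳ g m, hΓ g m hm, hprπ g m⟩
  letI : Decomposition (subP 𝒩 K) := (subP_isInternal 𝒩 K hK).chooseDecomposition
  letI : Decomposition (quotP 𝒩 K) := (quotP_isInternal 𝒩 K hK).chooseDecomposition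
  haveI : Module.Finite k Γ := finite_gam
  have hΓfl : IsFiniteLength (MvPolynomial (Fin (r + 1)) k) Γ :=
    isFiniteLength_iff_isNoetherian_isArtinian.2
      ⟨isNoetherian_of_tower k inferInstance, isArtinian_of_tower k inferInstance⟩
  haveI : Module.Finite k K := Module.Finite.of_surjective
    ((π.submoduleMap Γ).restrictScalars k) (π.submoduleMap_surjective Γ)
  have hKfl : IsFiniteLength (MvPolynomial (Fin (r + 1)) k) K :=
    isFiniteLength_iff_isNoetherian_isArtinian.2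
      ⟨isNoetherian_of_tower k inferInstance, isArtinian_of_tower k inferInstance⟩
  -- the regular part
  let π' : (M ⧸ Γ) →ₗ[MvPolynomial (Fin (r + 1)) k] (N ⧸ K) :=
    Γ.mapQ K π (Submodule.le_comap_map π Γ)
  have hπ' : Function.Surjective π' := fun z => by
    obtain ⟨y, rfl⟩ := Submodule.Quotient.mk_surjective K z
    obtain ⟨m, rfl⟩ := hπ y
    exact ⟨Submodule.Quotient.mk m, rfl⟩
  have hπ'g : ∀ g z, z ∈ quotP ℳ Γ g → π' z ∈ quotP 𝒩 K g := by
    rintro g _ ⟨m, hm, rfl⟩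
    exact ⟨π m, hπg g m hm, rfl⟩
  have hxM : ∀ m : M, π (x • m) = 0 := fun m => LinearMap.mem_ker.1 (hker.ge ⟨m, rfl⟩)
  have hker' : LinearMap.ker π' =
      Ideal.ofList [x] • (⊤ : Submodule (MvPolynomial (Fin (r + 1)) k) (M ⧸ Γ)) := by
    rw [Ideal.ofList_singleton, Submodule.ideal_span_singleton_smul]
    refine le_antisymm (fun z hz => ?_) fun z hz => ?_
    · obtain ⟨m, rfl⟩ := Submodule.Quotient.mk_surjective Γ z
      obtain ⟨γ, hγ, hγm⟩ := (Submodule.Quotient.mk_eq_zero K).1 (LinearMap.mem_ker.1 hz)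
      obtain ⟨v, hv⟩ := hker.le (show m - γ ∈ LinearMap.ker π by
        rw [LinearMap.mem_ker, map_sub, hγm, sub_self])
      refine (Submodule.mem_smul_pointwise_iff_exists _ _ _).2
        ⟨Submodule.Quotient.mk v, trivial, ?_⟩
      rw [← Submodule.Quotient.mk_smul, Submodule.Quotient.eq]
      have hv' : x • v = m - γ := hv
      rw [hv', sub_sub_cancel_left]
      exact Γ.neg_mem hγ
    · obtain ⟨w, -, rfl⟩ := (Submodule.mem_smul_pointwise_iff_exists _ _ _).1 hz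
      obtain ⟨m, rfl⟩ := Submodule.Quotient.mk_surjective Γ w
      rw [LinearMap.mem_ker, ← Submodule.Quotient.mk_smul]
      show Submodule.Quotient.mk (π (x • m)) = (0 : N ⧸ K)
      rw [hxM, Submodule.Quotient.mk_zero]
  have hreg : RingTheory.Sequence.IsWeaklyRegular (M ⧸ Γ) [x] := by
    rw [RingTheory.Sequence.isWeaklyRegular_cons_iff]
    refine ⟨?_, RingTheory.Sequence.IsWeaklyRegular.nil _ _⟩
    exact (isSMulRegular_quotient_iff_mem_of_smul_mem Γ x).2 fun m hm =>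
      mem_gam_of_smul_mem ℳ hx hq hm
  have hys : ∀ y ∈ [x], y ∈ GrSyz.stdGr k (Fin (r + 1)) 1 := fun y hy => by
    rwa [List.mem_singleton.1 hy]
  have hΓ' : (∀ g, s < g → Van E 0 0 g) ↔ ∀ g, s < g → subP ℳ Γ g = ⊥ := by
    refine forall₂_congr fun g _ => ?_
    rw [van_zero_zero_iff, Submodule.eq_bot_iff]
    exact ⟨fun h z hz => Subtype.ext (h z.1 hz z.2),
      fun h y hy hy' => congrArg Subtype.val (h ⟨y, hy'⟩ hy)⟩
  have hK' : (∀ g, s < g → subP ℳ Γ g = ⊥) → ∀ g, s < g → subP 𝒩 K g = ⊥ := by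
    intro h g hg
    rw [Submodule.eq_bot_iff]
    rintro ⟨_, m, hm, rfl⟩ hz
    refine Subtype.ext ?_
    show π m = 0
    have h1 := h g hg
    rw [Submodule.eq_bot_iff] at h1
    have h2 : pr ℳ g m = 0 := congrArg Subtype.val (h1 ⟨pr ℳ g m, hΓ g m hm⟩ (pr_mem ℳ g m))
    rw [← pr_of_mem 𝒩 (show π m ∈ 𝒩 g from hz), ← hprπ, h2, map_zero]
  constructor
  · intro h
    have hvan : ∀ g, s < g → Van E 0 0 g := by
      obtain ⟨F, hF, hs⟩ := h
      exact fun g hg => (isGenLE_iff_allVan (E := E) F hF s).1 hs 0 g (by simpa using hg)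
    refine ⟨hvan, ?_⟩
    obtain ⟨F, -, hs⟩ := h
    obtain ⟨FΓ, -, hΓs⟩ := (isRegLE_iff_of_finiteLength (subP ℳ Γ) hΓfl s).2 (hΓ'.1 hvan)
    obtain ⟨FK, -, hKs⟩ := (isRegLE_iff_of_finiteLength (subP 𝒩 K) hKfl s).2 (hK' (hΓ'.1 hvan))
    obtain ⟨F', hF'⟩ := exists_res_X₃ (ℳ₁ := subP ℳ Γ) (ℳ₂ := ℳ) (ℳ₃ := quotP ℳ Γ)
      (f := Γ.subtype) (g := Γ.mkQ) Subtype.val_injective Γ.mkQ_surjective
      (by rw [Submodule.range_subtype, Submodule.ker_mkQ]) (fun _ _ h => h)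
      (fun _ _ h => Submodule.mem_map_of_mem h) FΓ F
      (fun i b => by have := hΓs i b; omega) hs
    obtain ⟨G', hG'⟩ := exists_res_quotient [x] hys hreg π' hπ' hπ'g hker' F' hF'
    obtain ⟨G, hG⟩ := exists_res_X₂ (ℳ₁ := subP 𝒩 K) (ℳ₂ := 𝒩) (ℳ₃ := quotP 𝒩 K)
      (f := K.subtype) (g := K.mkQ) Subtype.val_injective K.mkQ_surjective
      (by rw [Submodule.range_subtype, Submodule.ker_mkQ]) (fun _ _ h => h)
      (fun _ _ h => Submodule.mem_map_of_mem h) FK G' hKs hG'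
    exact isRegLE_of_isGenLE G hG
  · rintro ⟨hvan, G, -, hG⟩
    obtain ⟨FΓ, -, hΓs⟩ := (isRegLE_iff_of_finiteLength (subP ℳ Γ) hΓfl s).2 (hΓ'.1 hvan)
    obtain ⟨FK, -, hKs⟩ := (isRegLE_iff_of_finiteLength (subP 𝒩 K) hKfl s).2 (hK' (hΓ'.1 hvan))
    obtain ⟨G', hG'⟩ := exists_res_X₃ (ℳ₁ := subP 𝒩 K) (ℳ₂ := 𝒩) (ℳ₃ := quotP 𝒩 K)
      (f := K.subtype) (g := K.mkQ) Subtype.val_injective K.mkQ_surjective
      (by rw [Submodule.range_subtype, Submodule.ker_mkQ]) (fun _ _ h => h)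
      (fun _ _ h => Submodule.mem_map_of_mem h) FK G
      (fun i b => by have := hKs i b; omega) hG
    obtain ⟨F', hF'⟩ := exists_res_lift [x] hys (M ⧸ Γ) (quotP ℳ Γ) hreg (N ⧸ K) (quotP 𝒩 K)
      π' hπ' hπ'g hker' s G' hG'
    obtain ⟨F, hF⟩ := exists_res_X₂ (ℳ₁ := subP ℳ Γ) (ℳ₂ := ℳ) (ℳ₃ := quotP ℳ Γ)
      (f := Γ.subtype) (g := Γ.mkQ) Subtype.val_injective Γ.mkQ_surjective
      (by rw [Submodule.range_subtype, Submodule.ker_mkQ]) (fun _ _ h => h)
      (fun _ _ h => Submodule.mem_map_of_mem h) FΓ F' hΓs hF'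
    exact isRegLE_of_isGenLE F hF

end

end Groth.GrSyzLib
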