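import Mathlib.Algebra.Module.LinearMap.Basic
import Mathlib.Algebra.BigOperators.Group.Finset.Basic
import Mathlib.Algebra.BigOperators.Ring.Finset
import Mathlib.LinearAlgebra.Prod
import Mathlib.Data.Finset.Card
import Mathlib.Tactic

/-!
The Koszul cochain complex of a sequence on a module with a family of pieces, by recursion on the
length of the sequence: functions on finite sets of indices.
-/

set_option autoImplicit false

namespace Groth.GrSyzLib.Kos

open Finset

variable {R : Type*} [CommRing R] {M : Type*} [AddCommGroup M] [Module R M] (x : ℕ → R)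

/-- The differential of the first `j` elements. -/
def δ : ℕ → (Finset ℕ → M) → Finset ℕ → M
  | 0, _ => fun _ => 0
  | j + 1, f => fun s =>
    if j ∈ s then
      δ j (fun t => f (insert j t)) (s.erase j) + ((-1 : R) ^ (s.erase j).card * x j) • f (s.erase j)
    else δ j f s

@[simp] theorem δ_zero (f : Finset ℕ → M) : δ x 0 f = fun _ => 0 := rfl

theorem δ_succ (j : ℕ) (f : Finset ℕ → M) (s : Finset ℕ) :
    δ x (j + 1) f s = if j ∈ s then
      δ x j (fun t => f (insert j t)) (s.erase j) + ((-1 : R) ^ (s.erase j).card * x j) • f (s.erase j)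
    else δ x j f s := rfl

/-- The values used by the differential. -/
theorem δ_congr : ∀ (j : ℕ) {f g : Finset ℕ → M} {s : Finset ℕ},
    (∀ i ∈ s, i < j → f (s.erase i) = g (s.erase i)) → δ x j f s = δ x j g s
  | 0, _, _, _, _ => rfl
  | j + 1, f, g, s, h => by
    rw [δ_succ, δ_succ]
    split_ifs with hj
    · rw [h j hj (Nat.lt_succ_self j)]
      congr 1
      refine δ_congr j fun i hi hij => ?_
      obtain ⟨hne, his⟩ := mem_erase.1 hi
      have hins : insert j ((s.erase j).erase i) = s.erase i := by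
        rw [erase_right_comm, insert_erase (mem_erase.2 ⟨Ne.symm hne, hj⟩)]
      rw [hins]
      exact h i his (Nat.lt_succ_of_lt hij)
    · exact δ_congr j fun i hi hij => h i hi (Nat.lt_succ_of_lt hij)

theorem δ_add : ∀ (j : ℕ) (f g : Finset ℕ → M), δ x j (f + g) = δ x j f + δ x j g
  | 0, _, _ => funext fun _ => (add_zero (0 : M)).symm
  | j + 1, f, g => funext fun s => by
    simp only [Pi.add_apply, δ_succ]
    split_ifs with hj
    · have := congrFun (δ_add j (fun t => f (insert j t)) (fun t => g (insert j t))) (s.erase j)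
      rw [show (fun t => f (insert j t) + g (insert j t)) = (fun t => f (insert j t)) + (fun t => g (insert j t))
        from rfl, this, Pi.add_apply, smul_add]
      abel
    · exact congrFun (δ_add j f g) s

theorem δ_fun_zero : ∀ (j : ℕ), δ x j (0 : Finset ℕ → M) = 0 := fun j => by
  have h := δ_add x j (0 : Finset ℕ → M) 0
  rw [add_zero] at h
  exact left_eq_add.1 h

theorem δ_sub (j : ℕ) (f g : Finset ℕ → M) : δ x j (f - g) = δ x j f - δ x j g := by
  rw [eq_sub_iff_add_eq, ← δ_add, sub_add_cancel]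

theorem δ_map {N : Type*} [AddCommGroup N] [Module R N] (φ : M →ₗ[R] N) :
    ∀ (j : ℕ) (f : Finset ℕ → M), δ x j (fun s => φ (f s)) = fun s => φ (δ x j f s)
  | 0, _ => funext fun _ => (map_zero φ).symm
  | j + 1, f => funext fun s => by
    simp only [δ_succ]
    split_ifs with hj
    · rw [congrFun (δ_map φ j fun t => f (insert j t)) (s.erase j), map_add, map_smul]
    · exact congrFun (δ_map φ j f) s

/-- The twist by a ring element. -/
def tw (y : R) (f : Finset ℕ → M) : Finset ℕ → M := fun s => ((-1 : R) ^ s.card * y) • f s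

theorem δ_tw : ∀ (j : ℕ) (y : R) (f : Finset ℕ → M) (s : Finset ℕ),
    δ x j (tw y f) s = -tw y (δ x j f) s
  | 0, y, f, s => by simp [tw]
  | j + 1, y, f, s => by
    simp only [tw, δ_succ]
    split_ifs with hj
    · have hcard : s.card = (s.erase j).card + 1 := (card_erase_add_one hj).symm
      rw [δ_congr x j (g := tw (-y) fun t => f (insert j t)) fun i hi _ => ?_, δ_tw j (-y), tw,
        hcard, smul_add, smul_smul, smul_smul, ← neg_smul, neg_add, ← neg_smul, ← neg_smul]
      · congr 2 <;> ring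
      · have : j ∉ (s.erase j).erase i := fun h => notMem_erase j s (mem_of_mem_erase h)
        simp only [tw, card_insert_of_notMem this]
        congr 1
        ring
    · exact δ_tw j y f s

theorem δ_δ : ∀ (j : ℕ) (f : Finset ℕ → M), δ x j (δ x j f) = 0
  | 0, _ => rfl
  | j + 1, f => funext fun s => by
    simp only [Pi.zero_apply, δ_succ x j (δ x (j + 1) f) s]
    split_ifs with hj
    · have h1 : δ x j (fun t => δ x (j + 1) f (insert j t)) (s.erase j) =
          δ x j (δ x j (fun t => f (insert j t)) + tw (x j) f) (s.erase j) :=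
        δ_congr x j fun i hi _ => by
          have : j ∉ (s.erase j).erase i := fun h => notMem_erase j s (mem_of_mem_erase h)
          simp only [δ_succ, mem_insert_self, if_true, erase_insert this, Pi.add_apply, tw]
      have h2 : δ x (j + 1) f (s.erase j) = δ x j f (s.erase j) := by
        rw [δ_succ, if_neg (notMem_erase j s)]
      rw [h1, h2, δ_add, δ_δ j, zero_add, δ_tw, tw, neg_add_cancel]
    · rw [δ_congr x j (g := δ x j f) fun i hi _ => ?_, δ_δ j f, Pi.zero_apply]
      rw [δ_succ, if_neg fun h => hj (mem_of_mem_erase h)]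

theorem δ_eq_zero_of_killed : ∀ (j : ℕ) {f : Finset ℕ → M},
    (∀ i, i < j → ∀ t, x i • f t = 0) → δ x j f = 0
  | 0, _, _ => rfl
  | j + 1, f, h => funext fun s => by
    rw [δ_succ, δ_eq_zero_of_killed j fun i hi t => h i (Nat.lt_succ_of_lt hi) (insert j t),
      δ_eq_zero_of_killed j fun i hi t => h i (Nat.lt_succ_of_lt hi) t, mul_smul,
      h j (Nat.lt_succ_self j)]
    simp

theorem δ_singleton : ∀ (j : ℕ) (f : Finset ℕ → M) {i : ℕ}, i < j → δ x j f {i} = x i • f ∅
  | 0, _, i, h => absurd h i.not_lt_zero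
  | j + 1, f, i, h => by
    rw [δ_succ]
    rcases eq_or_ne j i with rfl | hne
    · rw [if_pos (mem_singleton_self j)]
      simp only [erase_singleton, card_empty, pow_zero, one_mul]
      rw [δ_congr x j (g := 0) fun i hi _ => absurd hi (notMem_empty i), δ_fun_zero, Pi.zero_apply,
        zero_add]
    · rw [if_neg fun hm => hne (mem_singleton.1 hm)]
      exact δ_singleton j f (by omega)

/-- A function with one value. -/
def pt (s₀ : Finset ℕ) (z : M) : Finset ℕ → M := fun s => if s = s₀ then z else 0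

@[simp] theorem pt_self (s₀ : Finset ℕ) (z : M) : pt s₀ z s₀ = z := if_pos rfl

theorem pt_ne {s₀ s : Finset ℕ} (z : M) (h : s ≠ s₀) : pt s₀ z s = 0 := if_neg h

/-- The part not containing `j`. -/
def low (j : ℕ) (f : Finset ℕ → M) : Finset ℕ → M := fun s => if j ∈ s then 0 else f s

/-- The part containing `j`. -/
def high (j : ℕ) (f : Finset ℕ → M) : Finset ℕ → M := fun t => if j ∈ t then 0 else f (insert j t)

/-- The inverse of `low` and `high`. -/
def glue (j : ℕ) (a b : Finset ℕ → M) : Finset ℕ → M :=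
  fun s => if j ∈ s then b (s.erase j) else a s

variable (W : ℤ → AddSubgroup M)

/-- Cochains of degree `g`. -/
structure InK (j p : ℕ) (g : ℤ) (f : Finset ℕ → M) : Prop where
  mem : ∀ s, f s ∈ W (g + p)
  supp : ∀ s, ¬(s ⊆ range j ∧ s.card = p) → f s = 0

/-- Coboundaries. -/
def Bd (j : ℕ) : ℕ → ℤ → (Finset ℕ → M) → Prop
  | 0, _, f => f = 0
  | p + 1, g, f => ∃ h, InK W j p g h ∧ δ x j h = f

/-- Exactness. -/
def Ex (j p : ℕ) (g : ℤ) : Prop := ∀ f, InK W j p g f → δ x j f = 0 → Bd x W j p g f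

/-- The pieces are stable under the sequence. -/
def Stable : Prop := ∀ (v : ℕ) (g : ℤ) (z : M), z ∈ W g → x v • z ∈ W (g + 1)

/-- Membership in the span of the first `j` elements, homogeneously. -/
def Sp (j : ℕ) (D : ℤ) (z : M) : Prop :=
  ∃ w : ℕ → M, (∀ i, w i ∈ W (D - 1)) ∧ ∑ i ∈ range j, x i • w i = z

variable {x W} {j p : ℕ} {g : ℤ} {f f' : Finset ℕ → M}

theorem sign_smul_mem {D : ℤ} {z : M} (n : ℕ) (hz : z ∈ W D) : (-1 : R) ^ n • z ∈ W D := by
  rcases neg_one_pow_eq_or R n with h | h <;> simp [h, hz]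

theorem Stable.sign (hW : Stable x W) (n v : ℕ) {D : ℤ} {z : M} (hz : z ∈ W D) :
    ((-1 : R) ^ n * x v) • z ∈ W (D + 1) := by
  rw [mul_smul]
  exact sign_smul_mem n (hW v D z hz)

theorem δ_mem (hW : Stable x W) : ∀ (j : ℕ) {D : ℤ} {f : Finset ℕ → M}, (∀ s, f s ∈ W D) →
    ∀ s, δ x j f s ∈ W (D + 1)
  | 0, _, _, _, _ => zero_mem _
  | j + 1, D, f, h, s => by
    rw [δ_succ]
    split_ifs
    · exact add_mem (δ_mem hW j (fun t => h _) _) (hW.sign _ _ (h _))
    · exact δ_mem hW j h s

theorem InK.zero : InK W j p g (0 : Finset ℕ → M) := ⟨fun _ => zero_mem _, fun _ _ => rfl⟩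

theorem InK.add (h : InK W j p g f) (h' : InK W j p g f') : InK W j p g (f + f') :=
  ⟨fun s => add_mem (h.mem s) (h'.mem s), fun s hs => by simp [h.supp s hs, h'.supp s hs]⟩

theorem InK.sub (h : InK W j p g f) (h' : InK W j p g f') : InK W j p g (f - f') :=
  ⟨fun s => sub_mem (h.mem s) (h'.mem s), fun s hs => by simp [h.supp s hs, h'.supp s hs]⟩

theorem InK.delta (hW : Stable x W) (h : InK W j p g f) : InK W j (p + 1) g (δ x j f) := by
  refine ⟨fun s => ?_, fun s hs => ?_⟩
  · rw [show g + ((p + 1 : ℕ) : ℤ) = g + p + 1 by push_cast; ring]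
    exact δ_mem hW j h.mem s
  · rw [δ_congr x j (g := 0) fun i hi hij => ?_, δ_fun_zero, Pi.zero_apply]
    refine h.supp _ fun ⟨h1, h2⟩ => hs ⟨fun l hl => ?_, ?_⟩
    · rcases eq_or_ne l i with rfl | hne
      · exact mem_range.2 hij
      · exact h1 (mem_erase.2 ⟨hne, hl⟩)
    · rw [← card_erase_add_one hi, h2]

theorem InK.eq_zero_of_lt (h : InK W j p g f) (hp : j < p) : f = 0 := funext fun s => by
  refine h.supp s fun ⟨h1, h2⟩ => ?_
  have := card_le_card h1
  rw [card_range] at this
  omega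

theorem InK.of_le {j' : ℕ} (h : InK W j p g f) (hj : j ≤ j') : InK W j' p g f :=
  ⟨h.mem, fun s hs => h.supp s fun h' => hs ⟨h'.1.trans (range_mono hj), h'.2⟩⟩

theorem InK.eq_zero_of_mem (h : InK W j p g f) {s : Finset ℕ} (hs : j ∈ s) : f s = 0 :=
  h.supp s fun h' => absurd (mem_range.1 (h'.1 hs)) (lt_irrefl j)

theorem InK.low (h : InK W (j + 1) p g f) : InK W j p g (low j f) := by
  refine ⟨fun s => ?_, fun s hs => ?_⟩ <;> unfold Kos.low <;> split_ifs with hj
  · exact zero_mem _
  · exact h.mem s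
  · rfl
  · refine h.supp s fun h' => hs ⟨fun l hl => mem_range.2 ?_, h'.2⟩
    have := mem_range.1 (h'.1 hl)
    have : l ≠ j := fun e => hj (e ▸ hl)
    omega

theorem InK.high (h : InK W (j + 1) (p + 1) g f) : InK W j p (g + 1) (high j f) := by
  refine ⟨fun s => ?_, fun s hs => ?_⟩ <;> unfold Kos.high <;> split_ifs with hj
  · exact zero_mem _
  · rw [show g + 1 + (p : ℤ) = g + ((p + 1 : ℕ) : ℤ) by push_cast; ring]
    exact h.mem _
  · rfl
  · refine h.supp _ fun h' => hs ⟨fun l hl => mem_range.2 ?_, ?_⟩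
    · have := mem_range.1 (h'.1 (mem_insert_of_mem hl))
      have : l ≠ j := fun e => hj (e ▸ hl)
      omega
    · have := h'.2
      rw [card_insert_of_notMem hj] at this
      omega

theorem InK.high_zero (h : InK W (j + 1) 0 g f) : Kos.high j f = 0 := funext fun t => by
  unfold Kos.high
  split_ifs
  · rfl
  · exact h.supp _ fun h' => Finset.insert_ne_empty j t (card_eq_zero.1 h'.2)

theorem InK.tw (hW : Stable x W) (h : InK W j p g f) (v : ℕ) :
    InK W j p (g + 1) (tw (x v) f) := by
  refine ⟨fun s => ?_, fun s hs => by simp [Kos.tw, h.supp s hs]⟩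
  rw [show g + 1 + (p : ℤ) = g + p + 1 by ring]
  exact hW.sign _ _ (h.mem s)

theorem InK.pt {s₀ : Finset ℕ} {z : M} (hz : z ∈ W (g + p)) (hs : s₀ ⊆ range j) (hc : s₀.card = p) :
    InK W j p g (pt s₀ z) := by
  refine ⟨fun s => ?_, fun s h => pt_ne z fun e => h (e ▸ ⟨hs, hc⟩)⟩
  unfold Kos.pt
  split_ifs
  · exact hz
  · exact zero_mem _

theorem InK.glue {a b : Finset ℕ → M} (ha : InK W j (p + 1) g a) (hb : InK W j p (g + 1) b) :
    InK W (j + 1) (p + 1) g (glue j a b) := by
  refine ⟨fun s => ?_, fun s hs => ?_⟩ <;> unfold Kos.glue <;> split_ifs with hj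
  · rw [show g + ((p + 1 : ℕ) : ℤ) = g + 1 + p by push_cast; ring]
    exact hb.mem _
  · exact ha.mem s
  · refine hb.supp _ fun h' => hs ⟨fun l hl => mem_range.2 ?_, by rw [← card_erase_add_one hj, h'.2]⟩
    rcases eq_or_ne l j with rfl | hne
    · exact Nat.lt_succ_self l
    · exact Nat.lt_succ_of_lt (mem_range.1 (h'.1 (mem_erase.2 ⟨hne, hl⟩)))
  · exact ha.supp s fun h' => hs ⟨h'.1.trans (range_mono (Nat.le_succ j)), h'.2⟩

theorem cocycle_low (hW : Stable x W) (hf : InK W (j + 1) p g f) (h0 : δ x (j + 1) f = 0) :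
    δ x j (low j f) = 0 := funext fun s => by
  by_cases hj : j ∈ s
  · exact (hf.low.delta hW).eq_zero_of_mem hj
  · have := congrFun h0 s
    rw [δ_succ, if_neg hj] at this
    rw [← this]
    exact δ_congr x j fun i _ _ => if_neg fun h => hj (mem_of_mem_erase h)

theorem cocycle_high (hW : Stable x W) (hf : InK W (j + 1) (p + 1) g f) (h0 : δ x (j + 1) f = 0) :
    δ x j (high j f) + tw (x j) (low j f) = 0 := funext fun t => by
  rw [Pi.add_apply, Pi.zero_apply]
  by_cases hj : j ∈ t
  · rw [(hf.high.delta hW).eq_zero_of_mem hj, tw, hf.low.eq_zero_of_mem hj, smul_zero, add_zero]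
  · have := congrFun h0 (insert j t)
    rw [δ_succ, if_pos (mem_insert_self j t), erase_insert hj, Pi.zero_apply] at this
    rw [← this, tw, Kos.low, if_neg hj]
    congr 1
    exact δ_congr x j fun i _ _ => if_neg fun h => hj (mem_of_mem_erase h)

/-- From boundaries of the two parts to a boundary. -/
theorem bd_glue (hW : Stable x W) (hf : InK W (j + 1) (p + 1) g f) {a : Finset ℕ → M}
    (ha : InK W j p g a) (hδ : δ x j a = low j f)
    (hb : Bd x W j p (g + 1) (high j f - tw (x j) a)) : Bd x W (j + 1) (p + 1) g f := by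
  obtain ⟨b, hbK, hbj, hbδ⟩ : ∃ b, InK W (j + 1) p g (glue j a b) ∧ (∀ s, j ∈ s → b s = 0) ∧
      δ x j b = high j f - tw (x j) a := by
    cases p with
    | zero =>
      refine ⟨0, ?_, fun _ _ => rfl, by rw [δ_fun_zero]; exact hb.symm⟩
      have : glue j a (0 : Finset ℕ → M) = a := funext fun s => by
        unfold Kos.glue
        split_ifs with hj
        · exact (ha.eq_zero_of_mem hj).symm
        · rfl
      rw [this]
      exact ha.of_le (Nat.le_succ j)
    | succ q =>
      obtain ⟨b, hb1, hb2⟩ := hb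
      exact ⟨b, ha.glue hb1, fun s => hb1.eq_zero_of_mem, hb2⟩
  refine ⟨glue j a b, hbK, funext fun s => ?_⟩
  rw [δ_succ]
  split_ifs with hj
  · have h1 : δ x j (fun t => glue j a b (insert j t)) (s.erase j) = δ x j b (s.erase j) :=
      δ_congr x j fun i _ _ => by
        have : j ∉ (s.erase j).erase i := fun h => notMem_erase j s (mem_of_mem_erase h)
        simp [Kos.glue, erase_insert this]
    rw [h1, hbδ]
    simp [Kos.glue, Kos.high, tw, insert_erase hj]
  · have h1 : δ x j (glue j a b) s = δ x j a s :=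
      δ_congr x j fun i _ _ => if_neg fun h => hj (mem_of_mem_erase h)
    rw [h1, hδ]
    exact if_neg hj

theorem Bd.zero : ∀ (p : ℕ), Bd x W j p g (0 : Finset ℕ → M)
  | 0 => rfl
  | _ + 1 => ⟨0, InK.zero, δ_fun_zero x j⟩

theorem Sp.of_mem {D : ℤ} {z : M} (hj : j < p) (hz : z ∈ W (D - 1)) : Sp x W p D (x j • z) := by
  refine ⟨fun i => if i = j then z else 0, fun i => ?_, ?_⟩
  · dsimp only
    split_ifs
    · exact hz
    · exact zero_mem _
  · rw [sum_eq_single j (fun i _ h => by simp [h]) fun h => absurd (mem_range.2 hj) h]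
    simp

theorem Sp.sign {D : ℤ} {z : M} (n : ℕ) (h : Sp x W j D z) : Sp x W j D ((-1 : R) ^ n • z) := by
  obtain ⟨w, hw, rfl⟩ := h
  exact ⟨fun i => (-1 : R) ^ n • w i, fun i => sign_smul_mem n (hw i), by
    rw [smul_sum]; exact sum_congr rfl fun i _ => smul_comm _ _ _⟩

theorem sp_δ : ∀ (j : ℕ) {D : ℤ} {h : Finset ℕ → M}, (∀ t, h t ∈ W D) →
    ∀ s, Sp x W j (D + 1) (δ x j h s)
  | 0, D, _, _, _ => ⟨fun _ => 0, fun _ => zero_mem _, by simp⟩
  | j + 1, D, h, hh, s => by
    rw [δ_succ]
    split_ifs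
    · obtain ⟨w, hw, hs⟩ := sp_δ j (h := fun t => h (insert j t)) (fun t => hh _) (s.erase j)
      refine ⟨Function.update w j ((-1 : R) ^ (s.erase j).card • h (s.erase j)), fun i => ?_, ?_⟩
      · rcases eq_or_ne i j with rfl | hne
        · rw [Function.update_self, add_sub_cancel_right]
          exact sign_smul_mem _ (hh _)
        · rw [Function.update_of_ne hne]
          exact hw i
      · rw [sum_range_succ, Function.update_self, ← hs, smul_smul, mul_comm (x j)]
        congr 1
        exact sum_congr rfl fun i hi => by rw [Function.update_of_ne (mem_range.1 hi).ne]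
    · obtain ⟨w, hw, hs⟩ := sp_δ j hh s
      refine ⟨Function.update w j 0, fun i => ?_, ?_⟩
      · rcases eq_or_ne i j with rfl | hne
        · rw [Function.update_self]
          exact zero_mem _
        · rw [Function.update_of_ne hne]
          exact hw i
      · rw [sum_range_succ, Function.update_self, smul_zero, add_zero, ← hs]
        exact sum_congr rfl fun i hi => by rw [Function.update_of_ne (mem_range.1 hi).ne]

/-- A top cochain with value in the span is a coboundary. -/
theorem bd_top (hW : Stable x W) : ∀ (j : ℕ) {g : ℤ} {f : Finset ℕ → M}, InK W j j g f →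
    Sp x W j (g + j) (f (range j)) → Bd x W j j g f
  | 0, g, f, hf, ⟨w, _, hw⟩ => funext fun s => by
    by_cases hs : s = ∅
    · subst hs
      simpa using hw.symm
    · exact hf.supp s fun h => hs (card_eq_zero.1 h.2)
  | j + 1, g, f, hf, ⟨w, hw, hwz⟩ => by
    have hwd : g + ((j + 1 : ℕ) : ℤ) - 1 = g + j := by push_cast; ring
    have ha : InK W j j g (pt (range j) ((-1 : R) ^ j • w j)) :=
      InK.pt (sign_smul_mem j (hwd ▸ hw j)) subset_rfl (card_range j)
    refine bd_glue hW hf ha ?_ (bd_top hW j (hf.high.sub (ha.tw hW j)) ?_)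
    · rw [(ha.delta hW).eq_zero_of_lt (Nat.lt_succ_self j),
        hf.low.eq_zero_of_lt (Nat.lt_succ_self j)]
    · refine ⟨w, fun i => ?_, ?_⟩
      · rw [show g + 1 + (j : ℤ) - 1 = g + ((j + 1 : ℕ) : ℤ) - 1 by push_cast; ring]
        exact hw i
      · have hs : high j f (range j) = f (range (j + 1)) := by
          rw [Kos.high, if_neg notMem_range_self, range_add_one]
        rw [sum_range_succ] at hwz
        rw [Pi.sub_apply, hs, tw, pt_self, card_range, smul_smul,
          show (-1 : R) ^ j * x j * (-1) ^ j = x j * ((-1) ^ j * (-1) ^ j) by ring,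
          ← mul_pow, neg_one_mul, neg_neg, one_pow, mul_one, ← hwz, add_sub_cancel_right]

/-- Top exactness. -/
theorem ex_top_iff (hW : Stable x W) (j : ℕ) (g : ℤ) :
    Ex x W j j g ↔ ∀ z ∈ W (g + j), Sp x W j (g + j) z := by
  refine ⟨fun h z hz => ?_, fun h f hf _ => bd_top hW j hf (h _ (hf.mem _))⟩
  have hK : InK W j j g (pt (range j) z) := InK.pt hz subset_rfl (card_range j)
  have hb := h _ hK ((hK.delta hW).eq_zero_of_lt (Nat.lt_succ_self j))
  cases j with
  | zero =>
    have := congrFun hb (range 0)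
    rw [pt_self] at this
    exact ⟨fun _ => 0, fun _ => zero_mem _, by simp [this]⟩
  | succ q =>
    obtain ⟨a, ha, hδ⟩ := hb
    have := sp_δ (x := x) (W := W) (q + 1) ha.mem (range (q + 1))
    rw [hδ, pt_self] at this
    rwa [show g + ((q + 1 : ℕ) : ℤ) = g + q + 1 by push_cast; ring]

variable (x W) in
/-- A piecewise colon condition. -/
def Colon (v : ℕ) : Prop :=
  ∀ (g : ℤ) (z : M), z ∈ W g → Sp x W v (g + 1) (x v • z) → Sp x W v g z

/-- A regular sequence gives exactness below the top. -/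
theorem ex_of_colon (hW : Stable x W) : ∀ (j : ℕ), (∀ v < j, Colon x W v) →
    ∀ p < j, ∀ g, Ex x W j p g
  | 0, _, p, hp, _ => absurd hp p.not_lt_zero
  | j + 1, hc, p, hp, g => fun f hf h0 => by
    have ih := ex_of_colon hW j fun v hv => hc v (Nat.lt_succ_of_lt hv)
    have hl := cocycle_low hW hf h0
    cases p with
    | zero =>
      have hlow : low j f = 0 := by
        rcases Nat.eq_zero_or_pos j with rfl | hj
        · have hz : low 0 f ∅ = 0 := by
            have h1 := congrFun h0 {0}
            rw [δ_singleton x 1 f Nat.one_pos, Pi.zero_apply] at h1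
            have hfm : f ∅ ∈ W g := by simpa using hf.mem ∅
            obtain ⟨w, -, hw⟩ := hc 0 Nat.one_pos g (f ∅) hfm
              ⟨fun _ => 0, fun _ => zero_mem _, by simp [h1]⟩
            rw [Kos.low, if_neg (notMem_empty _)]
            simpa using hw.symm
          funext s
          by_cases hs : s = ∅
          · subst hs; exact hz
          · exact hf.low.supp s fun h => hs (card_eq_zero.1 h.2)
        · exact ih 0 hj g _ hf.low hl
      refine funext fun s => ?_
      by_cases hj : j ∈ s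
      · exact hf.supp s fun h => by simp [card_eq_zero.1 h.2] at hj
      · have := congrFun hlow s
        rwa [Kos.low, if_neg hj] at this
    | succ q =>
      have hh := cocycle_high hW hf h0
      have hbl : Bd x W j (q + 1) g (low j f) := by
        rcases Nat.lt_or_eq_of_le (Nat.le_of_lt_succ hp) with hlt | heq
        · exact ih (q + 1) hlt g _ hf.low hl
        · subst heq
          refine bd_top hW _ hf.low ?_
          have h1 := sp_δ (x := x) (W := W) (q + 1) hf.high.mem (range (q + 1))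
          have h2 := congrFun hh (range (q + 1))
          rw [Pi.add_apply, Pi.zero_apply, add_eq_zero_iff_eq_neg, tw, ← neg_smul] at h2
          rw [h2] at h1
          have h3 := h1.sign ((range (q + 1)).card + 1)
          rw [smul_smul, show g + 1 + (q : ℤ) + 1 = g + ((q + 1 : ℕ) : ℤ) + 1 by push_cast; ring,
            show (-1 : R) ^ ((range (q + 1)).card + 1) * -((-1) ^ (range (q + 1)).card * x (q + 1)) =
              x (q + 1) * ((-1) ^ (range (q + 1)).card * (-1) ^ (range (q + 1)).card) by ring,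
            ← mul_pow, neg_one_mul, neg_neg, one_pow, mul_one] at h3
          exact hc (q + 1) (Nat.lt_succ_self _) _ _ (hf.low.mem _) h3
      obtain ⟨a, ha, hδ⟩ := hbl
      refine bd_glue hW hf ha hδ (ih q (by omega) (g + 1) _ (hf.high.sub (ha.tw hW j)) ?_)
      rw [δ_sub, show δ x j (tw (x j) a) = -tw (x j) (δ x j a) from funext (δ_tw x j (x j) a), hδ,
        sub_neg_eq_add, hh]

/-- Surjectivity on annihilators gives exactness in positive degrees. -/
theorem ex_of_div (hW : Stable x W) : ∀ (j : ℕ),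
    (∀ v < j, ∀ (g : ℤ) (z : M), z ∈ W (g + 1) → (∀ i < v, x i • z = 0) →
      ∃ w ∈ W g, (∀ i < v, x i • w = 0) ∧ x v • w = z) →
    ∀ p, 0 < p → ∀ g, Ex x W j p g
  | 0, _, p, hp, g => fun f hf _ => by
    rw [hf.eq_zero_of_lt hp]
    exact Bd.zero p
  | j + 1, hd, p, hp, g => fun f hf h0 => by
    have ih := ex_of_div hW j fun v hv => hd v (Nat.lt_succ_of_lt hv)
    obtain ⟨q, rfl⟩ := Nat.exists_eq_add_one.2 hp
    have hh := cocycle_high hW hf h0
    obtain ⟨a, ha, hδ⟩ := ih (q + 1) hp g _ hf.low (cocycle_low hW hf h0)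
    have hcoc : δ x j (high j f - tw (x j) a) = 0 := by
      rw [δ_sub, show δ x j (tw (x j) a) = -tw (x j) (δ x j a) from funext (δ_tw x j (x j) a), hδ,
        sub_neg_eq_add, hh]
    rcases Nat.eq_zero_or_pos q with rfl | hq
    · -- correct by a common annihilator
      set u := high j f - tw (x j) a with hu
      have huK : InK W j 0 (g + 1) u := hf.high.sub (ha.tw hW j)
      obtain ⟨w, hw, hwk, hwz⟩ := hd j (Nat.lt_succ_self j) g (u ∅) (by simpa using huK.mem ∅)
        fun i hi => by rw [← δ_singleton x j u hi, hcoc]; rfl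
      have hwK : InK W j 0 g (pt ∅ w) := InK.pt (by simpa using hw) (empty_subset _) card_empty
      refine bd_glue hW hf (ha.add hwK) ?_ ?_
      · rw [δ_add, δ_eq_zero_of_killed x j (f := pt ∅ w) fun i hi t => ?_, add_zero, hδ]
        unfold Kos.pt
        split_ifs
        · exact hwk i hi
        · exact smul_zero _
      · refine funext fun s => ?_
        by_cases hs : s = ∅
        · subst hs
          simp only [hu, Pi.sub_apply, Pi.add_apply, Pi.zero_apply, tw, card_empty, pow_zero,
            one_mul, smul_add, pt_self] at hwz ⊢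
          rw [hwz]
          abel
        · exact (hf.high.sub ((ha.add hwK).tw hW j)).supp s fun h => hs (card_eq_zero.1 h.2)
    · exact bd_glue hW hf ha hδ (ih q hq (g + 1) _ (hf.high.sub (ha.tw hW j)) hcoc)

section step

variable {B Q : Type*} [AddCommGroup B] [Module R B] [AddCommGroup Q] [Module R Q]
  {WB : ℤ → AddSubgroup B} {WQ : ℤ → AddSubgroup Q} {π : B →ₗ[R] Q}

variable (WB π) in
/-- The pieces of the kernel. -/
def kerP (g : ℤ) : AddSubgroup B := WB g ⊓ π.toAddMonoidHom.ker

theorem mem_kerP {g : ℤ} {b : B} : b ∈ kerP WB π g ↔ b ∈ WB g ∧ π b = 0 := Iff.rfl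

theorem Stable.kerP (hB : Stable x WB) : Stable x (kerP WB π) := fun v g z hz =>
  ⟨hB v g z hz.1, by
    show π (x v • z) = 0
    rw [map_smul, (mem_kerP.1 hz).2, smul_zero]⟩

theorem InK.of_kerP {f : Finset ℕ → B} (h : InK (Kos.kerP WB π) j p g f) : InK WB j p g f :=
  ⟨fun s => (h.mem s).1, h.supp⟩

theorem InK.map {f : Finset ℕ → B} (hπ : ∀ g b, b ∈ WB g → π b ∈ WQ g) (h : InK WB j p g f) :
    InK WQ j p g (fun s => π (f s)) :=
  ⟨fun s => hπ _ _ (h.mem s), fun s hs => by simp [h.supp s hs]⟩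

theorem InK.exists_lift {f : Finset ℕ → Q} (hsur : ∀ g c, c ∈ WQ g → ∃ b ∈ WB g, π b = c)
    (h : InK WQ j p g f) : ∃ f', InK WB j p g f' ∧ (fun s => π (f' s)) = f := by
  classical
  choose b hb hb' using fun s => hsur _ _ (h.mem s)
  refine ⟨fun s => if s ⊆ range j ∧ s.card = p then b s else 0,
    ⟨fun s => ?_, fun s hs => if_neg hs⟩, funext fun s => ?_⟩
  · split_ifs
    · exact hb s
    · exact zero_mem _
  · dsimp only
    split_ifs with hs
    · exact hb' s
    · rw [map_zero, h.supp s hs]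

variable (hB : Stable x WB) (hπ : ∀ g b, b ∈ WB g → π b ∈ WQ g)
  (hsur : ∀ g c, c ∈ WQ g → ∃ b ∈ WB g, π b = c)

include hB hπ hsur in
/-- Dimension shift, one direction. -/
theorem exA_of (hbd : ∀ f, InK (kerP WB π) j (p + 1) g f → δ x j f = 0 → Bd x WB j (p + 1) g f)
    (hQ : Ex x WQ j p g) : Ex x (kerP WB π) j (p + 1) g := fun f hf h0 => by
  obtain ⟨h, hh, hhf⟩ := hbd f hf h0
  have hc : δ x j (fun s => π (h s)) = 0 := by
    rw [δ_map, hhf]
    exact funext fun s => (hf.mem s).2
  have hb := hQ _ (hh.map hπ) hc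
  cases p with
  | zero => exact ⟨h, ⟨fun s => ⟨hh.mem s, congrFun hb s⟩, hh.supp⟩, hhf⟩
  | succ r =>
    obtain ⟨q, hq, hqh⟩ := hb
    obtain ⟨q', hq', rfl⟩ := hq.exists_lift hsur
    refine ⟨h - δ x j q', ⟨fun s => ⟨(WB _).sub_mem (hh.mem s) ((hq'.delta hB).mem s), ?_⟩,
      (hh.sub (hq'.delta hB)).supp⟩, by rw [δ_sub, δ_δ, sub_zero, hhf]⟩
    show π (h s - δ x j q' s) = 0
    rw [map_sub, ← congrFun (δ_map x π j q') s, congrFun hqh s, sub_self]

include hB hπ hsur in
/-- Dimension shift, the other direction. -/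
theorem exQ_of (hBp : Ex x WB j p g) (hA : Ex x (kerP WB π) j (p + 1) g) : Ex x WQ j p g :=
  fun q hq h0 => by
  obtain ⟨b, hb, rfl⟩ := hq.exists_lift hsur
  rw [δ_map] at h0
  obtain ⟨a, ha, hab⟩ := hA (δ x j b)
    ⟨fun s => ⟨(hb.delta hB).mem s, congrFun h0 s⟩, (hb.delta hB).supp⟩ (δ_δ x j b)
  have hbd := hBp (b - a) (hb.sub ha.of_kerP) (by rw [δ_sub, hab, sub_self])
  have hval : (fun s => π (b s)) = fun s => π ((b - a) s) := funext fun s => by
    rw [Pi.sub_apply, map_sub, (mem_kerP.1 (ha.mem s)).2, sub_zero]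
  rw [hval]
  cases p with
  | zero =>
    show _ = 0
    rw [show b - a = 0 from hbd]
    exact funext fun _ => map_zero π
  | succ r =>
    obtain ⟨c, hc, hcb⟩ := hbd
    exact ⟨fun s => π (c s), hc.map hπ, by rw [δ_map, hcb]⟩

include hB hπ hsur in
/-- Dimension shift at the start. -/
theorem ex_one_iff (hB1 : Ex x WB j 1 g) :
    Ex x (kerP WB π) j 1 g ↔ ∀ z ∈ WQ g, (∀ i < j, x i • z = 0) →
      ∃ y ∈ WB g, (∀ i < j, x i • y = 0) ∧ π y = z := by
  constructor
  · intro h z hz hzk
    obtain ⟨y, hy, rfl⟩ := hsur g z hz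
    have hK : InK WB j 0 g (pt ∅ y) := InK.pt (by simpa using hy) (empty_subset _) card_empty
    have h0 : δ x j (fun s => π (pt ∅ y s)) = 0 := δ_eq_zero_of_killed x j fun i hi t => by
      unfold Kos.pt
      split_ifs
      · exact hzk i hi
      · rw [map_zero, smul_zero]
    rw [δ_map] at h0
    obtain ⟨a, ha, hab⟩ := h (δ x j (pt ∅ y))
      ⟨fun s => ⟨(hK.delta hB).mem s, congrFun h0 s⟩, (hK.delta hB).supp⟩ (δ_δ x j _)
    refine ⟨y - a ∅, sub_mem hy (by simpa using (ha.mem ∅).1), fun i hi => ?_, ?_⟩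
    · have h1 := congrFun hab {i}
      rw [δ_singleton x j _ hi, δ_singleton x j _ hi, pt_self] at h1
      rw [smul_sub, h1, sub_self]
    · rw [map_sub, (mem_kerP.1 (ha.mem ∅)).2, sub_zero]
  · intro h f hf h0
    obtain ⟨a, ha, haf⟩ := hB1 f hf.of_kerP h0
    obtain ⟨y, hy, hyk, hya⟩ := h (π (a ∅)) (hπ g _ (by simpa using ha.mem ∅)) fun i hi => by
      rw [← map_smul, ← δ_singleton x j a hi, haf]
      exact (hf.mem _).2
    have hK : InK WB j 0 g (pt ∅ y) := InK.pt (by simpa using hy) (empty_subset _) card_empty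
    refine ⟨a - pt ∅ y, ⟨fun s => ⟨(WB _).sub_mem (ha.mem s) (hK.mem s), ?_⟩, (ha.sub hK).supp⟩, ?_⟩
    · show π (a s - pt ∅ y s) = 0
      by_cases hs : s = ∅
      · subst hs
        rw [pt_self, map_sub, hya, sub_self]
      · rw [pt_ne y hs, ha.supp s fun h => hs (card_eq_zero.1 h.2), sub_zero, map_zero]
    · rw [δ_sub, haf, δ_eq_zero_of_killed x j (f := pt ∅ y) fun i hi t => ?_, sub_zero]
      unfold Kos.pt
      split_ifs
      · exact hyk i hi
      · exact smul_zero _

end step

/-- Invariance under injective maps. -/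
theorem ex_congr {N : Type*} [AddCommGroup N] [Module R N] {V : ℤ → AddSubgroup N}
    (φ : M →ₗ[R] N) (hφ : Function.Injective φ) (hV : ∀ g, V g = (W g).map φ.toAddMonoidHom)
    (j p : ℕ) (g : ℤ) : Ex x W j p g ↔ Ex x V j p g := by
  have hmap : ∀ g b, b ∈ W g → φ b ∈ V g := fun g b hb => (hV g).symm ▸ ⟨b, hb, rfl⟩
  have hsur : ∀ g c, c ∈ V g → ∃ b ∈ W g, φ b = c := fun g c hc => by
    rw [hV] at hc
    exact hc
  have hcomp : ∀ f f' : Finset ℕ → M, (fun s => φ (f s)) = (fun s => φ (f' s)) → f = f' :=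
    fun f f' h => funext fun s => hφ (congrFun h s)
  constructor
  · intro h q hq h0
    obtain ⟨f, hf, rfl⟩ := hq.exists_lift hsur
    rw [δ_map] at h0
    have := h f hf (hcomp _ _ (h0.trans (funext fun _ => (map_zero φ).symm)))
    cases p with
    | zero =>
      show _ = 0
      rw [show f = 0 from this]
      exact funext fun _ => map_zero φ
    | succ r =>
      obtain ⟨a, ha, hab⟩ := this
      exact ⟨fun s => φ (a s), ha.map hmap, by rw [δ_map, hab]⟩
  · intro h f hf h0
    have := h _ (hf.map hmap) (by rw [δ_map, h0]; exact funext fun _ => map_zero φ)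
    cases p with
    | zero => exact hcomp f 0 (Eq.trans this (funext fun _ => (map_zero φ).symm))
    | succ r =>
      obtain ⟨q, hq, hqf⟩ := this
      obtain ⟨a, ha, rfl⟩ := hq.exists_lift hsur
      rw [δ_map] at hqf
      exact ⟨a, ha, hcomp _ _ hqf⟩

end Groth.GrSyzLib.Kos
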