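import Mathlib.LinearAlgebra.Matrix.Rank
import Mathlib.RingTheory.Localization.Module
import Mathlib.RingTheory.Localization.FractionRing

/-!
The left kernel of an injective `(n+1) × n` matrix over a domain has rank one.
-/

set_option autoImplicit false

namespace Groth.GrSyzLib

open Matrix

theorem left_kernel_proportional {R : Type*} [CommRing R] [IsDomain R] {n : ℕ}
    (A : Matrix (Fin (n + 1)) (Fin n) R) (hA : Function.Injective A.mulVec) {c g : Fin (n + 1) → R}
    (hc : c ᵥ* A = 0) (hg : g ᵥ* A = 0) (p q : Fin (n + 1)) : c p * g q = c q * g p := by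
  let K := FractionRing R
  let φ : R →+* K := algebraMap R K
  set AK : Matrix (Fin (n + 1)) (Fin n) K := A.map φ with hAK
  have hcols : LinearIndependent K AK.col := by
    refine (LinearIndependent.iff_fractionRing R K).1 ?_
    exact (Matrix.mulVec_injective_iff.1 hA).map'
      ((Algebra.linearMap R K).compLeft (Fin (n + 1))) (by
        rw [LinearMap.ker_eq_bot]
        exact (IsFractionRing.injective R K).comp_left)
  have hrank : AKᵀ.rank = n := by
    rw [Matrix.rank_transpose, Matrix.rank_eq_finrank_span_cols, finrank_span_eq_card hcols,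
      Fintype.card_fin]
  have hker : Module.finrank K (LinearMap.ker AKᵀ.mulVecLin) = 1 := by
    have := LinearMap.finrank_range_add_finrank_ker AKᵀ.mulVecLin
    rw [show Module.finrank K (LinearMap.range AKᵀ.mulVecLin) = n from hrank,
      Module.finrank_fintype_fun_eq_card, Fintype.card_fin] at this
    omega
  have hmem : ∀ {d : Fin (n + 1) → R}, d ᵥ* A = 0 → φ ∘ d ∈ LinearMap.ker AKᵀ.mulVecLin := by
    intro d hd
    rw [LinearMap.mem_ker, Matrix.mulVecLin_apply, Matrix.mulVec_transpose]
    funext j
    rw [hAK, ← RingHom.map_vecMul, hd]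
    simp
  by_cases hg0 : g = 0
  · simp [hg0]
  obtain ⟨s, hs⟩ := exists_smul_eq_of_finrank_eq_one hker
    (x := ⟨φ ∘ g, hmem hg⟩) (fun h => hg0 (funext fun j => IsFractionRing.injective R K (by
      rw [Pi.zero_apply, map_zero]; exact congrFun (congrArg Subtype.val h) j))) ⟨φ ∘ c, hmem hc⟩
  have hs' : ∀ j, s * φ (g j) = φ (c j) := fun j => congrFun (congrArg Subtype.val hs) j
  refine IsFractionRing.injective R K ?_
  show φ (c p * g q) = φ (c q * g p)
  rw [map_mul, map_mul, ← hs', ← hs']
  ring

/-- More rows than columns supporting them: a left kernel vector supported on the first rows. -/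
theorem exists_left_kernel_of_block {R : Type*} [CommRing R] [Nontrivial R] {n : ℕ}
    (A : Matrix (Fin (n + 1)) (Fin n) R) (i : ℕ) (hi : i < n)
    (h : ∀ (p : Fin (n + 1)) (q : Fin n), p.val ≤ i → i ≤ q.val → A p q = 0) :
    ∃ c : Fin (n + 1) → R, c ᵥ* A = 0 ∧ c ≠ 0 ∧ ∀ p, i < p.val → c p = 0 := by
  classical
  let w : Fin (i + 1) → (Fin i → R) := fun p q => A ⟨p, by omega⟩ ⟨q, by omega⟩
  have hdep : ¬ LinearIndependent R w := fun hw => by
    have := hw.fintype_card_le_finrank
    simp at this
  obtain ⟨c₀, hc₀, p₀, hp₀⟩ := Fintype.not_linearIndependent_iff.1 hdep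
  let c : Fin (n + 1) → R := fun p => if hp : p.val < i + 1 then c₀ ⟨p, hp⟩ else 0
  refine ⟨c, funext fun q => ?_, fun hc => hp₀ ?_, fun p hp => dif_neg (by omega)⟩
  · rw [Matrix.vecMul, dotProduct, Pi.zero_apply]
    by_cases hq : q.val < i
    · have hsum := congrFun hc₀ ⟨q, hq⟩
      rw [Finset.sum_apply] at hsum
      simp only [Pi.smul_apply, smul_eq_mul, Pi.zero_apply] at hsum
      rw [← hsum]
      symm
      refine Finset.sum_of_injOn (fun p : Fin (i + 1) => (⟨p, by omega⟩ : Fin (n + 1)))
        (fun a _ b _ hab => Fin.ext (Fin.mk.inj hab)) (fun _ _ => Finset.mem_univ _) ?_ ?_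
      · intro p _ hp
        have : ¬ p.val < i + 1 := fun hlt => hp ⟨⟨p, hlt⟩, Finset.mem_univ _, rfl⟩
        rw [show c p = 0 from dif_neg this, zero_mul]
      · intro p _
        rw [show c ⟨p, by omega⟩ = c₀ p from dif_pos p.isLt]
    · refine Finset.sum_eq_zero fun p _ => ?_
      by_cases hp : p.val < i + 1
      · rw [h p q (by omega) (by omega), mul_zero]
      · rw [show c p = 0 from dif_neg hp, zero_mul]
  · exact (dif_pos p₀.isLt).symm.trans (congrFun hc ⟨p₀, by omega⟩)

end Groth.GrSyzLib
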