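import Groth.Agent.GrSyz.BettiKoszul
import Groth.Agent.GrSyz.FiniteLength

/-!
Regularity through graded local cohomology.
-/

set_option autoImplicit false

universe u

namespace Groth.GrSyzLib

open DirectSum GrLC MvPolynomial

noncomputable section

theorem endDeg_le_iff {A : Type u} [AddCommGroup A] (P : ℤ → AddSubgroup A) (d : ℤ) :
    endDeg P ≤ ((d : WithTop ℤ) : WithBot (WithTop ℤ)) ↔ ∀ g, d < g → P g = ⊥ := by
  rw [endDeg, iSup₂_le_iff]
  refine forall_congr' fun g => ?_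
  rw [WithBot.coe_le_coe, WithTop.coe_le_coe]
  exact ⟨fun h hg => not_not.1 fun hne => absurd (h hne) (not_le.2 hg),
    fun h hne => not_lt.1 fun hg => hne (h hg)⟩

theorem add_coe_le_iff (a : WithBot (WithTop ℤ)) (i d : ℤ) :
    a + ((i : WithTop ℤ) : WithBot (WithTop ℤ)) ≤ ((d : WithTop ℤ) : WithBot (WithTop ℤ)) ↔
      a ≤ (((d - i : ℤ) : WithTop ℤ) : WithBot (WithTop ℤ)) := by
  induction a using WithBot.recBotCoe with
  | bot => simp
  | coe a =>
    induction a using WithTop.recTopCoe with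
    | top =>
      rw [← WithBot.coe_add, top_add, WithBot.coe_le_coe, WithBot.coe_le_coe]
      simp
    | coe a =>
      rw [← WithBot.coe_add, ← WithTop.coe_add, WithBot.coe_le_coe, WithBot.coe_le_coe,
        WithTop.coe_le_coe, WithTop.coe_le_coe]
      omega

variable {k : Type u} [Field k] {n : ℕ}
variable {M : Type u} [AddCommGroup M] [Module k M] [Module (MvPolynomial (Fin n) k) M]
  {ℳ : ℤ → Submodule k M} [Decomposition ℳ] [SetLike.GradedSMul (GrSyz.stdGr k (Fin n)) ℳ]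
  (E : StarInjRes (GrSyz.stdGr k (Fin n)) ℳ)

local notation "𝔪" => GrSyz.irrel (GrSyz.stdGr k (Fin n))

/-- Vanishing above the diagonal, for the complex of the first `j` variables. -/
def AllVan (j : ℕ) (d : ℤ) : Prop := ∀ (q : ℕ) (g : ℤ), d - q < g → Van E j q g

variable {E}

theorem allVan_succ {j : ℕ} {d : ℤ} (hj : j < n) : AllVan E (j + 1) d ↔ AllVan E j d := by
  constructor
  · intro h q g hg
    exact Van.down hj fun g' hg' => h q g' (lt_of_lt_of_le hg hg')
  · intro h q g hg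
    exact (h q g hg).up hj fun q' hq => h q' (g + 1) (by subst hq; push_cast at hg; omega)

theorem allVan_iff (d : ℤ) : ∀ j, j ≤ n → (AllVan E j d ↔ AllVan E 0 d)
  | 0, _ => Iff.rfl
  | j + 1, hj => (allVan_succ hj).trans (allVan_iff d j (Nat.le_of_succ_le hj))

theorem allVan_zero_iff (d : ℤ) :
    AllVan E 0 d ↔ ∀ i : ℕ, endDeg (E.Hgr (𝔪) i) + (((i : ℤ) : WithTop ℤ) : WithBot (WithTop ℤ)) ≤
      ((d : WithTop ℤ) : WithBot (WithTop ℤ)) := by
  refine forall_congr' fun i => ?_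
  rw [add_coe_le_iff, endDeg_le_iff]
  refine forall₂_congr fun g hg => ?_
  rw [← hcomp_eq_bot_iff]
  exact ⟨fun h => by rw [StarInjRes.Hgr, h]; rfl, fun h => Submodule.toAddSubgroup_injective h⟩

theorem isGenLE_iff_allVan [Module.Finite (MvPolynomial (Fin n) k) M]
    (F : GrSyz.FreeRes (GrSyz.stdGr k (Fin n)) ℳ) (hF : F.IsMinimal (𝔪).toIdeal) (d : ℤ) :
    F.IsGenLE d ↔ AllVan E 0 d := by
  rw [isGenLE_iff_ex F hF, ← allVan_iff d n le_rfl]
  exact forall₂_congr fun q g => imp_congr_right fun _ => (van_iff_ex q g).symm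

variable (E) in
/-- Weak regularity. -/
def Weak (d : ℤ) : Prop :=
  (∀ g, d < g → Van E 0 0 g) ∧ ∀ q : ℕ, 0 < q → Van E 0 q (d - q + 1)

theorem Weak.diag {d : ℤ} (h : Weak E d) : ∀ j, j ≤ n →
    (∀ g, d < g → Van E j 0 g) ∧ ∀ q : ℕ, 0 < q → Van E j q (d - q + 1)
  | 0, _ => h
  | j + 1, hj => by
    obtain ⟨h0, h1⟩ := Weak.diag h j (Nat.le_of_succ_le hj)
    refine ⟨fun g hg => (h0 g hg).up hj fun q' hq => absurd hq (by omega),
      fun q hq => (h1 q hq).up hj fun q' hq' => ?_⟩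
    subst hq'
    rcases Nat.eq_zero_or_pos q' with rfl | hq''
    · exact h0 _ (by push_cast; omega)
    · rw [show d - ((q' + 1 : ℕ) : ℤ) + 1 + 1 = d - q' + 1 by push_cast; ring]
      exact h1 q' hq''

theorem Weak.diag_two {d : ℤ} (h : Weak E d) : ∀ m j, j + m = n → ∀ q : ℕ, j < q →
    Van E j q (d - q + 2)
  | 0, j, hjm, q, hq => by
    obtain rfl : j = n := by omega
    rw [van_iff_ex]
    intro f hf _
    rw [hf.eq_zero_of_lt hq]
    exact Kos.Bd.zero q
  | m + 1, j, hjm, q, hq => by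
    have h2 := Weak.diag_two h m (j + 1) (by omega) (q + 1) (by omega)
    rw [show d - ((q + 1 : ℕ) : ℤ) + 2 = d - q + 1 by push_cast; ring] at h2
    rw [show d - (q : ℤ) + 2 = d - q + 1 + 1 by ring]
    exact ((h.diag j (by omega)).2 q (by omega)).side (by omega) h2

theorem Weak.succ {d : ℤ} (h : Weak E d) : Weak E (d + 1) :=
  ⟨fun g hg => h.1 g (by omega), fun q hq => by
    rw [show d + 1 - (q : ℤ) + 1 = d - q + 2 by ring]
    exact h.diag_two n 0 (Nat.zero_add n) q hq⟩

theorem Weak.add {d : ℤ} (h : Weak E d) : ∀ t : ℕ, Weak E (d + t)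
  | 0 => by simpa using h
  | t + 1 => by
    rw [Nat.cast_succ, ← add_assoc]
    exact (Weak.add h t).succ

theorem weak_iff_allVan (d : ℤ) : Weak E d ↔ AllVan E 0 d := by
  constructor
  · intro h q g hg
    rcases Nat.eq_zero_or_pos q with rfl | hq
    · exact h.1 g (by simpa using hg)
    · obtain ⟨t, ht⟩ := Int.eq_ofNat_of_zero_le (show 0 ≤ g - (d - q + 1) by omega)
      have := (h.add t).2 q hq
      rwa [show d + (t : ℤ) - q + 1 = g by omega] at this
  · exact fun h => ⟨fun g hg => h 0 g (by simpa using hg), fun q _ => h q _ (by omega)⟩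

end

end Groth.GrSyzLib
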