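import Groth.Agent.GrSyz.Ring
import Groth.Prelude.Def_GrLC

/-!
Graded modules over the polynomial ring: components, graded free modules as graded modules,
minimal homogeneous generators of homogeneous submodules.
-/

set_option autoImplicit false

universe u

namespace Groth.GrSyzLib

noncomputable section

open MvPolynomial DirectSum

variable {k : Type u} [Field k] {σ : Type}


section pr

variable {M : Type*} [AddCommGroup M] [Module k M] (ℳ : ℤ → Submodule k M) [Decomposition ℳ]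

/-- The component of degree `g`. -/
def pr (g : ℤ) : M →ₗ[k] M :=
  (ℳ g).subtype ∘ₗ DirectSum.component k ℤ (fun i => ℳ i) g ∘ₗ (decomposeLinearEquiv ℳ).toLinearMap

theorem pr_apply (g : ℤ) (m : M) : pr ℳ g m = (decompose ℳ m g : M) := rfl

theorem pr_mem (g : ℤ) (m : M) : pr ℳ g m ∈ ℳ g := (decompose ℳ m g).2

theorem pr_of_mem {g : ℤ} {m : M} (h : m ∈ ℳ g) : pr ℳ g m = m := decompose_of_mem_same ℳ h

theorem pr_of_mem_ne {g j : ℤ} {m : M} (h : m ∈ ℳ g) (hne : g ≠ j) : pr ℳ j m = 0 :=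
  decompose_of_mem_ne ℳ h hne

theorem exists_sum_pr (m : M) : ∃ s : Finset ℤ, (∀ g, g ∉ s → pr ℳ g m = 0) ∧
    ∑ g ∈ s, pr ℳ g m = m := by
  classical
  exact ⟨(decompose ℳ m).support, fun g hg => by
    rw [pr_apply, DFinsupp.notMem_support_iff.1 hg, ZeroMemClass.coe_zero],
    sum_support_decompose ℳ m⟩

theorem eq_zero_of_pr {x : M} (h : ∀ g, pr ℳ g x = 0) : x = 0 := by
  obtain ⟨s, -, hs⟩ := exists_sum_pr ℳ x
  rw [← hs]
  exact Finset.sum_eq_zero fun g _ => h g

theorem map_pr {N : Type*} [AddCommGroup N] [Module k N] (𝒩 : ℤ → Submodule k N) [Decomposition 𝒩]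
    (f : M →+ N) (hf : ∀ g m, m ∈ ℳ g → f m ∈ 𝒩 g) (g : ℤ) (m : M) :
    f (pr ℳ g m) = pr 𝒩 g (f m) := by
  induction m using Decomposition.inductionOn ℳ with
  | zero => simp
  | @homogeneous j m =>
    by_cases h : j = g
    · subst h; rw [pr_of_mem ℳ m.2, pr_of_mem 𝒩 (hf _ _ m.2)]
    · rw [pr_of_mem_ne ℳ m.2 h, pr_of_mem_ne 𝒩 (hf _ _ m.2) h, map_zero]
  | add x y hx hy => simp [hx, hy]

variable [Module (MvPolynomial σ k) M] [SetLike.GradedSMul (GrSyz.stdGr k σ) ℳ]

theorem smul_mem' {a g : ℤ} {p : (MvPolynomial σ k)} {m : M} (hp : p ∈ (GrSyz.stdGr k σ) a) (hm : m ∈ ℳ g) : p • m ∈ ℳ (a + g) :=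
  SetLike.GradedSMul.smul_mem hp hm

/-- The component of a multiple of a homogeneous element. -/
theorem pr_smul_right {e : ℤ} {v : M} (hv : v ∈ ℳ e) (c : (MvPolynomial σ k)) (g : ℤ) :
    pr ℳ g (c • v) = pr (GrSyz.stdGr k σ) (g - e) c • v := by
  induction c using Decomposition.inductionOn (GrSyz.stdGr k σ) with
  | zero => simp
  | @homogeneous j c =>
    by_cases h : j = g - e
    · subst h
      rw [pr_of_mem (GrSyz.stdGr k σ) c.2, pr_of_mem ℳ]
      simpa using smul_mem' ℳ c.2 hv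
    · rw [pr_of_mem_ne (GrSyz.stdGr k σ) c.2 h, zero_smul, pr_of_mem_ne ℳ (smul_mem' ℳ c.2 hv) (by omega)]
  | add x y hx hy => simp only [add_smul, map_add, hx, hy]

theorem pr_smul_left {a : ℤ} {p : (MvPolynomial σ k)} (hp : p ∈ (GrSyz.stdGr k σ) a) (g : ℤ) (m : M) :
    pr ℳ g (p • m) = p • pr ℳ (g - a) m := by
  induction m using Decomposition.inductionOn ℳ with
  | zero => simp
  | @homogeneous j m =>
    by_cases h : j = g - a
    · subst h
      rw [pr_of_mem ℳ m.2, pr_of_mem ℳ]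
      simpa using smul_mem' ℳ hp m.2
    · rw [pr_of_mem_ne ℳ m.2 h, smul_zero, pr_of_mem_ne ℳ (smul_mem' ℳ hp m.2) (by omega)]
  | add x y hx hy => simp only [smul_add, map_add, hx, hy]

/-- A submodule containing the components of its elements. -/
def IsHom (K : Submodule (MvPolynomial σ k) M) : Prop := ∀ g, ∀ m ∈ K, pr ℳ g m ∈ K

omit [SetLike.GradedSMul (GrSyz.stdGr k σ) ℳ] in
theorem isHom_top : IsHom ℳ (⊤ : Submodule (MvPolynomial σ k) M) := fun _ _ _ => Submodule.mem_top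

omit [SetLike.GradedSMul (GrSyz.stdGr k σ) ℳ] in
theorem isHom_ker {N : Type*} [AddCommGroup N] [Module k N] [Module (MvPolynomial σ k) N] (𝒩 : ℤ → Submodule k N)
    [Decomposition 𝒩] (f : M →ₗ[(MvPolynomial σ k)] N) (hf : ∀ g m, m ∈ ℳ g → f m ∈ 𝒩 g) :
    IsHom ℳ (LinearMap.ker f) := fun g m hm => by
  rw [LinearMap.mem_ker] at hm ⊢
  have := map_pr ℳ 𝒩 f.toAddMonoidHom hf g m
  simp only [LinearMap.toAddMonoidHom_coe] at this
  rw [this, hm, map_zero]

omit [SetLike.GradedSMul (GrSyz.stdGr k σ) ℳ] in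
theorem isHom_range {N : Type*} [AddCommGroup N] [Module k N] [Module (MvPolynomial σ k) N] (𝒩 : ℤ → Submodule k N)
    [Decomposition 𝒩] (f : M →ₗ[(MvPolynomial σ k)] N) (hf : ∀ g m, m ∈ ℳ g → f m ∈ 𝒩 g) :
    IsHom 𝒩 (LinearMap.range f) := by
  rintro g _ ⟨m, rfl⟩
  exact ⟨pr ℳ g m, map_pr ℳ 𝒩 f.toAddMonoidHom hf g m⟩

/-- A finitely generated homogeneous submodule has a minimal homogeneous generating family. -/
theorem exists_min_gens (K : Submodule (MvPolynomial σ k) M) (hfg : K.FG) (hK : IsHom ℳ K) :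
    ∃ (t : ℕ) (v : Fin t → M) (e : Fin t → ℤ), (∀ j, v j ∈ ℳ (e j)) ∧
      Submodule.span (MvPolynomial σ k) (Set.range v) = K ∧
      ∀ c : Fin t → (MvPolynomial σ k), ∑ j, c j • v j = 0 → ∀ j, c j ∈ (GrSyz.irrel (GrSyz.stdGr k σ)).toIdeal := by
  classical
  let P : ℕ → Prop := fun t => ∃ (v : Fin t → M) (e : Fin t → ℤ),
    (∀ j, v j ∈ ℳ (e j)) ∧ Submodule.span (MvPolynomial σ k) (Set.range v) = K
  let H : Set M := {w | w ∈ K ∧ ∃ g, w ∈ ℳ g}
  have hH : Submodule.span (MvPolynomial σ k) H = K := by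
    refine le_antisymm (Submodule.span_le.2 fun w hw => hw.1) fun c hc => ?_
    obtain ⟨s, -, hs⟩ := exists_sum_pr ℳ c
    rw [← hs]
    exact sum_mem fun g _ => Submodule.subset_span ⟨hK g c hc, g, pr_mem ℳ g c⟩
  have hex : ∃ t, P t := by
    obtain ⟨T, hTH, hT⟩ := (Submodule.fg_span_iff_fg_span_finset_subset H).1 (by rw [hH]; exact hfg)
    rw [hH] at hT
    choose e he using fun w : T => (hTH w.2).2
    refine ⟨T.card, fun j => (T.equivFin.symm j : T), fun j => e (T.equivFin.symm j), fun j => he _, ?_⟩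
    rw [show Set.range (fun j : Fin T.card => ((T.equivFin.symm j : T) : M)) = (T : Set M) from
      Set.Subset.antisymm (Set.range_subset_iff.2 fun j => (T.equivFin.symm j).2)
        (fun w hw => ⟨T.equivFin ⟨w, hw⟩, by simp⟩)]
    exact hT.symm
  obtain ⟨v, e, hv, hspan⟩ := Nat.find_spec hex
  refine ⟨Nat.find hex, v, e, hv, hspan, fun b hb j₀ => ?_⟩
  rw [mem_irrel_iff]
  by_contra hne
  obtain ⟨s, hs⟩ : ∃ s, Nat.find hex = s + 1 := ⟨Nat.find hex - 1, by have := j₀.pos; omega⟩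
  revert j₀ b v e
  rw [hs]
  intro v e hv hspan b hb j₀ hne
  refine Nat.find_min hex (m := s) (by omega) ⟨v ∘ j₀.succAbove, e ∘ j₀.succAbove, fun j => hv _, ?_⟩
  have h := congrArg (pr ℳ (e j₀)) hb
  simp only [map_sum, map_zero, pr_smul_right ℳ (hv _)] at h
  rw [Fin.sum_univ_succAbove _ j₀, sub_self] at h
  have hc : pr (GrSyz.stdGr k σ) 0 (b j₀) = C (constantCoeff (b j₀)) := by
    obtain ⟨t, ht0, ht⟩ := exists_sum_pr (GrSyz.stdGr k σ) (b j₀)
    have hz : ∀ g, g ≠ 0 → constantCoeff (pr (GrSyz.stdGr k σ) g (b j₀)) = 0 := fun g hg =>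
      constantCoeff_eq_zero_of_ne hg (pr_mem (GrSyz.stdGr k σ) g _)
    have hsum : constantCoeff (b j₀) = constantCoeff (pr (GrSyz.stdGr k σ) 0 (b j₀)) := by
      conv_lhs => rw [← ht, map_sum]
      by_cases h0 : (0 : ℤ) ∈ t
      · exact Finset.sum_eq_single 0 (fun g _ hg => hz g hg) fun h' => absurd h0 h'
      · rw [ht0 0 h0, map_zero]
        exact Finset.sum_eq_zero fun g hg => hz g fun h' => h0 (h' ▸ hg)
    rw [hsum]
    exact eq_C_of_mem_zero (pr_mem (GrSyz.stdGr k σ) 0 _)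
  rw [hc] at h
  have hmem : v j₀ ∈ Submodule.span (MvPolynomial σ k) (Set.range (v ∘ j₀.succAbove)) := by
    have h2 : (C (constantCoeff (b j₀)) : (MvPolynomial σ k)) • v j₀ ∈
        Submodule.span (MvPolynomial σ k) (Set.range (v ∘ j₀.succAbove)) := by
      rw [eq_neg_of_add_eq_zero_left h]
      exact neg_mem (sum_mem fun j _ => Submodule.smul_mem _ _ (Submodule.subset_span ⟨j, rfl⟩))
    have h3 := Submodule.smul_mem _ (C ((constantCoeff (b j₀))⁻¹) : (MvPolynomial σ k)) h2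
    rwa [smul_smul, ← C_mul, inv_mul_cancel₀ hne, C_1, one_smul] at h3
  refine le_antisymm ?_ ?_
  · rw [← hspan]
    exact Submodule.span_mono (Set.range_comp_subset_range _ _)
  · rw [← hspan, Submodule.span_le]
    rintro _ ⟨i, rfl⟩
    obtain rfl | ⟨j, rfl⟩ := Fin.eq_self_or_eq_succAbove j₀ i
    · exact hmem
    · exact Submodule.subset_span ⟨j, rfl⟩

end pr

section free

variable {n : ℕ}

/-- The pieces of the free module `(MvPolynomial σ k)^n` with basis degrees `deg`. -/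
def fr (deg : Fin n → ℤ) (g : ℤ) : Submodule k (Fin n → (MvPolynomial σ k)) :=
  ⨅ b, ((GrSyz.stdGr k σ) (g - deg b)).comap (LinearMap.proj b)

theorem mem_fr {deg : Fin n → ℤ} {g : ℤ} {v : Fin n → (MvPolynomial σ k)} :
    v ∈ fr deg g ↔ ∀ b, v b ∈ (GrSyz.stdGr k σ) (g - deg b) := by
  simp [fr, Submodule.mem_iInf]

/-- Componentwise projection. -/
def frPr (deg : Fin n → ℤ) (g : ℤ) : (Fin n → (MvPolynomial σ k)) →ₗ[k] (Fin n → (MvPolynomial σ k)) :=
  LinearMap.pi fun b => pr (GrSyz.stdGr k σ) (g - deg b) ∘ₗ LinearMap.proj b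

theorem single_mem_fr (deg : Fin n → ℤ) {g : ℤ} (b : Fin n) {p : (MvPolynomial σ k)} (hp : p ∈ (GrSyz.stdGr k σ) (g - deg b)) :
    (Pi.single b p : Fin n → (MvPolynomial σ k)) ∈ fr deg g := by
  rw [mem_fr]
  intro b'
  rcases eq_or_ne b' b with rfl | h
  · simpa using hp
  · simp [Pi.single_eq_of_ne h]

theorem fr_isInternal (deg : Fin n → ℤ) : DirectSum.IsInternal (fr (k := k) (σ := σ) deg) := by
  classical
  refine isInternal_submodule_of_iSupIndep_of_iSup_eq_top ?_ ?_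
  · refine iSupIndep_def.2 fun g => Submodule.disjoint_def.2 fun x hx hx' => ?_
    have h1 : frPr deg g x = x := funext fun b => pr_of_mem (GrSyz.stdGr k σ) (mem_fr.1 hx b)
    have h2 : frPr deg g x = 0 := by
      suffices (⨆ (j : ℤ) (_ : j ≠ g), fr deg j) ≤ LinearMap.ker (frPr (k := k) (σ := σ) deg g) from this hx'
      exact iSup₂_le fun j hj v hv => funext fun b =>
        pr_of_mem_ne (GrSyz.stdGr k σ) (mem_fr.1 hv b) (by omega)
    rw [← h1, h2]
  · refine eq_top_iff.2 fun v _ => ?_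
    rw [← Finset.univ_sum_single v]
    refine sum_mem fun b _ => ?_
    obtain ⟨s, -, hs⟩ := exists_sum_pr (GrSyz.stdGr k σ) (v b)
    rw [← hs, ← LinearMap.coe_single k, map_sum]
    exact sum_mem fun j _ => Submodule.mem_iSup_of_mem (j + deg b)
      (single_mem_fr deg b (by simpa using pr_mem (GrSyz.stdGr k σ) j (v b)))

noncomputable instance decompositionFr (deg : Fin n → ℤ) :
    Decomposition (fr (k := k) (σ := σ) deg) :=
  (fr_isInternal deg).chooseDecomposition

instance gradedSMulFr (deg : Fin n → ℤ) : SetLike.GradedSMul (GrSyz.stdGr k σ) (fr (k := k) (σ := σ) deg) where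
  smul_mem := fun {a g p v} hp hv => by
    rw [mem_fr] at hv ⊢
    intro b
    have := SetLike.mul_mem_graded hp (hv b)
    rw [show a + (g - deg b) = a + g - deg b by ring] at this
    simpa using this

theorem pr_fr_apply (deg : Fin n → ℤ) (g : ℤ) (v : Fin n → (MvPolynomial σ k)) (b : Fin n) :
    pr (fr deg) g v b = pr (GrSyz.stdGr k σ) (g - deg b) (v b) := by
  induction v using Decomposition.inductionOn (fr (k := k) (σ := σ) deg) with
  | zero => simp
  | @homogeneous j v =>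
    by_cases h : j = g
    · subst h; rw [pr_of_mem _ v.2, pr_of_mem (GrSyz.stdGr k σ) (mem_fr.1 v.2 b)]
    · rw [pr_of_mem_ne _ v.2 h, Pi.zero_apply, pr_of_mem_ne (GrSyz.stdGr k σ) (mem_fr.1 v.2 b) (by omega)]
  | add x y hx hy => simp [hx, hy]

variable {M : Type*} [AddCommGroup M] [Module k M] [Module (MvPolynomial σ k) M] (ℳ : ℤ → Submodule k M)
  [Decomposition ℳ] [SetLike.GradedSMul (GrSyz.stdGr k σ) ℳ]

/-- A combination of homogeneous elements is a degree-preserving map. -/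
theorem linearCombination_mem {deg : Fin n → ℤ} {aug : Fin n → M} (haug : ∀ b, aug b ∈ ℳ (deg b))
    (g : ℤ) (v : Fin n → (MvPolynomial σ k)) (hv : v ∈ fr deg g) : Fintype.linearCombination (MvPolynomial σ k) aug v ∈ ℳ g := by
  rw [Fintype.linearCombination_apply]
  refine sum_mem fun b _ => ?_
  simpa using smul_mem' ℳ (mem_fr.1 hv b) (haug b)

/-- The matrix of a degree-preserving map of free modules. -/
theorem mulVec_mem {m : ℕ} {deg : Fin n → ℤ} {deg' : Fin m → ℤ} {A : Matrix (Fin n) (Fin m) (MvPolynomial σ k)}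
    (hA : ∀ a b, A a b ∈ (GrSyz.stdGr k σ) (deg' b - deg a)) (g : ℤ) (v : Fin m → (MvPolynomial σ k)) (hv : v ∈ fr deg' g) :
    A.mulVecLin v ∈ fr deg g := by
  rw [mem_fr]
  intro a
  rw [show A.mulVecLin v a = ∑ b, A a b * v b from rfl]
  refine sum_mem fun b _ => ?_
  have := SetLike.mul_mem_graded (hA a b) (mem_fr.1 hv b)
  rwa [show deg' b - deg a + (g - deg' b) = g - deg a by ring] at this

end free

end

end Groth.GrSyzLib
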