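import Groth.Agent.GrSyz.Module

/-!
Graded free resolutions over the polynomial ring: homogeneous matrices and liftings, existence of
minimal resolutions, comparison with the identity, Betti numbers of minimal resolutions.
-/

set_option autoImplicit false

universe u

namespace Groth.GrSyzLib

open MvPolynomial DirectSum Matrix

noncomputable section

variable {k : Type u} [Field k] {σ : Type}

section matrices

variable {n m l : ℕ}

/-- A matrix of a degree-preserving map `S^m → S^n` for the basis degrees `deg'` and `deg`. -/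
def IsHomMat (deg : Fin n → ℤ) (deg' : Fin m → ℤ)
    (A : Matrix (Fin n) (Fin m) (MvPolynomial σ k)) : Prop :=
  ∀ a b, A a b ∈ GrSyz.stdGr k σ (deg' b - deg a)

theorem isHomMat_one (deg : Fin n → ℤ) :
    IsHomMat deg deg (1 : Matrix (Fin n) (Fin n) (MvPolynomial σ k)) := by
  intro a b
  rcases eq_or_ne a b with rfl | h
  · simpa using one_mem'
  · simp [Matrix.one_apply_ne h]

theorem IsHomMat.mul {deg : Fin n → ℤ} {deg' : Fin m → ℤ} {deg'' : Fin l → ℤ}
    {A : Matrix (Fin n) (Fin m) (MvPolynomial σ k)} {B : Matrix (Fin m) (Fin l) (MvPolynomial σ k)}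
    (hA : IsHomMat deg deg' A) (hB : IsHomMat deg' deg'' B) : IsHomMat deg deg'' (A * B) := by
  intro a c
  rw [Matrix.mul_apply]
  refine sum_mem fun b _ => ?_
  have := SetLike.mul_mem_graded (hA a b) (hB b c)
  rwa [show deg' b - deg a + (deg'' c - deg' b) = deg'' c - deg a by ring] at this

theorem IsHomMat.col_mem {deg : Fin n → ℤ} {deg' : Fin m → ℤ}
    {A : Matrix (Fin n) (Fin m) (MvPolynomial σ k)} (hA : IsHomMat deg deg' A) (b : Fin m) :
    A.col b ∈ fr deg (deg' b) :=
  mem_fr.2 fun a => hA a b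

/-- A homogeneous element of the image has a homogeneous preimage. -/
theorem exists_preimage {M N : Type*} [AddCommGroup M] [Module k M]
    [Module (MvPolynomial σ k) M] [AddCommGroup N] [Module k N] [Module (MvPolynomial σ k) N]
    (ℳ : ℤ → Submodule k M) [Decomposition ℳ] (𝒩 : ℤ → Submodule k N) [Decomposition 𝒩]
    (f : M →ₗ[MvPolynomial σ k] N) (hf : ∀ g x, x ∈ ℳ g → f x ∈ 𝒩 g) {g : ℤ} {y : N}
    (hy : y ∈ 𝒩 g) (hy' : y ∈ LinearMap.range f) : ∃ x ∈ ℳ g, f x = y := by
  obtain ⟨x, rfl⟩ := hy'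
  exact ⟨pr ℳ g x, pr_mem ℳ g x, (map_pr ℳ 𝒩 f.toAddMonoidHom hf g x).trans (pr_of_mem 𝒩 hy)⟩

theorem mul_eq_of_col {A : Matrix (Fin n) (Fin m) (MvPolynomial σ k)}
    {X : Matrix (Fin m) (Fin l) (MvPolynomial σ k)} {U : Matrix (Fin n) (Fin l) (MvPolynomial σ k)}
    (h : ∀ b, A.mulVecLin (X.col b) = U.col b) : A * X = U :=
  Matrix.ext fun a b => congrFun (h b) a

theorem col_mul (A : Matrix (Fin n) (Fin m) (MvPolynomial σ k))
    (B : Matrix (Fin m) (Fin l) (MvPolynomial σ k)) (b : Fin l) :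
    (A * B).col b = A.mulVecLin (B.col b) := rfl

/-- Homogeneous lifting through a homogeneous matrix. -/
theorem exists_lift {deg : Fin n → ℤ} {deg' : Fin m → ℤ} {deg'' : Fin l → ℤ}
    {A : Matrix (Fin n) (Fin m) (MvPolynomial σ k)} (hA : IsHomMat deg deg' A)
    {U : Matrix (Fin n) (Fin l) (MvPolynomial σ k)} (hU : IsHomMat deg deg'' U)
    (h : ∀ b, U.col b ∈ LinearMap.range A.mulVecLin) :
    ∃ X : Matrix (Fin m) (Fin l) (MvPolynomial σ k), IsHomMat deg' deg'' X ∧ A * X = U := by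
  choose x hx hx' using fun b =>
    exists_preimage (fr deg') (fr deg) A.mulVecLin (mulVec_mem hA) (hU.col_mem b) (h b)
  exact ⟨Matrix.of fun a b => x b a, fun a b => mem_fr.1 (hx b) a, mul_eq_of_col hx'⟩

/-- Lifting without homogeneity. -/
theorem exists_lift' {A : Matrix (Fin n) (Fin m) (MvPolynomial σ k)}
    {U : Matrix (Fin n) (Fin l) (MvPolynomial σ k)}
    (h : ∀ b, U.col b ∈ LinearMap.range A.mulVecLin) :
    ∃ X : Matrix (Fin m) (Fin l) (MvPolynomial σ k), A * X = U := by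
  choose x hx using h
  exact ⟨Matrix.of fun a b => x b a, mul_eq_of_col hx⟩

theorem mul_entries_mem {A : Matrix (Fin n) (Fin m) (MvPolynomial σ k)}
    {B : Matrix (Fin m) (Fin l) (MvPolynomial σ k)} {I : Ideal (MvPolynomial σ k)}
    (h : (∀ a b, A a b ∈ I) ∨ (∀ b c, B b c ∈ I)) (a : Fin n) (c : Fin l) : (A * B) a c ∈ I := by
  rw [Matrix.mul_apply]
  refine Ideal.sum_mem _ fun b _ => ?_
  rcases h with h | h
  · exact Ideal.mul_mem_right _ _ (h a b)
  · exact Ideal.mul_mem_left _ _ (h b c)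

end matrices

section res

variable {M : Type u} [AddCommGroup M] [Module k M] [Module (MvPolynomial σ k) M]
  {ℳ : ℤ → Submodule k M} [Decomposition ℳ] [SetLike.GradedSMul (GrSyz.stdGr k σ) ℳ]
  (F : GrSyz.FreeRes (GrSyz.stdGr k σ) ℳ)

theorem isHomMat_d (i : ℕ) : IsHomMat (F.deg i) (F.deg (i + 1)) (F.d i) := F.d_mem i

theorem aug_comp_d_col (b : Fin (F.rk 1)) :
    Fintype.linearCombination (MvPolynomial σ k) F.aug ((F.d 0).col b) = 0 := by
  rw [← LinearMap.mem_ker, F.exact_zero]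
  exact ⟨Pi.single b 1, by simp [Matrix.mulVec_single_one]⟩

theorem d_mul_d (i : ℕ) : F.d i * F.d (i + 1) = 0 :=
  mul_eq_of_col fun b => by
    have : (F.d (i + 1)).col b ∈ LinearMap.ker (F.d i).mulVecLin := by
      rw [F.exact_succ]
      exact ⟨Pi.single b 1, by simp [Matrix.mulVec_single_one]⟩
    rw [LinearMap.mem_ker] at this
    rw [this]
    rfl

/-- A piece of the chain map over a degree-preserving map. -/
def ChainPiece {N : Type u} [AddCommGroup N] [Module k N] [Module (MvPolynomial σ k) N]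
    {𝒩 : ℤ → Submodule k N} [Decomposition 𝒩] [SetLike.GradedSMul (GrSyz.stdGr k σ) 𝒩]
    (G : GrSyz.FreeRes (GrSyz.stdGr k σ) 𝒩) (i : ℕ) : Type u :=
  {φ : Matrix (Fin (G.rk i)) (Fin (F.rk i)) (MvPolynomial σ k) //
    IsHomMat (G.deg i) (F.deg i) φ ∧ ∀ b, (φ * F.d i).col b ∈ LinearMap.range (G.d i).mulVecLin}

/-- Chain maps over a degree-preserving map exist. -/
theorem exists_chainMap {N : Type u} [AddCommGroup N] [Module k N] [Module (MvPolynomial σ k) N]
    {𝒩 : ℤ → Submodule k N} [Decomposition 𝒩] [SetLike.GradedSMul (GrSyz.stdGr k σ) 𝒩]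
    (G : GrSyz.FreeRes (GrSyz.stdGr k σ) 𝒩) (f : M →ₗ[MvPolynomial σ k] N)
    (hf : ∀ g x, x ∈ ℳ g → f x ∈ 𝒩 g) :
    ∃ φ : ∀ i, Matrix (Fin (G.rk i)) (Fin (F.rk i)) (MvPolynomial σ k),
      (∀ i, IsHomMat (G.deg i) (F.deg i) (φ i)) ∧
      (∀ b, Fintype.linearCombination (MvPolynomial σ k) G.aug ((φ 0).col b) = f (F.aug b)) ∧
      ∀ i, G.d i * φ (i + 1) = φ i * F.d i := by
  classical
  choose x hx hx' using fun b => exists_preimage (fr (G.deg 0)) 𝒩
    (Fintype.linearCombination (MvPolynomial σ k) G.aug) (linearCombination_mem 𝒩 G.aug_mem)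
    (hf _ _ (F.aug_mem b)) (by rw [LinearMap.range_eq_top.2 G.aug_surjective]; trivial)
  have hlin : Fintype.linearCombination (MvPolynomial σ k) G.aug ∘ₗ
      (Matrix.of fun a b => x b a).mulVecLin =
        f ∘ₗ Fintype.linearCombination (MvPolynomial σ k) F.aug := by
    refine LinearMap.pi_ext' fun b => LinearMap.ext_ring ?_
    simp only [LinearMap.comp_apply, LinearMap.single_apply, Matrix.mulVecLin_apply,
      Matrix.mulVec_single_one, Fintype.linearCombination_apply_single, one_smul]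
    exact hx' b
  let p0 : ChainPiece F G 0 := ⟨Matrix.of fun a b => x b a, fun a b => mem_fr.1 (hx b) a, fun b => by
    rw [← G.exact_zero, LinearMap.mem_ker, col_mul, ← LinearMap.comp_apply, hlin,
      LinearMap.comp_apply, aug_comp_d_col, map_zero]⟩
  have step : ∀ i (p : ChainPiece F G i),
      ∃ q : ChainPiece F G (i + 1), G.d i * q.1 = p.1 * F.d i := by
    intro i p
    obtain ⟨X, hX, hXeq⟩ := exists_lift (isHomMat_d G i) (p.2.1.mul (isHomMat_d F i)) p.2.2
    refine ⟨⟨X, hX, fun b => ?_⟩, hXeq⟩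
    rw [← G.exact_succ, LinearMap.mem_ker, ← col_mul, ← Matrix.mul_assoc, hXeq, Matrix.mul_assoc,
      d_mul_d, Matrix.mul_zero]
    rfl
  choose q hq using step
  let P : ∀ i, ChainPiece F G i := fun i => Nat.rec (motive := ChainPiece F G) p0 q i
  exact ⟨fun i => (P i).1, fun i => (P i).2.1, hx', fun i => hq i (P i)⟩

/-- An endomorphism over the identity of a minimal resolution is the identity modulo the irrelevant
ideal. -/
theorem mem_irrel_of_lift_id (hF : F.IsMinimal (GrSyz.irrel (GrSyz.stdGr k σ)).toIdeal)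
    (α : ∀ i, Matrix (Fin (F.rk i)) (Fin (F.rk i)) (MvPolynomial σ k))
    (h0 : ∀ b, Fintype.linearCombination (MvPolynomial σ k) F.aug ((α 0).col b) = F.aug b)
    (hs : ∀ i, F.d i * α (i + 1) = α i * F.d i) (i : ℕ) (a b : Fin (F.rk i)) :
    (α i - 1) a b ∈ (GrSyz.irrel (GrSyz.stdGr k σ)).toIdeal := by
  classical
  have hcomm : ∀ i, F.d i * (α (i + 1) - 1) = (α i - 1) * F.d i := fun i => by
    rw [Matrix.mul_sub, Matrix.sub_mul, hs, Matrix.mul_one, Matrix.one_mul]
  obtain ⟨h₀, hh₀⟩ := exists_lift' (A := F.d 0) (U := α 0 - 1) (fun b => by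
    rw [← F.exact_zero, LinearMap.mem_ker,
      show (α 0 - 1).col b = (α 0).col b - Pi.single b 1 from by
        ext a; simp [Matrix.col, Matrix.one_apply, Pi.single_apply],
      map_sub, h0, Fintype.linearCombination_apply_single, one_smul, sub_self])
  have key : ∀ i, ∃ h : Matrix (Fin (F.rk (i + 1))) (Fin (F.rk i)) (MvPolynomial σ k),
      ∀ b, (α (i + 1) - 1 - h * F.d i).col b ∈ LinearMap.range (F.d (i + 1)).mulVecLin := by
    intro i
    induction i with
    | zero =>
      refine ⟨h₀, fun b => ?_⟩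
      rw [← F.exact_succ, LinearMap.mem_ker, ← col_mul, Matrix.mul_sub, hcomm,
        ← Matrix.mul_assoc, hh₀, sub_self]
      rfl
    | succ i ih =>
      obtain ⟨h, hh⟩ := ih
      obtain ⟨h', hh'⟩ := exists_lift' hh
      refine ⟨h', fun b => ?_⟩
      rw [← F.exact_succ, LinearMap.mem_ker, ← col_mul, Matrix.mul_sub, hcomm, ← Matrix.mul_assoc,
        hh', ← Matrix.sub_mul, sub_sub_cancel, Matrix.mul_assoc, d_mul_d, Matrix.mul_zero]
      rfl
  cases i with
  | zero =>
    rw [← hh₀]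
    exact mul_entries_mem (Or.inl (hF 0)) a b
  | succ i =>
    obtain ⟨h, hh⟩ := key i
    obtain ⟨h', hh'⟩ := exists_lift' hh
    rw [show α (i + 1) - 1 = h * F.d i + F.d (i + 1) * h' by rw [hh']; abel, Matrix.add_apply]
    exact Ideal.add_mem _ (mul_entries_mem (Or.inr (hF i)) a b)
      (mul_entries_mem (Or.inl (hF (i + 1))) a b)

/-- Minimal resolutions have the smallest graded Betti numbers. -/
theorem betti_le (hF : F.IsMinimal (GrSyz.irrel (GrSyz.stdGr k σ)).toIdeal)
    (G : GrSyz.FreeRes (GrSyz.stdGr k σ) ℳ) (i : ℕ) (j : ℤ) : F.betti i j ≤ G.betti i j := by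
  classical
  obtain ⟨φ, hφ, hφ0, hφs⟩ := exists_chainMap F G LinearMap.id fun _ _ h => h
  obtain ⟨ψ, hψ, hψ0, hψs⟩ := exists_chainMap G F LinearMap.id fun _ _ h => h
  have h0 : ∀ b, Fintype.linearCombination (MvPolynomial σ k) F.aug ((ψ 0 * φ 0).col b) = F.aug b := by
    intro b
    have hlin : Fintype.linearCombination (MvPolynomial σ k) F.aug ∘ₗ (ψ 0).mulVecLin =
        Fintype.linearCombination (MvPolynomial σ k) G.aug := by
      refine LinearMap.pi_ext' fun c => LinearMap.ext_ring ?_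
      simp only [LinearMap.comp_apply, LinearMap.single_apply, Matrix.mulVecLin_apply,
        Matrix.mulVec_single_one, Fintype.linearCombination_apply_single, one_smul]
      exact hψ0 c
    rw [col_mul, ← LinearMap.comp_apply, hlin]
    exact hφ0 b
  have hs : ∀ i, F.d i * (ψ (i + 1) * φ (i + 1)) = ψ i * φ i * F.d i := fun i => by
    rw [← Matrix.mul_assoc, hψs, Matrix.mul_assoc, hφs, Matrix.mul_assoc]
  have hmod := mem_irrel_of_lift_id F hF (fun i => ψ i * φ i) h0 hs i
  set J : Finset (Fin (F.rk i)) := Finset.univ.filter fun b => F.deg i b = j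
  set J' : Finset (Fin (G.rk i)) := Finset.univ.filter fun b => G.deg i b = j
  let P : Matrix J J' k := Matrix.of fun a c => constantCoeff (ψ i a.1 c.1)
  let Q : Matrix J' J k := Matrix.of fun c b => constantCoeff (φ i c.1 b.1)
  have hPQ : P * Q = 1 := by
    ext a b
    have h1 := mem_irrel_iff.1 (hmod a.1 b.1)
    rw [Matrix.sub_apply, map_sub, sub_eq_zero, Matrix.mul_apply, map_sum] at h1
    rw [Matrix.mul_apply]
    show (∑ c : J', constantCoeff (ψ i a.1 c.1) * constantCoeff (φ i c.1 b.1)) = _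
    rw [Finset.sum_coe_sort J' fun c => constantCoeff (ψ i a.1 c) * constantCoeff (φ i c b.1)]
    simp only [map_mul] at h1
    rw [Finset.sum_subset (Finset.subset_univ J') fun c _ hc => ?_, h1]
    · rcases eq_or_ne a b with rfl | hab
      · rw [Matrix.one_apply_eq, Matrix.one_apply_eq, map_one]
      · rw [Matrix.one_apply_ne hab, Matrix.one_apply_ne fun h => hab (Subtype.ext h), map_zero]
    · have hne : F.deg i b.1 - G.deg i c ≠ 0 := by
        have hb := (Finset.mem_filter.1 b.2).2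
        intro h
        exact hc (Finset.mem_filter.2 ⟨Finset.mem_univ _, by omega⟩)
      rw [constantCoeff_eq_zero_of_ne hne (hφ i c b.1), mul_zero]
  have hinj : Function.Injective Q.mulVecLin := Function.LeftInverse.injective (g := P.mulVecLin)
    fun v => by simp [Matrix.mulVec_mulVec, hPQ]
  have := LinearMap.finrank_le_finrank_of_injective hinj
  rw [Module.finrank_fintype_fun_eq_card, Module.finrank_fintype_fun_eq_card, Fintype.card_coe,
    Fintype.card_coe] at this
  exact this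

theorem betti_eq (hF : F.IsMinimal (GrSyz.irrel (GrSyz.stdGr k σ)).toIdeal)
    (G : GrSyz.FreeRes (GrSyz.stdGr k σ) ℳ) (hG : G.IsMinimal (GrSyz.irrel (GrSyz.stdGr k σ)).toIdeal)
    (i : ℕ) (j : ℤ) : F.betti i j = G.betti i j :=
  le_antisymm (betti_le F hF G i j) (betti_le G hG F i j)

theorem exists_deg_eq (hF : F.IsMinimal (GrSyz.irrel (GrSyz.stdGr k σ)).toIdeal)
    (G : GrSyz.FreeRes (GrSyz.stdGr k σ) ℳ) (i : ℕ) (b : Fin (F.rk i)) :
    ∃ c, G.deg i c = F.deg i b := by
  have hpos : 0 < F.betti i (F.deg i b) :=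
    Finset.card_pos.2 ⟨b, Finset.mem_filter.2 ⟨Finset.mem_univ _, rfl⟩⟩
  obtain ⟨c, hc⟩ := Finset.card_pos.1 (lt_of_lt_of_le hpos (betti_le F hF G i _))
  exact ⟨c, (Finset.mem_filter.1 hc).2⟩

theorem isGenLE_of_isGenLE (hF : F.IsMinimal (GrSyz.irrel (GrSyz.stdGr k σ)).toIdeal)
    (G : GrSyz.FreeRes (GrSyz.stdGr k σ) ℳ) {r : ℤ} (hG : G.IsGenLE r) : F.IsGenLE r := fun i b => by
  obtain ⟨c, hc⟩ := exists_deg_eq F hF G i b
  exact hc ▸ hG i c

end res

section existence

/-- A term of a minimal resolution together with the submodule still to be covered. -/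
structure Stage (k : Type u) [Field k] (σ : Type) where
  n : ℕ
  deg : Fin n → ℤ
  K : Submodule (MvPolynomial σ k) (Fin n → MvPolynomial σ k)
  hK : IsHom (fr deg) K
  hmin : ∀ w ∈ K, ∀ a, w a ∈ (GrSyz.irrel (GrSyz.stdGr k σ)).toIdeal

variable [Finite σ]

theorem exists_next (s : Stage k σ) :
    ∃ (t : Stage k σ) (A : Matrix (Fin s.n) (Fin t.n) (MvPolynomial σ k)),
      IsHomMat s.deg t.deg A ∧ LinearMap.range A.mulVecLin = s.K ∧ LinearMap.ker A.mulVecLin = t.K := by
  obtain ⟨t, v, e, hv, hspan, hrel⟩ :=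
    exists_min_gens (fr s.deg) s.K (IsNoetherian.noetherian _) s.hK
  let A : Matrix (Fin s.n) (Fin t) (MvPolynomial σ k) := Matrix.of fun a b => v b a
  have hA : IsHomMat s.deg e A := fun a b => mem_fr.1 (hv b) a
  refine ⟨⟨t, e, LinearMap.ker A.mulVecLin, isHom_ker (fr e) (fr s.deg) _ (mulVec_mem hA),
    fun w hw => hrel w (funext fun a => ?_)⟩, A, hA, ?_, rfl⟩
  · have := congrFun (LinearMap.mem_ker.1 hw) a
    simpa [A, Matrix.mulVec, dotProduct, mul_comm] using this
  · rw [Matrix.range_mulVecLin, ← hspan]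
    rfl

theorem exists_minimal (M : Type u) [AddCommGroup M] [Module k M] [Module (MvPolynomial σ k) M]
    [Module.Finite (MvPolynomial σ k) M] (ℳ : ℤ → Submodule k M) [Decomposition ℳ]
    [SetLike.GradedSMul (GrSyz.stdGr k σ) ℳ] :
    ∃ F : GrSyz.FreeRes (GrSyz.stdGr k σ) ℳ,
      F.IsMinimal (GrSyz.irrel (GrSyz.stdGr k σ)).toIdeal := by
  classical
  obtain ⟨t, v, e, hv, hspan, hrel⟩ :=
    exists_min_gens ℳ (⊤ : Submodule (MvPolynomial σ k) M) Module.Finite.fg_top (isHom_top ℳ)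
  choose next A hA hrange hker using exists_next (k := k) (σ := σ)
  let s0 : Stage k σ := ⟨t, e, LinearMap.ker (Fintype.linearCombination (MvPolynomial σ k) v),
    isHom_ker (fr e) ℳ _ (linearCombination_mem ℳ hv),
    fun w hw => hrel w (by rw [← Fintype.linearCombination_apply]; exact hw)⟩
  let st : ℕ → Stage k σ := fun i => Nat.rec s0 (fun _ s => next s) i
  refine ⟨⟨fun i => (st i).n, fun i => (st i).deg, fun i => A (st i), v, fun i => hA (st i), hv,
    ?_, (hrange s0).symm, fun i => (hker (st i)).trans (hrange (st (i + 1))).symm⟩,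
    fun i a b => ?_⟩
  · rw [← LinearMap.range_eq_top, Fintype.range_linearCombination, hspan]
  · exact (st i).hmin ((A (st i)).col b) ((hrange (st i)).le ⟨Pi.single b 1, by
      simp [Matrix.mulVec_single_one]⟩) a

theorem isRegLE_of_isGenLE {M : Type u} [AddCommGroup M] [Module k M] [Module (MvPolynomial σ k) M]
    [Module.Finite (MvPolynomial σ k) M] {ℳ : ℤ → Submodule k M} [Decomposition ℳ]
    [SetLike.GradedSMul (GrSyz.stdGr k σ) ℳ] (G : GrSyz.FreeRes (GrSyz.stdGr k σ) ℳ) {r : ℤ}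
    (hG : G.IsGenLE r) :
    GrSyz.IsRegLE (GrSyz.stdGr k σ) ℳ (GrSyz.irrel (GrSyz.stdGr k σ)).toIdeal r := by
  obtain ⟨F, hF⟩ := exists_minimal (k := k) (σ := σ) M ℳ
  exact ⟨F, hF, isGenLE_of_isGenLE F hF G hG⟩

end existence

end

end Groth.GrSyzLib
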