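import Groth.Agent.GrSyz.Res

/-!
Minimal resolutions starting from prescribed minimal generators.
-/

set_option autoImplicit false

universe u

namespace Groth.GrSyzLib

open MvPolynomial DirectSum

noncomputable section

variable {k : Type u} [Field k] {σ : Type} [Finite σ]

/-- Homogeneous generators whose relations lie in the irrelevant ideal begin a minimal
resolution. -/
theorem exists_minimal_of_gens {M : Type u} [AddCommGroup M] [Module k M]
    [Module (MvPolynomial σ k) M] (ℳ : ℤ → Submodule k M) [Decomposition ℳ]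
    [SetLike.GradedSMul (GrSyz.stdGr k σ) ℳ] {t : ℕ} (v : Fin t → M) (e : Fin t → ℤ)
    (hv : ∀ b, v b ∈ ℳ (e b))
    (hsurj : Function.Surjective (Fintype.linearCombination (MvPolynomial σ k) v))
    (hrel : ∀ w ∈ LinearMap.ker (Fintype.linearCombination (MvPolynomial σ k) v),
      ∀ a, w a ∈ (GrSyz.irrel (GrSyz.stdGr k σ)).toIdeal) :
    ∃ F : GrSyz.FreeRes (GrSyz.stdGr k σ) ℳ,
      F.IsMinimal (GrSyz.irrel (GrSyz.stdGr k σ)).toIdeal ∧ F.rk 0 = t ∧
      ∀ j, F.betti 0 j = (Finset.univ.filter fun b => e b = j).card := by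
  classical
  choose next A hA hrange hker using exists_next (k := k) (σ := σ)
  let s0 : Stage k σ := ⟨t, e, LinearMap.ker (Fintype.linearCombination (MvPolynomial σ k) v),
    isHom_ker (fr e) ℳ _ (linearCombination_mem ℳ hv), hrel⟩
  let st : ℕ → Stage k σ := fun i => Nat.rec s0 (fun _ s => next s) i
  exact ⟨⟨fun i => (st i).n, fun i => (st i).deg, fun i => A (st i), v, fun i => hA (st i), hv,
    hsurj, (hrange s0).symm, fun i => (hker (st i)).trans (hrange (st (i + 1))).symm⟩,
    fun i a b => (st i).hmin ((A (st i)).col b) ((hrange (st i)).le ⟨Pi.single b 1, by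
      simp [Matrix.mulVec_single_one]⟩) a, rfl, fun _ => rfl⟩

theorem exists_ne_zero_entry {M : Type u} [AddCommGroup M] [Module k M]
    [Module (MvPolynomial σ k) M] {ℳ : ℤ → Submodule k M} [Decomposition ℳ]
    [SetLike.GradedSMul (GrSyz.stdGr k σ) ℳ] (F : GrSyz.FreeRes (GrSyz.stdGr k σ) ℳ)
    (hF : F.IsMinimal (GrSyz.irrel (GrSyz.stdGr k σ)).toIdeal) (i : ℕ) (b : Fin (F.rk (i + 1))) :
    ∃ a, F.d i a b ≠ 0 := by
  by_contra hz
  push Not at hz
  have hk : Pi.single b 1 ∈ LinearMap.ker (F.d i).mulVecLin := by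
    rw [LinearMap.mem_ker, Matrix.mulVecLin_apply, Matrix.mulVec_single_one]
    exact funext hz
  rw [F.exact_succ] at hk
  obtain ⟨w, hw⟩ := hk
  have h1 := congrFun hw b
  rw [Matrix.mulVecLin_apply, Matrix.mulVec, dotProduct, Pi.single_eq_same] at h1
  exact one_notMem_irrel (h1 ▸ Ideal.sum_mem _ fun c _ => Ideal.mul_mem_right _ _ (hF (i + 1) b c))

end

end Groth.GrSyzLib
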