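import Groth.Agent.GrSyz.Koszul
import Groth.Agent.GrSyz.Module
import Groth.Agent.GrMod.Basic
import Groth.Prelude.Def_GrLC
import Mathlib.RingTheory.MvPolynomial.Ideal

/-!
Koszul cohomology and graded local cohomology from a resolution by *injectives.
-/

set_option autoImplicit false

universe u

namespace Groth.GrSyzLib

open DirectSum GrLC MvPolynomial

noncomputable section

section div

variable {R : Type u} [CommRing R] {τ : Type u} [SetLike τ R] [AddSubgroupClass τ R] (𝒜 : ℤ → τ)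
  [GradedRing 𝒜]

/-- The pieces of the ring with the unit in degree `g`. -/
def shiftPc (g e : ℤ) : AddSubgroup R := AddSubgroup.ofClass (𝒜 (e - g))

open Classical in
theorem shiftPc_isInternal (g : ℤ) : DirectSum.IsInternal (shiftPc 𝒜 g) := by
  refine GrothGr.isInternal_of _ (fun x => ?_) fun s v hv hsum e he => ?_
  · rw [← sum_support_decompose 𝒜 x]
    refine sum_mem fun a _ => AddSubgroup.mem_iSup_of_mem (a + g) ?_
    show (decompose 𝒜 x a : R) ∈ 𝒜 (a + g - g)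
    rw [add_sub_cancel_right]
    exact (decompose 𝒜 x a).2
  · have h := congrArg (GradedRing.proj 𝒜 (e - g)) hsum
    rw [map_sum, map_zero, Finset.sum_eq_single e ?_ fun h => absurd he h] at h
    · rwa [GradedRing.proj_apply, decompose_of_mem_same 𝒜 (hv e)] at h
    · intro b _ hb
      rw [GradedRing.proj_apply]
      exact decompose_of_mem_ne 𝒜 (hv b) (by omega)

instance shiftPc_gradedSMul (g : ℤ) : SetLike.GradedSMul 𝒜 (shiftPc 𝒜 g) where
  smul_mem := fun {a e r m} hr hm => by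
    show r * m ∈ 𝒜 (a + e - g)
    have := SetLike.mul_mem_graded hr (show m ∈ 𝒜 (e - g) from hm)
    rwa [← add_sub_assoc] at this

instance shiftPc_decomposition (g : ℤ) : Decomposition (shiftPc 𝒜 g) :=
  (shiftPc_isInternal 𝒜 g).chooseDecomposition

theorem shiftPc_homogeneous (g : ℤ) {J : Ideal R} (hJ : J.IsHomogeneous 𝒜) :
    Submodule.IsHomogeneous J (shiftPc 𝒜 g) := by
  intro e m hm
  rw [← GrothGr.pr_apply]
  have : ∀ x : R, GrothGr.pr (shiftPc 𝒜 g) e x = (decompose 𝒜 x (e - g) : R) := by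
    intro x
    induction x using Decomposition.inductionOn 𝒜 with
    | zero => simp
    | @homogeneous a x =>
      have hx : (x : R) ∈ shiftPc 𝒜 g (a + g) := by
        show (x : R) ∈ 𝒜 (a + g - g)
        rw [add_sub_cancel_right]
        exact x.2
      by_cases h : a = e - g
      · subst h
        rw [decompose_of_mem_same 𝒜 x.2]
        rw [show e - g + g = e by ring] at hx
        exact GrothGr.pr_of_mem _ hx
      · rw [decompose_of_mem_ne 𝒜 x.2 h]
        exact GrothGr.pr_of_mem_ne _ hx (by omega)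
    | add a b ha hb => simp [ha, hb]
  rw [this]
  exact hJ (e - g) hm

/-- Divisibility in a *injective module. -/
theorem exists_div (X : GMod.{u} 𝒜) (hX : IsStarInj 𝒜 X.gr) {J : Ideal R} (hJ : J.IsHomogeneous 𝒜)
    {y : R} (hy : y ∈ 𝒜 1) {g : ℤ} {z : X.carrier} (hz : z ∈ X.gr (g + 1))
    (h : ∀ s, y * s ∈ J → s • z = 0) :
    ∃ w ∈ X.gr g, (∀ s ∈ J, s • w = 0) ∧ y • w = z := by
  let L : R →ₗ[R] R := LinearMap.toSpanSingleton R R y
  have hL : IsGrHom (shiftPc 𝒜 (g + 1)) (shiftPc 𝒜 g) L := fun e r hr => by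
    show r * y ∈ 𝒜 (e - g)
    have := SetLike.mul_mem_graded (show r ∈ 𝒜 (e - (g + 1)) from hr) hy
    rwa [show e - (g + 1) + 1 = e - g by ring] at this
  let J' : Submodule R R := Submodule.comap L J
  have hJs := shiftPc_homogeneous 𝒜 g hJ
  have hJ's : J'.IsHomogeneous (shiftPc 𝒜 (g + 1)) := GrothGr.isHomogeneous_comap hL hJs
  let A : GMod.{u} 𝒜 := GrothGr.quot 𝒜 (shiftPc 𝒜 (g + 1)) hJ's
  let B : GMod.{u} 𝒜 := GrothGr.quot 𝒜 (shiftPc 𝒜 g) hJs
  let f : A.carrier →ₗ[R] B.carrier := Submodule.mapQ J' J L le_rfl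
  have hf : IsGrHom A.gr B.gr f := by
    rintro e _ ⟨r, hr, rfl⟩
    exact ⟨L r, hL e r hr, rfl⟩
  have hfi : Function.Injective f := by
    rw [injective_iff_map_eq_zero]
    intro a ha
    obtain ⟨r, rfl⟩ := Submodule.Quotient.mk_surjective J' a
    exact (Submodule.Quotient.mk_eq_zero J').2 ((Submodule.Quotient.mk_eq_zero J).1 ha)
  let φ : A.carrier →ₗ[R] X.carrier :=
    Submodule.liftQ J' (LinearMap.toSpanSingleton R X.carrier z) fun r hr =>
      h r (by rw [mul_comm]; exact hr)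
  have hφ : IsGrHom A.gr X.gr φ := by
    rintro e _ ⟨r, hr, rfl⟩
    show r • z ∈ X.gr e
    have := GrothGr.smul_mem X.gr 𝒜 (show r ∈ 𝒜 (e - (g + 1)) from hr) hz
    rwa [sub_add_cancel] at this
  obtain ⟨ψ, hψ, hψf⟩ := hX A B f hf hfi φ hφ
  have h1 : (1 : R) ∈ shiftPc 𝒜 g g := by
    show (1 : R) ∈ 𝒜 (g - g)
    rw [sub_self]
    exact SetLike.one_mem_graded 𝒜
  have key : ∀ s : R, s • ψ (Submodule.Quotient.mk 1) = ψ (Submodule.Quotient.mk s) := fun s =>
    (map_smul ψ s _).symm.trans (congrArg ψ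
      (show s • (Submodule.Quotient.mk 1 : R ⧸ J) = Submodule.Quotient.mk s by
        rw [← Submodule.Quotient.mk_smul, smul_eq_mul, mul_one]))
  refine ⟨ψ (Submodule.Quotient.mk 1), hψ g _ ⟨1, h1, rfl⟩, fun s hs => ?_, ?_⟩
  · exact (key s).trans ((congrArg ψ ((Submodule.Quotient.mk_eq_zero J).2 hs)).trans (map_zero ψ))
  · calc y • ψ (Submodule.Quotient.mk 1)
        = ψ (f (Submodule.Quotient.mk 1)) :=
          (key y).trans (congrArg (fun t => ψ (Submodule.Quotient.mk t)) (one_mul y).symm)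
      _ = φ (Submodule.Quotient.mk 1) := LinearMap.congr_fun hψf _
      _ = z := one_smul R z

end div

section poly

variable {k : Type u} [Field k] {n : ℕ}

local notation "S" => MvPolynomial (Fin n) k
local notation "𝒮" => GrSyz.stdGr k (Fin n)
local notation "𝔪" => GrSyz.irrel (GrSyz.stdGr k (Fin n))

variable (k n) in
/-- The variables as a sequence. -/
def xs (v : ℕ) : MvPolynomial (Fin n) k := if h : v < n then X ⟨v, h⟩ else 0

theorem xs_of_lt {v : ℕ} (h : v < n) : xs k n v = X ⟨v, h⟩ := dif_pos h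

theorem xs_mem (v : ℕ) : xs k n v ∈ 𝒮 1 := by
  unfold xs
  split_ifs
  · exact X_mem _
  · exact zero_mem _

theorem irrel_eq_idealOfVars : (𝔪).toIdeal = idealOfVars (Fin n) k := by
  ext p
  rw [mem_irrel_iff]
  have h1 := mem_pow_idealOfVars_iff' (σ := Fin n) (R := k) 1 p
  rw [pow_one] at h1
  rw [h1, constantCoeff_eq]
  refine ⟨fun h m hm => ?_, fun h => h 0 (by simp)⟩
  rwa [(Finsupp.degree_eq_zero_iff m).1 (by omega)]

theorem xs_mem_irrel (v : ℕ) : xs k n v ∈ (𝔪).toIdeal := by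
  rw [mem_irrel_iff]
  unfold xs
  split_ifs <;> simp

/-- A monomial ideal. -/
def jid (j : ℕ) (P : ℕ → Prop) : Ideal S :=
  Ideal.span ((fun m => monomial m (1 : k)) ''
    {m : Fin n →₀ ℕ | (∃ i : Fin n, (i : ℕ) < j ∧ m i ≠ 0) ∨ P m.degree})

theorem mem_jid {j : ℕ} {P : ℕ → Prop} (hP : ∀ a b, a ≤ b → P a → P b) {p : S} :
    p ∈ jid (k := k) j P ↔
      ∀ m ∈ p.support, (∃ i : Fin n, (i : ℕ) < j ∧ m i ≠ 0) ∨ P m.degree := by
  rw [jid, mem_ideal_span_monomial_image]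
  refine forall₂_congr fun m _ => ⟨?_, fun h => ⟨m, h, le_rfl⟩⟩
  rintro ⟨m', h | h, hle⟩
  · obtain ⟨i, hi, hne⟩ := h
    refine Or.inl ⟨i, hi, ?_⟩
    have := hle i
    omega
  · exact Or.inr (hP _ _ (Finsupp.degree_mono hle) h)

theorem jid_homogeneous (j : ℕ) (P : ℕ → Prop) : (jid (k := k) (n := n) j P).IsHomogeneous 𝒮 := by
  refine Ideal.homogeneous_span _ _ ?_
  rintro _ ⟨m, -, rfl⟩
  refine ⟨(m.degree : ℤ), mem_stdGr_iff'.2 fun m' hm' => ?_⟩
  classical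
  rw [coeff_monomial] at hm'
  split_ifs at hm' with e
  · rw [e]
  · exact absurd rfl hm'

theorem jid_colon {j : ℕ} (hj : j < n) {P : ℕ → Prop} (hP : ∀ a b, a ≤ b → P a → P b) {s : S}
    (hs : xs k n j * s ∈ jid j P) : s ∈ jid j fun d => P (d + 1) := by
  rw [mem_jid hP] at hs
  rw [mem_jid fun a b h => hP _ _ (by omega)]
  intro m hm
  have hm' : Finsupp.single (⟨j, hj⟩ : Fin n) 1 + m ∈ (xs k n j * s).support := by
    rw [xs_of_lt hj, support_X_mul]
    exact Finset.mem_map.2 ⟨m, hm, rfl⟩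
  rcases hs _ hm' with ⟨i, hi, hne⟩ | h
  · refine Or.inl ⟨i, hi, ?_⟩
    have hij : (⟨j, hj⟩ : Fin n) ≠ i := fun e => by simp [← e] at hi
    rwa [Finsupp.add_apply, Finsupp.single_eq_of_ne' hij, zero_add] at hne
  · refine Or.inr ?_
    rw [map_add, Finsupp.degree_single] at h
    rwa [add_comm] at h

variable {X : GMod.{u} (GrSyz.stdGr k (Fin n))}

theorem xs_smul_mem (X : GMod.{u} (GrSyz.stdGr k (Fin n))) (v : ℕ) (g : ℤ) (z : X.carrier)
    (hz : z ∈ X.gr g) : xs k n v • z ∈ X.gr (g + 1) := by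
  rw [add_comm g]
  exact GrothGr.smul_mem X.gr 𝒮 (xs_mem v) hz

theorem jid_le_of_kills {j : ℕ} {P : ℕ → Prop} {z : X.carrier}
    (hk : ∀ i < j, xs k n i • z = 0)
    (hm : ∀ m : Fin n →₀ ℕ, P m.degree → monomial m (1 : k) • z = 0) :
    ∀ s ∈ jid (k := k) (n := n) j P, s • z = 0 := by
  suffices jid j P ≤ LinearMap.ker (LinearMap.toSpanSingleton S X.carrier z) from fun s hs => this hs
  refine Ideal.span_le.2 ?_
  rintro _ ⟨m, ⟨i, hi, hne⟩ | hP, rfl⟩
  · show monomial m (1 : k) • z = 0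
    have hle : Finsupp.single i 1 ≤ m := Finsupp.single_le_iff.2 (Nat.pos_of_ne_zero hne)
    have he : monomial m (1 : k) = monomial (m - Finsupp.single i 1) 1 * MvPolynomial.X i := by
      rw [MvPolynomial.X, monomial_mul, one_mul, tsub_add_cancel_of_le hle]
    have hx := hk i hi
    rw [xs_of_lt i.2] at hx
    rw [he, mul_smul, hx, smul_zero]
  · exact hm m hP

theorem exists_div_jid (hX : IsStarInj 𝒮 X.gr) {j : ℕ} (hj : j < n) {P : ℕ → Prop}
    (hP : ∀ a b, a ≤ b → P a → P b) {g : ℤ} {z : X.carrier} (hz : z ∈ X.gr (g + 1))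
    (hk : ∀ i < j, xs k n i • z = 0)
    (hm : ∀ m : Fin n →₀ ℕ, P (m.degree + 1) → monomial m (1 : k) • z = 0) :
    ∃ w ∈ X.gr g, (∀ i < j, xs k n i • w = 0) ∧ xs k n j • w = z ∧
      ∀ s ∈ jid (k := k) (n := n) j P, s • w = 0 := by
  obtain ⟨w, hw, hJw, hwz⟩ := exists_div 𝒮 X hX (jid_homogeneous j P) (xs_mem j) hz fun s hs =>
    jid_le_of_kills (P := fun d => P (d + 1)) hk hm s (jid_colon hj hP hs)
  refine ⟨w, hw, fun i hi => hJw _ ?_, hwz, hJw⟩
  rw [xs_of_lt (hi.trans hj), MvPolynomial.X]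
  exact Ideal.subset_span ⟨_, Or.inl ⟨⟨i, hi.trans hj⟩, hi, by simp⟩, rfl⟩

theorem exists_div_gr (hX : IsStarInj 𝒮 X.gr) {j : ℕ} (hj : j < n) {g : ℤ} {z : X.carrier}
    (hz : z ∈ X.gr (g + 1)) (hk : ∀ i < j, xs k n i • z = 0) :
    ∃ w ∈ X.gr g, (∀ i < j, xs k n i • w = 0) ∧ xs k n j • w = z := by
  obtain ⟨w, h1, h2, h3, -⟩ := exists_div_jid (P := fun _ => False) hX hj (fun _ _ _ h => h.elim)
    hz hk fun _ h => h.elim
  exact ⟨w, h1, h2, h3⟩

theorem exists_div_gam (hX : IsStarInj 𝒮 X.gr) {j : ℕ} (hj : j < n) {g : ℤ} {z : X.carrier}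
    (hz : z ∈ X.gr (g + 1)) (hk : ∀ i < j, xs k n i • z = 0)
    (ht : z ∈ gam (𝔪).toIdeal X.carrier) :
    ∃ w ∈ X.gr g, w ∈ gam (𝔪).toIdeal X.carrier ∧ (∀ i < j, xs k n i • w = 0) ∧
      xs k n j • w = z := by
  obtain ⟨N, hN⟩ := ht
  obtain ⟨w, h1, h2, h3, h4⟩ := exists_div_jid (P := fun d => N + 1 ≤ d) hX hj
    (fun _ _ h h' => h'.trans h) hz hk fun m hm => hN _ (by
      rw [irrel_eq_idealOfVars, monomial_mem_pow_idealOfVars_iff N m one_ne_zero]
      omega)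
  refine ⟨w, h1, ⟨N + 1, fun r hr => h4 r ?_⟩, h2, h3⟩
  rw [mem_jid fun _ _ h h' => h'.trans h]
  rw [irrel_eq_idealOfVars, mem_pow_idealOfVars_iff] at hr
  exact fun m hm => Or.inr (hr m hm)

theorem gam_of_killed {z : X.carrier} (hk : ∀ i < n, xs k n i • z = 0) :
    z ∈ gam (𝔪).toIdeal X.carrier := by
  refine ⟨1, fun r hr => ?_⟩
  rw [pow_one, irrel_eq_idealOfVars] at hr
  suffices idealOfVars (Fin n) k ≤ LinearMap.ker (LinearMap.toSpanSingleton S X.carrier z) from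
    this hr
  refine Ideal.span_le.2 ?_
  rintro _ ⟨i, rfl⟩
  show (MvPolynomial.X i : S) • z = 0
  rw [← xs_of_lt i.2]
  exact hk i i.2

theorem pr_mem_gam {g : ℤ} {z : X.carrier} (hz : z ∈ gam (𝔪).toIdeal X.carrier) :
    GrothGr.pr X.gr g z ∈ gam (𝔪).toIdeal X.carrier := by
  classical
  obtain ⟨N, hN⟩ := hz
  have hpow : ∀ N : ℕ, ((𝔪).toIdeal ^ N).IsHomogeneous 𝒮 := by
    intro N
    induction N with
    | zero => rw [pow_zero, Ideal.one_eq_top]; exact Ideal.IsHomogeneous.top _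
    | succ N ih => rw [pow_succ]; exact ih.mul (HomogeneousIdeal.isHomogeneous _)
  refine ⟨N, fun r hr => ?_⟩
  rw [← sum_support_decompose 𝒮 r, Finset.sum_smul]
  refine Finset.sum_eq_zero fun c _ => ?_
  rw [← GrothGr.pr_smul_add X.gr 𝒮 (decompose 𝒮 r c).2, hN _ (hpow N c hr), map_zero]

variable {M : Type u} [AddCommGroup M] [Module k M] [Module (MvPolynomial (Fin n) k) M]
  {ℳ : ℤ → Submodule k M} [Decomposition ℳ] [SetLike.GradedSMul (GrSyz.stdGr k (Fin n)) ℳ]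
  (E : StarInjRes (GrSyz.stdGr k (Fin n)) ℳ)

/-- Torsion elements of degree `g` killed by the first `j` variables. -/
def Kl (j q : ℕ) (g : ℤ) (z : (E.X q).carrier) : Prop :=
  z ∈ (E.X q).gr g ∧ z ∈ gam (𝔪).toIdeal (E.X q).carrier ∧ ∀ i < j, xs k n i • z = 0

/-- A cochain is a coboundary. -/
def IsB (j : ℕ) : (q : ℕ) → ℤ → (E.X q).carrier → Prop
  | 0, _, z => z = 0
  | q + 1, g, z => ∃ y, Kl E j q g y ∧ E.d q y = z

/-- Vanishing of the cohomology of the complex of torsion elements killed by the first `j`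
variables. -/
def Van (j q : ℕ) (g : ℤ) : Prop := ∀ z, Kl E j q g z → E.d q z = 0 → IsB E j q g z

variable {E}

theorem d_d (q : ℕ) (y : (E.X q).carrier) : E.d (q + 1) (E.d q y) = 0 :=
  LinearMap.mem_ker.1 (by rw [E.exact_succ q]; exact ⟨y, rfl⟩)

theorem Kl.map {j q : ℕ} {g : ℤ} {y : (E.X q).carrier} (h : Kl E j q g y) :
    Kl E j (q + 1) g (E.d q y) := by
  obtain ⟨N, hN⟩ := h.2.1
  exact ⟨E.d_grHom q g y h.1, ⟨N, fun r hr => by rw [← map_smul, hN r hr, map_zero]⟩,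
    fun i hi => by rw [← map_smul, h.2.2 i hi, map_zero]⟩

theorem Kl.smul {j q : ℕ} {g : ℤ} {y : (E.X q).carrier} (h : Kl E j q g y) (v : ℕ) :
    Kl E j q (g + 1) (xs k n v • y) :=
  ⟨xs_smul_mem _ v g y h.1, Submodule.smul_mem _ _ h.2.1,
    fun i hi => by rw [smul_comm, h.2.2 i hi, smul_zero]⟩

theorem Kl.sub {j q : ℕ} {g : ℤ} {y y' : (E.X q).carrier} (h : Kl E j q g y) (h' : Kl E j q g y') :
    Kl E j q g (y - y') :=
  ⟨sub_mem h.1 h'.1, sub_mem h.2.1 h'.2.1,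
    fun i hi => by rw [smul_sub, h.2.2 i hi, h'.2.2 i hi, sub_zero]⟩

theorem Kl.add {j q : ℕ} {g : ℤ} {y y' : (E.X q).carrier} (h : Kl E j q g y) (h' : Kl E j q g y') :
    Kl E j q g (y + y') :=
  ⟨add_mem h.1 h'.1, add_mem h.2.1 h'.2.1,
    fun i hi => by rw [smul_add, h.2.2 i hi, h'.2.2 i hi, add_zero]⟩

theorem Kl.zero {j q : ℕ} {g : ℤ} : Kl E j q g 0 :=
  ⟨zero_mem _, zero_mem _, fun _ _ => smul_zero _⟩

theorem Kl.succ {j q : ℕ} {g : ℤ} {y : (E.X q).carrier} (h : Kl E j q g y)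
    (hx : xs k n j • y = 0) : Kl E (j + 1) q g y :=
  ⟨h.1, h.2.1, fun i hi => (Nat.lt_succ_iff_lt_or_eq.1 hi).elim (h.2.2 i) fun e => e ▸ hx⟩

theorem Kl.of_succ {j q : ℕ} {g : ℤ} {y : (E.X q).carrier} (h : Kl E (j + 1) q g y) :
    Kl E j q g y :=
  ⟨h.1, h.2.1, fun i hi => h.2.2 i (Nat.lt_succ_of_lt hi)⟩

theorem Kl.div {j q : ℕ} {g : ℤ} (hj : j < n) {z : (E.X q).carrier} (h : Kl E j q (g + 1) z) :
    ∃ w, Kl E j q g w ∧ xs k n j • w = z := by
  obtain ⟨w, h1, h2, h3, h4⟩ := exists_div_gam (E.starInj q) hj h.1 h.2.2 h.2.1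
  exact ⟨w, ⟨h1, h2, h3⟩, h4⟩

/-- One more variable. -/
theorem Van.up {j q : ℕ} {g : ℤ} (hj : j < n) (h : Van E j q g)
    (h' : ∀ q', q = q' + 1 → Van E j q' (g + 1)) : Van E (j + 1) q g := by
  intro z hz hdz
  have hb := h z hz.of_succ hdz
  cases q with
  | zero => exact hb
  | succ p =>
    obtain ⟨y, hy, hyz⟩ := hb
    have hb2 := h' p rfl _ (hy.smul j)
      (by rw [map_smul, hyz]; exact hz.2.2 j (Nat.lt_succ_self j))
    cases p with
    | zero => exact ⟨y, hy.succ hb2, hyz⟩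
    | succ p =>
      obtain ⟨w, hw, hwy⟩ := hb2
      obtain ⟨w', hw', hww'⟩ := hw.div hj
      refine ⟨y - E.d p w', (hy.sub hw'.map).succ ?_, by rw [map_sub, d_d, sub_zero, hyz]⟩
      rw [smul_sub, ← map_smul, hww', hwy, sub_self]

/-- One variable less. -/
theorem Van.down {j q : ℕ} {g : ℤ} (hj : j < n) (h : ∀ g', g ≤ g' → Van E (j + 1) q g') :
    Van E j q g := by
  have main : ∀ (N : ℕ) (g' : ℤ), g ≤ g' → ∀ z, Kl E j q g' z → E.d q z = 0 →
      xs k n j ^ N • z = 0 → IsB E j q g' z := by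
    intro N
    induction N with
    | zero =>
      intro g' _ z _ _ hN
      rw [pow_zero, one_smul] at hN
      subst hN
      cases q with
      | zero => rfl
      | succ p => exact ⟨0, Kl.zero, map_zero _⟩
    | succ N ih =>
      intro g' hg' z hz hdz hN
      have hb := ih (g' + 1) (by omega) _ (hz.smul j) (by rw [map_smul, hdz, smul_zero])
        (by rw [smul_smul, ← pow_succ, hN])
      cases q with
      | zero => exact h g' hg' z (hz.succ hb) hdz
      | succ p =>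
        obtain ⟨w, hw, hwz⟩ := hb
        obtain ⟨w', hw', hww'⟩ := hw.div hj
        obtain ⟨y, hy, hyz⟩ := h g' hg' (z - E.d p w')
          ((hz.sub hw'.map).succ (by rw [smul_sub, ← map_smul, hww', hwz, sub_self]))
          (by rw [map_sub, hdz, d_d, sub_zero])
        exact ⟨y + w', hy.of_succ.add hw', by rw [map_add, hyz, sub_add_cancel]⟩
  intro z hz hdz
  obtain ⟨N, hN⟩ := hz.2.1
  exact main N g le_rfl z hz hdz (hN _ (Ideal.pow_mem_pow (xs_mem_irrel j) N))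

/-- One degree higher. -/
theorem Van.side {j q : ℕ} {g : ℤ} (hj : j < n) (h : Van E j q g)
    (h' : Van E (j + 1) (q + 1) g) : Van E j q (g + 1) := by
  intro z hz hdz
  obtain ⟨w, hw, hwz⟩ := hz.div hj
  obtain ⟨y, hy, hyw⟩ := h' (E.d q w) (hw.map.succ (by rw [← map_smul, hwz, hdz])) (d_d q w)
  have hb := h (w - y) (hw.sub hy.of_succ) (by rw [map_sub, hyw, sub_self])
  have hzw : xs k n j • (w - y) = z := by
    rw [smul_sub, hy.2.2 j (Nat.lt_succ_self j), sub_zero, hwz]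
  cases q with
  | zero =>
    show z = 0
    rw [← hzw, show w - y = 0 from hb, smul_zero]
  | succ p =>
    obtain ⟨v, hv, hvw⟩ := hb
    exact ⟨xs k n j • v, hv.smul j, by rw [map_smul, hvw, hzw]⟩

theorem hcomp_eq_bot_iff (q : ℕ) (g : ℤ) :
    E.Hcomp (𝔪) q g = ⊥ ↔ Van E 0 q g := by
  rw [Submodule.eq_bot_iff]
  constructor
  · intro h z hz hdz
    have h0 : E.toH (𝔪) q ⟨z, hz.2.1, hdz⟩ = 0 :=
      h _ ⟨⟨z, hz.2.1, hdz⟩, hz.1, rfl⟩
    rw [StarInjRes.toH, Submodule.mkQ_apply, Submodule.Quotient.mk_eq_zero] at h0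
    cases q with
    | zero => exact (Submodule.mem_bot S).1 h0
    | succ p =>
      obtain ⟨y, hy, hyz⟩ := h0
      refine ⟨GrothGr.pr (E.X p).gr g y,
        ⟨GrothGr.pr_mem _ g y, pr_mem_gam hy, fun i hi => absurd hi i.not_lt_zero⟩, ?_⟩
      rw [GrothGr.map_pr _ _ (E.d_grHom p), show E.d p y = z from hyz,
        GrothGr.pr_of_mem _ hz.1]
  · rintro h _ ⟨⟨z, hz1, hz2⟩, hzg, rfl⟩
    rw [StarInjRes.toH, Submodule.mkQ_apply, Submodule.Quotient.mk_eq_zero]
    have hb := h z ⟨hzg, hz1, fun i hi => absurd hi i.not_lt_zero⟩ hz2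
    cases q with
    | zero =>
      show z ∈ (⊥ : Submodule S _)
      exact (Submodule.mem_bot _).2 hb
    | succ p =>
      obtain ⟨y, hy, hyz⟩ := hb
      exact ⟨y, hy.2.1, hyz⟩

/-! ### Koszul cohomology -/

variable (E) in
/-- The pieces of the cocycles of the resolution. -/
abbrev cyc (q : ℕ) : ℤ → AddSubgroup (E.X q).carrier := Kos.kerP (E.X q).gr (E.d q)

theorem stable_X (q : ℕ) : Kos.Stable (xs k n) (E.X q).gr :=
  fun v g z hz => xs_smul_mem _ v g z hz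

theorem ex_X (q : ℕ) {p : ℕ} (hp : 0 < p) (g : ℤ) : Kos.Ex (xs k n) (E.X q).gr n p g :=
  Kos.ex_of_div (stable_X q) n (fun _ hv _ _ hz hk => exists_div_gr (E.starInj q) hv hz hk) p hp g

theorem d_mem_cyc (q : ℕ) (g : ℤ) (b : (E.X q).carrier) (hb : b ∈ (E.X q).gr g) :
    E.d q b ∈ cyc E (q + 1) g :=
  ⟨E.d_grHom q g b hb, d_d q b⟩

theorem exists_of_cyc (q : ℕ) (g : ℤ) (c : (E.X (q + 1)).carrier) (hc : c ∈ cyc E (q + 1) g) :
    ∃ b ∈ (E.X q).gr g, E.d q b = c := by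
  obtain ⟨b, rfl⟩ : c ∈ LinearMap.range (E.d q) := by rw [← E.exact_succ q]; exact hc.2
  exact ⟨GrothGr.pr (E.X q).gr g b, GrothGr.pr_mem _ g b, by
    rw [GrothGr.map_pr _ _ (E.d_grHom q), GrothGr.pr_of_mem _ hc.1]⟩

theorem ex_cyc_iff : ∀ (q : ℕ) {p : ℕ}, 0 < p → ∀ (g : ℤ),
    (Kos.Ex (xs k n) (cyc E q) n p g ↔ Kos.Ex (xs k n) (cyc E 0) n (p + q) g)
  | 0, _, _, _ => Iff.rfl
  | q + 1, p, hp, g => by
    rw [show p + (q + 1) = p + 1 + q by omega, ← ex_cyc_iff q (Nat.succ_pos p) g]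
    exact ⟨Kos.exA_of (stable_X q) (d_mem_cyc q) (exists_of_cyc q)
        fun f hf h0 => ex_X q (Nat.succ_pos p) g f hf.of_kerP h0,
      Kos.exQ_of (stable_X q) (d_mem_cyc q) (exists_of_cyc q) (ex_X q hp g)⟩

theorem van_zero_iff (g : ℤ) : Van E n 0 g ↔ Kos.Ex (xs k n) (cyc E 0) n 0 g := by
  constructor
  · intro h f hf h0
    have hm : f ∅ ∈ cyc E 0 g := by simpa using hf.mem ∅
    have hk : ∀ i < n, xs k n i • f ∅ = 0 := fun i hi => by
      rw [← Kos.δ_singleton (xs k n) n f hi, h0]; rfl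
    have hz : f ∅ = 0 := h (f ∅) ⟨hm.1, gam_of_killed hk, hk⟩ hm.2
    refine funext fun s => ?_
    by_cases hs : s = ∅
    · subst hs; exact hz
    · exact hf.supp s fun h' => hs (Finset.card_eq_zero.1 h'.2)
  · intro h z hz hdz
    have hK : Kos.InK (cyc E 0) n 0 g (Kos.pt ∅ z) :=
      Kos.InK.pt (by rw [Nat.cast_zero, add_zero]; exact ⟨hz.1, hdz⟩) (Finset.empty_subset _)
        Finset.card_empty
    have := h _ hK (Kos.δ_eq_zero_of_killed _ n fun i hi t => ?_)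
    · show z = 0
      simpa using congrFun this ∅
    · unfold Kos.pt
      split_ifs
      · exact hz.2.2 i hi
      · exact smul_zero _

theorem van_succ_iff (q : ℕ) (g : ℤ) :
    Van E n (q + 1) g ↔ Kos.Ex (xs k n) (cyc E q) n 1 g := by
  rw [Kos.ex_one_iff (stable_X q) (d_mem_cyc q) (exists_of_cyc q) (ex_X q Nat.one_pos g)]
  constructor
  · intro h z hz hk
    obtain ⟨y, hy, hyz⟩ := h z ⟨hz.1, gam_of_killed hk, hk⟩ hz.2
    exact ⟨y, hy.1, hy.2.2, hyz⟩
  · intro h z hz hdz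
    obtain ⟨y, hy, hyk, hyz⟩ := h z ⟨hz.1, hdz⟩ hz.2.2
    exact ⟨y, ⟨hy, gam_of_killed hyk, hyk⟩, hyz⟩

/-- All variables: Koszul cohomology. -/
theorem van_iff_ex (q : ℕ) (g : ℤ) :
    Van E n q g ↔ Kos.Ex (xs k n) (fun g => (ℳ g).toAddSubgroup) n q g := by
  have h1 : Van E n q g ↔ Kos.Ex (xs k n) (cyc E 0) n q g := by
    cases q with
    | zero => exact van_zero_iff g
    | succ q => rw [van_succ_iff, ex_cyc_iff q Nat.one_pos, add_comm 1 q]
  rw [h1]
  refine (Kos.ex_congr (W := fun g => (ℳ g).toAddSubgroup) E.ε E.ε_injective (fun e => ?_) n q g).symm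
  ext z
  constructor
  · rintro ⟨hz, hdz⟩
    obtain ⟨m, rfl⟩ : z ∈ LinearMap.range E.ε := by rw [← E.exact_zero]; exact hdz
    refine ⟨pr ℳ e m, pr_mem ℳ e m, ?_⟩
    have h : ∀ m, E.ε (pr ℳ e m) = GrothGr.pr (E.X 0).gr e (E.ε m) := by
      intro m
      induction m using Decomposition.inductionOn ℳ with
      | zero => simp
      | @homogeneous a m =>
        by_cases h : a = e
        · subst h
          rw [pr_of_mem ℳ m.2, GrothGr.pr_of_mem _ (E.ε_grHom a _ m.2)]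
        · rw [pr_of_mem_ne ℳ m.2 h, GrothGr.pr_of_mem_ne _ (E.ε_grHom a _ m.2) h, map_zero]
      | add a b ha hb => simp [ha, hb]
    show E.ε (pr ℳ e m) = E.ε m
    rw [h, GrothGr.pr_of_mem _ hz]
  · rintro ⟨m, hm, rfl⟩
    refine ⟨E.ε_grHom e m hm, ?_⟩
    show E.d 0 (E.ε m) = 0
    rw [← LinearMap.mem_ker, E.exact_zero]
    exact ⟨m, rfl⟩

end poly

end

end Groth.GrSyzLib
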