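import Groth.Agent.GrSyz.Res
import Mathlib.CategoryTheory.Monoidal.Tor
import Mathlib.CategoryTheory.Abelian.LeftDerived
import Mathlib.Algebra.Category.ModuleCat.Monoidal.Basic
import Mathlib.Algebra.Category.ModuleCat.Projective
import Mathlib.LinearAlgebra.TensorProduct.Pi
import Mathlib.Algebra.Homology.ShortComplex.ModuleCat

/-!
A free resolution as a projective resolution in `ModuleCat`, and Tor against it.
-/

set_option autoImplicit false

universe u

namespace Groth.GrSyzLib

open MvPolynomial DirectSum CategoryTheory Limits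
open scoped TensorProduct

noncomputable section

variable {k : Type u} [Field k] {σ : Type}
variable {M : Type u} [AddCommGroup M] [Module k M] [Module (MvPolynomial σ k) M]
  {ℳ : ℤ → Submodule k M} [Decomposition ℳ] [SetLike.GradedSMul (GrSyz.stdGr k σ) ℳ]
  (F : GrSyz.FreeRes (GrSyz.stdGr k σ) ℳ)

/-- The complex of a resolution. -/
def cx : ChainComplex (ModuleCat.{u} (MvPolynomial σ k)) ℕ :=
  ChainComplex.of (fun i => ModuleCat.of (MvPolynomial σ k) (Fin (F.rk i) → MvPolynomial σ k))
    (fun i => ModuleCat.ofHom (F.d i).mulVecLin) fun i => by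
      rw [← ModuleCat.ofHom_comp, ← Matrix.mulVecLin_mul, d_mul_d, Matrix.mulVecLin_zero]
      rfl

theorem cx_d (i : ℕ) : (cx F).d (i + 1) i = ModuleCat.ofHom (F.d i).mulVecLin :=
  ChainComplex.of_d (fun i => ModuleCat.of (MvPolynomial σ k) (Fin (F.rk i) → MvPolynomial σ k))
    (fun i => ModuleCat.ofHom (F.d i).mulVecLin) i

theorem cx_d_aug : (cx F).d 1 0 ≫
    ModuleCat.ofHom (Fintype.linearCombination (MvPolynomial σ k) F.aug) = 0 := by
  rw [cx_d F 0]
  refine ModuleCat.hom_ext (LinearMap.ext fun v => ?_)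
  exact F.exact_zero.ge ⟨v, rfl⟩

/-- The augmentation. -/
def cxπ : cx F ⟶ (ChainComplex.single₀ _).obj (ModuleCat.of (MvPolynomial σ k) M) :=
  ((cx F).toSingle₀Equiv _).symm
    ⟨ModuleCat.ofHom (Fintype.linearCombination (MvPolynomial σ k) F.aug), cx_d_aug F⟩

theorem cxπ_f_zero :
    (cxπ F).f 0 = ModuleCat.ofHom (Fintype.linearCombination (MvPolynomial σ k) F.aug) :=
  ChainComplex.toSingle₀Equiv_symm_apply_f_zero _ _

theorem quasiIso_cxπ : QuasiIso (cxπ F) where
  quasiIsoAt m := by
    cases m with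
    | zero =>
      rw [ChainComplex.quasiIsoAt₀_iff, ShortComplex.quasiIso_iff_of_zeros' _
        ((cx F).shape _ _ (by simp)) (HomologicalComplex.single_obj_d (ComplexShape.down ℕ) _ _ _ _)
        (HomologicalComplex.single_obj_d (ComplexShape.down ℕ) _ _ _ _)]
      constructor
      · rw [ShortComplex.moduleCat_exact_iff_range_eq_ker]
        show LinearMap.range ((cx F).d 1 0).hom = LinearMap.ker ((cxπ F).f 0).hom
        rw [cxπ_f_zero, cx_d F 0]
        exact F.exact_zero.symm
      · show Epi ((cxπ F).f 0)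
        rw [cxπ_f_zero]
        exact (ModuleCat.epi_iff_surjective _).2 F.aug_surjective
    | succ m =>
      rw [quasiIsoAt_iff_exactAt' (hL := ChainComplex.exactAt_succ_single_obj ..),
        HomologicalComplex.exactAt_iff' _ (m + 2) (m + 1) m (by simp) (by simp),
        ShortComplex.moduleCat_exact_iff_range_eq_ker]
      show LinearMap.range ((cx F).d (m + 2) (m + 1)).hom = LinearMap.ker ((cx F).d (m + 1) m).hom
      rw [cx_d F (m + 1), cx_d F m]
      exact (F.exact_succ m).symm

/-- The projective resolution. -/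
def projRes : ProjectiveResolution (ModuleCat.of (MvPolynomial σ k) M) where
  complex := cx F
  projective i := (IsProjective.iff_projective _).1
    (inferInstanceAs (Module.Projective (MvPolynomial σ k) (Fin (F.rk i) → MvPolynomial σ k)))
  π := cxπ F
  quasiIso := quasiIso_cxπ F

theorem lTensor_eq_zero {R : Type*} [CommRing R] (I : Ideal R) {n m : ℕ}
    (A : Matrix (Fin n) (Fin m) R) (hA : ∀ a b, A a b ∈ I) :
    A.mulVecLin.lTensor (R ⧸ I) = 0 := by
  classical
  refine TensorProduct.ext' fun q v => ?_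
  obtain ⟨c, rfl⟩ := Ideal.Quotient.mk_surjective q
  rw [LinearMap.lTensor_tmul, Matrix.mulVecLin_apply, LinearMap.zero_apply,
    ← Finset.univ_sum_single (A.mulVec v), TensorProduct.tmul_sum]
  refine Finset.sum_eq_zero fun a _ => ?_
  rw [show (Pi.single a (A.mulVec v a) : Fin n → R) = A.mulVec v a • Pi.single a (1 : R) by
      rw [← Pi.single_smul, smul_eq_mul, mul_one], TensorProduct.tmul_smul, TensorProduct.smul_tmul',
    ← Ideal.Quotient.mk_eq_mk, ← Submodule.Quotient.mk_smul,
    (Submodule.Quotient.mk_eq_zero I).2, TensorProduct.zero_tmul]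
  exact Ideal.mul_mem_right _ _ (by
    rw [Matrix.mulVec, dotProduct]
    exact Ideal.sum_mem _ fun b _ => Ideal.mul_mem_right _ _ (hA a b))

/-- The homology of `S/I ⊗ F` when the differentials have entries in `I`. -/
def torEquiv (I : Ideal (MvPolynomial σ k)) (hF : F.IsMinimal I) (i : ℕ) :
    ((CategoryTheory.Tor (ModuleCat.{u} (MvPolynomial σ k)) i).obj
        (ModuleCat.of (MvPolynomial σ k) (MvPolynomial σ k ⧸ I))).obj
      (ModuleCat.of (MvPolynomial σ k) M) ≃ₗ[MvPolynomial σ k]
      (Fin (F.rk i) → MvPolynomial σ k ⧸ I) :=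
  let G := (MonoidalCategory.tensoringLeft (ModuleCat.{u} (MvPolynomial σ k))).obj
    (ModuleCat.of (MvPolynomial σ k) (MvPolynomial σ k ⧸ I))
  let K := (G.mapHomologicalComplex (ComplexShape.down ℕ)).obj (cx F)
  have hK : ∀ a b, K.d a b = 0 := fun a b => by
    by_cases h : (ComplexShape.down ℕ).Rel a b
    · obtain rfl : b + 1 = a := h
      show G.map ((cx F).d (b + 1) b) = 0
      rw [cx_d F b]
      exact ModuleCat.hom_ext (lTensor_eq_zero I (F.d b) (hF b))
    · exact K.shape a b h
  ((projRes F).isoLeftDerivedObj G i ≪≫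
      (K.isoHomologyπ _ i rfl (hK _ _)).symm ≪≫ K.iCyclesIso i _ rfl (hK _ _)).toLinearEquiv ≪≫ₗ
    TensorProduct.piScalarRight (MvPolynomial σ k) (MvPolynomial σ k) (MvPolynomial σ k ⧸ I)
      (Fin (F.rk i))

end

end Groth.GrSyzLib
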