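import Groth.Agent.GrSyz.BettiKoszul

/-!
A criterion for the vanishing of a graded Betti number through iterated linear syzygies: contracting
homotopies of the Koszul complex and words of linear syzygies.
-/

set_option autoImplicit false

universe u

namespace Groth.GrSyzLib

namespace Kos

open Finset

variable {R : Type*} [CommRing R] {M : Type*} [AddCommGroup M] [Module R M] {x : ℕ → R}

theorem δ_smul (j : ℕ) (a : R) (f : Finset ℕ → M) : δ x j (a • f) = a • δ x j f :=
  δ_map x (a • LinearMap.id : M →ₗ[R] M) j f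

theorem δ_sum {ι : Type*} (s : Finset ι) (j : ℕ) (f : ι → Finset ℕ → M) :
    δ x j (∑ l ∈ s, f l) = ∑ l ∈ s, δ x j (f l) :=
  map_sum (AddMonoidHom.mk' (δ x j) (δ_add x j)) f s

/-- The contraction by the index `v`. -/
def contr (v : ℕ) (f : Finset ℕ → M) : Finset ℕ → M :=
  fun s => if v ∈ s then 0 else (-1 : R) ^ {l ∈ s | l < v}.card • f (insert v s)

theorem δ_contr : ∀ (j : ℕ) (f : Finset ℕ → M) {v : ℕ} {s : Finset ℕ}, v < j → s ⊆ range j →
    δ x j (contr (R := R) v f) s + contr (R := R) v (δ x j f) s = x v • f s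
  | 0, _, v, _, h, _ => absurd h v.not_lt_zero
  | j + 1, f, v, s, hv, hs => by
    have hs' : s.erase j ⊆ range j := fun l hl => by
      obtain ⟨h1, h2⟩ := mem_erase.1 hl
      have := mem_range.1 (hs h2)
      exact mem_range.2 (by omega)
    rcases Nat.lt_or_eq_of_le (Nat.le_of_lt_succ hv) with hvj | rfl
    · -- the index is below the last one
      rw [δ_succ]
      by_cases hj : j ∈ s
      · rw [if_pos hj]
        have key := δ_contr j (fun t => f (insert j t)) hvj hs'
        have hfil : {l ∈ s | l < v} = {l ∈ s.erase j | l < v} := by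
          ext l
          simp only [mem_filter, mem_erase]
          exact ⟨fun h => ⟨⟨by omega, h.1⟩, h.2⟩, fun h => ⟨h.1.2, h.2⟩⟩
        have h1 : δ x j (fun t => contr (R := R) v f (insert j t)) (s.erase j) =
            δ x j (contr (R := R) v fun t => f (insert j t)) (s.erase j) :=
          δ_congr x j fun i _ _ => by
            have hnot : j ∉ (s.erase j).erase i := fun h => notMem_erase j s (mem_of_mem_erase h)
            have hf : {l ∈ insert j ((s.erase j).erase i) | l < v} =
                {l ∈ (s.erase j).erase i | l < v} := by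
              rw [filter_insert, if_neg (by omega)]
            simp only [contr, mem_insert, hvj.ne, false_or, hf, insert_comm j v]
        rw [h1]
        by_cases hvs : v ∈ s.erase j
        · have hvs' : v ∈ s := mem_of_mem_erase hvs
          simp only [contr, if_pos hvs', if_pos hvs, smul_zero, add_zero] at key ⊢
          rw [key, insert_erase hj]
        · have hvs' : v ∉ s := fun h => hvs (mem_erase.2 ⟨hvj.ne, h⟩)
          have hins : (insert v s).erase j = insert v (s.erase j) := erase_insert_of_ne hvj.ne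
          simp only [contr, if_neg hvs', if_neg hvs] at key ⊢
          rw [δ_succ, if_pos (mem_insert_of_mem hj), hins, card_insert_of_notMem hvs, hfil]
          rw [smul_add, smul_smul, smul_smul]
          rw [insert_erase hj] at key
          rw [← key]
          have : (-1 : R) ^ {l ∈ s.erase j | l < v}.card * ((-1) ^ ((s.erase j).card + 1) * x j) =
              -((-1 : R) ^ (s.erase j).card * x j * (-1) ^ {l ∈ s.erase j | l < v}.card) := by ring
          rw [this, neg_smul]
          abel
      · rw [if_neg hj]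
        have hs'' : s ⊆ range j := by rwa [erase_eq_of_notMem hj] at hs'
        rw [← δ_contr j f hvj hs'']
        congr 1
        simp only [contr]
        split_ifs
        · rfl
        · rw [δ_succ, if_neg]
          simp [hj, hvj.ne']
    · -- the index is the last one
      rw [δ_succ]
      by_cases hj : v ∈ s
      · rw [if_pos hj, δ_congr x v (g := 0) fun i hi _ => ?_, δ_fun_zero, Pi.zero_apply, zero_add]
        · have hfil : {l ∈ s.erase v | l < v} = s.erase v :=
            filter_true_of_mem fun l hl => mem_range.1 (hs' hl)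
          simp only [contr, if_pos hj, add_zero, if_neg (notMem_erase v s), hfil, insert_erase hj]
          rw [smul_smul, mul_right_comm, ← mul_pow, neg_one_mul, neg_neg, one_pow, one_mul]
        · simp [contr]
      · rw [if_neg hj]
        rw [erase_eq_of_notMem hj] at hs'
        have h1 : δ x v (contr (R := R) v f) s =
            δ x v (tw (1 : R) fun t => f (insert v t)) s := δ_congr x v fun i _ _ => by
          have hnot : v ∉ s.erase i := fun h => hj (mem_of_mem_erase h)
          have hf : {l ∈ s.erase i | l < v} = s.erase i :=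
            filter_true_of_mem fun l hl => mem_range.1 (hs' (mem_of_mem_erase hl))
          simp only [contr, tw, if_neg hnot, hf, mul_one]
        rw [h1, δ_tw]
        have hfil : {l ∈ s | l < v} = s := filter_true_of_mem fun l hl => mem_range.1 (hs' hl)
        simp only [contr, tw, if_neg hj, hfil, δ_succ, mem_insert_self, if_true, erase_insert hj,
          smul_add, smul_smul, mul_one]
        rw [neg_add_cancel_left, ← mul_assoc, ← mul_pow, neg_one_mul, neg_neg, one_pow, one_mul]

variable {W : ℤ → AddSubgroup M} {j p q : ℕ} {g : ℤ} {f f' : Finset ℕ → M}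

theorem InK.contr {v : ℕ} (hv : v < j) (h : InK W j (q + 1) g f) :
    InK W j q (g + 1) (contr (R := R) v f) := by
  refine ⟨fun s => ?_, fun s hs => ?_⟩ <;> unfold Kos.contr <;> split_ifs with hvs
  · exact zero_mem _
  · rw [show g + 1 + (q : ℤ) = g + ((q + 1 : ℕ) : ℤ) by push_cast; ring]
    exact sign_smul_mem _ (h.mem _)
  · rfl
  · rw [h.supp, smul_zero]
    rintro ⟨h1, h2⟩
    rw [card_insert_of_notMem hvs] at h2
    exact hs ⟨(subset_insert v s).trans h1, by omega⟩

theorem Bd.add : ∀ {p : ℕ}, Bd x W j p g f → Bd x W j p g f' → Bd x W j p g (f + f')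
  | 0, h, h' => by
    show f + f' = 0
    rw [show f = 0 from h, show f' = 0 from h', add_zero]
  | _ + 1, ⟨a, ha, hae⟩, ⟨b, hb, hbe⟩ => ⟨a + b, ha.add hb, by rw [δ_add, hae, hbe]⟩

theorem Bd.sum {ι : Type*} (s : Finset ι) (F : ι → Finset ℕ → M)
    (h : ∀ l ∈ s, Bd x W j p g (F l)) : Bd x W j p g (∑ l ∈ s, F l) :=
  Finset.sum_induction F (Bd x W j p g) (fun _ _ ha hb => ha.add hb) (Bd.zero p) h

/-- Multiplication by a term of the sequence kills Koszul cohomology. -/
theorem bd_smul (hW : Stable x W) {v : ℕ} (hv : v < j) (hf : InK W j p g f) (h0 : δ x j f = 0) :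
    Bd x W j p (g + 1) (x v • f) := by
  have key : δ x j (contr (R := R) v f) = x v • f := funext fun s => by
    by_cases hs : s ⊆ range j
    · have := δ_contr (x := x) j f hv hs
      rw [h0] at this
      simpa [Kos.contr] using this
    · cases p with
      | zero =>
        rw [δ_congr x j (g := 0) fun i _ _ => ?_, δ_fun_zero, Pi.smul_apply,
          hf.supp s fun h => hs h.1, smul_zero, Pi.zero_apply]
        unfold Kos.contr
        split_ifs
        · rfl
        · rw [hf.supp _ fun h => insert_ne_empty _ _ (card_eq_zero.1 h.2), smul_zero, Pi.zero_apply]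
      | succ q =>
        rw [((hf.contr hv).delta hW).supp s fun h => hs h.1, Pi.smul_apply,
          hf.supp s fun h => hs h.1, smul_zero]
  cases p with
  | zero =>
    show x v • f = 0
    rw [← key, show contr (R := R) v f = 0 from funext fun s => by
      unfold Kos.contr
      split_ifs
      · rfl
      · rw [hf.supp _ fun h => insert_ne_empty _ _ (card_eq_zero.1 h.2), smul_zero, Pi.zero_apply],
      δ_fun_zero]
  | succ q => exact ⟨_, hf.contr hv, key⟩

end Kos

noncomputable section

open DirectSum MvPolynomial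

variable {k : Type u} [Field k] {n : ℕ}

local notation "S" => MvPolynomial (Fin n) k

variable (k n) (M : Type u) [AddCommGroup M] [Module (MvPolynomial (Fin n) k) M]

/-- Functions on words satisfying the linear relation in every slot. -/
def words (i : ℕ) : Submodule (MvPolynomial (Fin n) k) ((Fin i → Fin n) → M) where
  carrier := {m | ∀ (s : Fin i) (c : Fin i → Fin n),
    ∑ v : Fin n, (X v : MvPolynomial (Fin n) k) • m (Function.update c s v) = 0}
  add_mem' ha hb s c := by simp [smul_add, Finset.sum_add_distrib, ha s c, hb s c]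
  zero_mem' s c := by simp
  smul_mem' a m hm s c := by
    simp only [Pi.smul_apply]
    simp_rw [smul_comm _ a]
    rw [← Finset.smul_sum, hm s c, smul_zero]

/-- Evaluation of words at a last letter. -/
def lastLetter (i : ℕ) (v : Fin n) :
    ((Fin (i + 1) → Fin n) → M) →ₗ[MvPolynomial (Fin n) k] ((Fin i → Fin n) → M) :=
  LinearMap.funLeft _ _ fun c => Fin.snoc c v

variable {k n M} [Module k M] (ℳ : ℤ → Submodule k M)

/-- The pieces of the words. -/
def wordsW (i : ℕ) (E : ℤ) : AddSubgroup ((Fin i → Fin n) → M) :=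
  (words k n M i).toAddSubgroup ⊓ AddSubgroup.pi Set.univ fun _ => (ℳ E).toAddSubgroup

theorem mem_wordsW {i : ℕ} {E : ℤ} {m : (Fin i → Fin n) → M} :
    m ∈ wordsW ℳ i E ↔ m ∈ words k n M i ∧ ∀ c, m c ∈ ℳ E := by
  simp [wordsW, AddSubgroup.mem_inf, AddSubgroup.mem_pi]

theorem lastLetter_mem {i : ℕ} {E : ℤ} {m : (Fin (i + 1) → Fin n) → M}
    (hm : m ∈ wordsW ℳ (i + 1) E) (v : Fin n) : lastLetter k n M i v m ∈ wordsW ℳ i E := by
  obtain ⟨h1, h2⟩ := (mem_wordsW ℳ).1 hm
  refine (mem_wordsW ℳ).2 ⟨fun s c => ?_, fun c => h2 _⟩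
  simpa [lastLetter, LinearMap.funLeft, Fin.snoc_update] using h1 s.castSucc (Fin.snoc c v)

theorem sum_lastLetter {i : ℕ} {m : (Fin (i + 1) → Fin n) → M} (hm : m ∈ words k n M (i + 1)) :
    ∑ v : Fin n, (X v : S) • lastLetter k n M i v m = 0 := funext fun c => by
  rcases isEmpty_or_nonempty (Fin n) with h | ⟨⟨w⟩⟩
  · simp
  · have := hm (Fin.last i) (Fin.snoc c w)
    simpa [lastLetter, LinearMap.funLeft, Finset.sum_apply, Fin.update_snoc_last] using this

variable [Decomposition ℳ] [SetLike.GradedSMul (GrSyz.stdGr k (Fin n)) ℳ]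

theorem stable_wordsW (i : ℕ) : Kos.Stable (xs k n) (wordsW (n := n) ℳ i) := fun v g z hz => by
  obtain ⟨h1, h2⟩ := (mem_wordsW ℳ).1 hz
  exact (mem_wordsW ℳ).2 ⟨Submodule.smul_mem _ _ h1, fun c => by
    rw [add_comm g]; exact smul_mem' ℳ (xs_mem v) (h2 c)⟩

variable {D : ℤ}

/-- Generation below `D` writes a piece from `D` on through the variables. -/
theorem exists_eq_sum_smul {i : ℕ} {E : ℤ} (hE : D ≤ E) {m : (Fin i → Fin n) → M}
    (hm : m ∈ wordsW ℳ i E)
    (hgen : words k n M i ≤
      Submodule.span S {m' | ∃ e : ℤ, e ≤ D - 1 ∧ m' ∈ wordsW ℳ i e}) :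
    ∃ w : Fin n → (Fin i → Fin n) → M, (∀ v, w v ∈ wordsW ℳ i (E - 1)) ∧
      ∑ v : Fin n, (X v : S) • w v = m := by
  classical
  obtain ⟨hm1, hm2⟩ := (mem_wordsW ℳ).1 hm
  obtain ⟨N, a, g, hg⟩ := Submodule.mem_span_set'.1 (hgen hm1)
  choose e he hge using fun l => (g l).2
  have hirr : ∀ l, pr (GrSyz.stdGr k (Fin n)) (E - e l) (a l) ∈
      (GrSyz.irrel (GrSyz.stdGr k (Fin n))).toIdeal := fun l =>
    mem_irrel_iff.2 (constantCoeff_eq_zero_of_ne (by have := he l; omega) (pr_mem _ _ _))
  simp only [irrel_eq_idealOfVars, idealOfVars, Ideal.mem_span_range_iff_exists_fun] at hirr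
  choose b hb using hirr
  refine ⟨fun v => ∑ l, pr (GrSyz.stdGr k (Fin n)) (E - e l - 1) (b l v) •
    (g l : (Fin i → Fin n) → M), fun v => ?_, ?_⟩
  · refine sum_mem fun l _ => (mem_wordsW ℳ).2
      ⟨Submodule.smul_mem _ _ ((mem_wordsW ℳ).1 (hge l)).1, fun c => ?_⟩
    have := smul_mem' ℳ (pr_mem (GrSyz.stdGr k (Fin n)) (E - e l - 1) (b l v))
      (((mem_wordsW ℳ).1 (hge l)).2 c)
    rwa [show E - e l - 1 + e l = E - 1 by ring] at this
  · funext c
    calc (∑ v : Fin n, (X v : S) • ∑ l, pr (GrSyz.stdGr k (Fin n)) (E - e l - 1) (b l v) •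
          (g l : (Fin i → Fin n) → M)) c
        = ∑ l, (∑ v : Fin n, pr (GrSyz.stdGr k (Fin n)) (E - e l) (b l v * X v)) •
            (g l : (Fin i → Fin n) → M) c := by
          simp only [Finset.sum_apply, Pi.smul_apply, Finset.smul_sum, Finset.sum_smul]
          rw [Finset.sum_comm]
          refine Finset.sum_congr rfl fun l _ => Finset.sum_congr rfl fun v _ => ?_
          rw [smul_smul, mul_comm (b l v) (X v), ← smul_eq_mul (X v) (b l v),
            pr_smul_left (GrSyz.stdGr k (Fin n)) (X_mem v), smul_eq_mul]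
      _ = ∑ l, pr (GrSyz.stdGr k (Fin n)) (E - e l) (a l) • (g l : (Fin i → Fin n) → M) c := by
          refine Finset.sum_congr rfl fun l _ => ?_
          rw [← map_sum, hb l, pr_of_mem _ (pr_mem _ _ _)]
      _ = ∑ l, pr ℳ E (a l • (g l : (Fin i → Fin n) → M) c) :=
          Finset.sum_congr rfl fun l _ =>
            (pr_smul_right ℳ (((mem_wordsW ℳ).1 (hge l)).2 c) _ _).symm
      _ = m c := by
          rw [← map_sum, ← pr_of_mem ℳ (hm2 c), ← hg]
          simp [Finset.sum_apply]

variable {p : ℕ}
  (hgen : ∀ i, i ≤ p → words k n M i ≤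
    Submodule.span (MvPolynomial (Fin n) k) {m' | ∃ e : ℤ, e ≤ D - 1 ∧ m' ∈ wordsW ℳ i e})

include hgen in
theorem ex_wordsW : ∀ (d q i : ℕ) (g : ℤ), q + d = n → i + d ≤ p → D ≤ g + q →
    Kos.Ex (xs k n) (wordsW (n := n) ℳ i) n q g
  | 0, q, i, g, hq, hi, hE => by
    obtain rfl : q = n := hq
    refine (Kos.ex_top_iff (stable_wordsW ℳ i) q g).2 fun z hz => ?_
    obtain ⟨w, hw, hws⟩ := exists_eq_sum_smul ℳ hE hz (hgen i (by omega))
    refine ⟨fun l => if h : l < q then w ⟨l, h⟩ else 0, fun l => ?_, ?_⟩
    · dsimp only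
      split_ifs
      · exact hw _
      · exact zero_mem _
    · rw [← hws, Finset.sum_range]
      exact Finset.sum_congr rfl fun v _ => by dsimp only; rw [dif_pos v.2, xs_of_lt v.2]
  | d + 1, q, i, g, hq, hi, hE => fun f hf h0 => by
    classical
    choose w hw hws using fun s => exists_eq_sum_smul ℳ hE (hf.mem s) (hgen i (by omega))
    let y : Fin n → Finset ℕ → (Fin i → Fin n) → M := fun v s =>
      if s ⊆ Finset.range n ∧ s.card = q then w s v else 0
    have hy : ∀ v, Kos.InK (wordsW ℳ i) n q (g - 1) (y v) := fun v =>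
      ⟨fun s => by
        simp only [y]
        split_ifs
        · rw [show g - 1 + (q : ℤ) = g + q - 1 by ring]
          exact hw s v
        · exact zero_mem _, fun s hs => if_neg hs⟩
    have hfy : f = ∑ v : Fin n, (X v : S) • y v := funext fun s => by
      simp only [Finset.sum_apply, Pi.smul_apply, y]
      split_ifs with h
      · exact (hws s).symm
      · simp [hf.supp s h]
    have hdy := fun v => (hy v).delta (stable_wordsW ℳ i)
    have hsum : ∑ v : Fin n, (X v : S) • Kos.δ (xs k n) n (y v) = 0 := by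
      rw [← h0, hfy, Kos.δ_sum]
      exact Finset.sum_congr rfl fun v _ => (Kos.δ_smul _ _ _).symm
    let u : Finset ℕ → (Fin (i + 1) → Fin n) → M := fun s c =>
      Kos.δ (xs k n) n (y (c (Fin.last i))) s (Fin.init c)
    have hu : Kos.InK (wordsW ℳ (i + 1)) n (q + 1) (g - 1) u := by
      refine ⟨fun s => (mem_wordsW ℳ).2 ⟨fun l c => ?_, fun c => ?_⟩, fun s hs => funext fun c => ?_⟩
      · refine Fin.lastCases ?_ (fun l => ?_) l
        · simpa [u, Finset.sum_apply] using congrFun (congrFun hsum s) (Fin.init c)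
        · simpa [u, Fin.init_update_castSucc, Fin.castSucc_ne_last, Function.update_of_ne,
            (Fin.castSucc_ne_last l).symm] using
            ((mem_wordsW ℳ).1 ((hdy (c (Fin.last i))).mem s)).1 l (Fin.init c)
      · exact ((mem_wordsW ℳ).1 ((hdy (c (Fin.last i))).mem s)).2 _
      · simp [u, (hdy (c (Fin.last i))).supp s hs]
    have hu0 : Kos.δ (xs k n) n u = 0 := funext fun s => funext fun c => by
      have e1 := congrFun (Kos.δ_map (xs k n)
        (LinearMap.proj c : ((Fin (i + 1) → Fin n) → M) →ₗ[S] M) n u) s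
      have e2 := congrFun (Kos.δ_map (xs k n)
        (LinearMap.proj (Fin.init c) : ((Fin i → Fin n) → M) →ₗ[S] M) n
        (Kos.δ (xs k n) n (y (c (Fin.last i))))) s
      rw [Kos.δ_δ] at e2
      simp only [LinearMap.proj_apply, Pi.zero_apply] at e1 e2 ⊢
      exact e1.symm.trans e2
    obtain ⟨t, ht, htu⟩ :=
      ex_wordsW d (q + 1) (i + 1) (g - 1) (by omega) (by omega) (by push_cast; omega) u hu hu0
    have hy' : ∀ v : Fin n,
        Kos.InK (wordsW ℳ i) n q (g - 1) (y v - fun s => lastLetter k n M i v (t s)) ∧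
        Kos.δ (xs k n) n (y v - fun s => lastLetter k n M i v (t s)) = 0 := fun v => by
      refine ⟨(hy v).sub (ht.map fun _ b hb => lastLetter_mem ℳ hb v), ?_⟩
      rw [Kos.δ_sub, Kos.δ_map, htu, sub_eq_zero]
      exact funext fun s => funext fun c => by simp [u, lastLetter, LinearMap.funLeft]
    have hf' : f = ∑ v : Fin n, xs k n v • (y v - fun s => lastLetter k n M i v (t s)) := by
      refine funext fun s => ?_
      have := sum_lastLetter (k := k) ((mem_wordsW ℳ).1 (ht.mem s)).1
      simp only [xs_of_lt (Fin.is_lt _), Finset.sum_apply, Pi.smul_apply, Pi.sub_apply, smul_sub,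
        Finset.sum_sub_distrib, Fin.eta, this, sub_zero]
      rw [hfy]
      simp [Finset.sum_apply]
    rw [hf']
    refine Kos.Bd.sum _ _ fun v _ => ?_
    have := Kos.bd_smul (stable_wordsW ℳ i) v.2 (hy' v).1 (hy' v).2
    rwa [sub_add_cancel] at this

variable [Module.Finite (MvPolynomial (Fin n) k) M]

include hgen in
/-- Vanishing of a Betti number from generation of the iterated linear syzygies. -/
theorem betti_eq_zero_of_words {j : ℤ} (hD : D = j - p) (F : GrSyz.FreeRes (GrSyz.stdGr k (Fin n)) ℳ)
    (hF : F.IsMinimal (GrSyz.irrel (GrSyz.stdGr k (Fin n))).toIdeal) : F.betti p j = 0 := by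
  rw [GrSyz.FreeRes.betti, Finset.card_eq_zero, Finset.filter_eq_empty_iff]
  intro b _ hb
  rcases Nat.lt_or_ge n p with hp | hp
  · have := (hasLengthLE_iff F hF n).2 (pdLT_polynomial M) p hp
    exact absurd b.2 (by omega)
  · let φ : M →ₗ[S] ((Fin 0 → Fin n) → M) := LinearMap.pi fun _ => LinearMap.id
    have hφ : Function.Injective φ := fun a b h => congrFun h Fin.elim0
    have hV : ∀ E, wordsW ℳ 0 E = ((ℳ E).toAddSubgroup).map φ.toAddMonoidHom := fun E => by
      refine le_antisymm (fun m hm => ?_) ?_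
      · exact ⟨m Fin.elim0, ((mem_wordsW ℳ).1 hm).2 _,
          funext fun c => congrArg m (Subsingleton.elim _ _)⟩
      · rintro _ ⟨m, hm, rfl⟩
        exact (mem_wordsW ℳ).2 ⟨fun s => s.elim0, fun _ => hm⟩
    have hex := ex_wordsW ℳ hgen p (n - p) 0 (j - n) (by omega) (by omega) (by omega)
    have := (ex_iff_deg F hF (p := n - p) (i := p) (by omega) (j - n)).1
      ((Kos.ex_congr φ hφ hV n (n - p) (j - n)).2 hex) b
    exact this (by omega)

end

end Groth.GrSyzLib
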